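import Cfsg.Prelude.Def_GeometricClasses
import Cfsg.Agent.Lib.Geometry.TensorForm

/-!
# Plus and minus type of orthogonal sums
-/

set_option autoImplicit false
set_option linter.unusedSectionVars false

namespace CfsgLib.AschbacherOrth

open QuadraticMap Cfsg.Geo CfsgLib.Geometry
open scoped Matrix

variable {F : Type*} [Field F] {ι : Type} [Fintype ι] [DecidableEq ι]
variable {Q : QuadraticForm F (ι → F)}

/-- Orthogonality for the polar form. -/
def Orth (Q : QuadraticForm F (ι → F)) (A B : Submodule F (ι → F)) : Prop :=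
  AreOrthogonalFor (polar ⇑Q) A B

theorem Orth.symm {A B : Submodule F (ι → F)} (h : Orth Q A B) : Orth Q B A := fun u hu v hv => by
  rw [polar_comm]; exact h v hv u hu

theorem Orth.sup_left {A A' B : Submodule F (ι → F)} (h : Orth Q A B) (h' : Orth Q A' B) :
    Orth Q (A ⊔ A') B := by
  intro u hu v hv
  obtain ⟨a, ha, a', ha', rfl⟩ := Submodule.mem_sup.1 hu
  rw [polar_add_left, h a ha v hv, h' a' ha' v hv, add_zero]

theorem Orth.map_add {A B : Submodule F (ι → F)} (h : Orth Q A B) {a b : ι → F} (ha : a ∈ A)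
    (hb : b ∈ B) : Q (a + b) = Q a + Q b := by
  rw [map_add', h a ha b hb, add_zero]

theorem finrank_sup_of_disjoint {A B : Submodule F (ι → F)} (hd : Disjoint A B) :
    Module.finrank F ↥(A ⊔ B) = Module.finrank F A + Module.finrank F B := by
  have := Submodule.finrank_sup_add_finrank_inf_eq A B
  rw [hd.eq_bot, finrank_bot, add_zero] at this
  exact this

theorem plus_iff {W : Submodule F (ι → F)} :
    IsPlusTypeOn ⇑Q W ↔ ∃ U : Submodule F (ι → F), U ≤ W ∧ (∀ u ∈ U, Q u = 0) ∧
      2 * Module.finrank F U = Module.finrank F W := Iff.rfl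

/-- An orthogonal sum of plus spaces is plus. -/
theorem plus_sup {A B : Submodule F (ι → F)} (hd : Disjoint A B) (ho : Orth Q A B)
    (hA : IsPlusTypeOn ⇑Q A) (hB : IsPlusTypeOn ⇑Q B) : IsPlusTypeOn ⇑Q (A ⊔ B) := by
  obtain ⟨U, hUA, hU, hUd⟩ := hA
  obtain ⟨W, hWB, hW, hWd⟩ := hB
  refine ⟨U ⊔ W, sup_le_sup hUA hWB, fun z hz => ?_, ?_⟩
  · obtain ⟨u, hu, w, hw, rfl⟩ := Submodule.mem_sup.1 hz
    rw [ho.map_add (hUA hu) (hWB hw), hU u hu, hW w hw, add_zero]
  · rw [finrank_sup_of_disjoint hd, finrank_sup_of_disjoint (hd.mono hUA hWB)]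
    omega

/-- A plus space has plus orthogonal complement inside a plus space. -/
theorem plus_cancel (hQ : (polarBilin Q).Nondegenerate) {A B : Submodule F (ι → F)} (hc : IsCompl A B)
    (ho : Orth Q A B) (hA : IsPlusTypeOn ⇑Q A) (hV : IsPlusTypeOn ⇑Q ⊤) : IsPlusTypeOn ⇑Q B := by
  classical
  obtain ⟨S, hSA, hS, hSd⟩ := hA
  obtain ⟨U, -, hU, hUd⟩ := hV
  rw [finrank_top] at hUd
  set P := polarPerp Q S with hP
  have hn := Submodule.finrank_add_eq_of_isCompl hc
  have hBP : B ≤ P := fun b hb => mem_polarPerp.2 fun s hs => ho s (hSA hs) b hb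
  have hSP : S ≤ P := fun s hs => mem_polarPerp.2 fun s' hs' => polar_eq_zero_of_singular hS hs' hs
  have hAP : P ⊓ A = S := by
    refine (Submodule.eq_of_le_of_finrank_le (le_inf hSP hSA) ?_).symm
    have hd' : Disjoint (P ⊓ A) B := hc.disjoint.mono_left inf_le_right
    have h1 : (P ⊓ A) ⊔ B ≤ P := sup_le inf_le_left hBP
    have h2 := Submodule.finrank_mono h1
    rw [finrank_sup_of_disjoint hd'] at h2
    have h3 := finrank_polarPerp hQ S
    rw [← hP] at h3
    omega
  set T := (U ⊓ P) ⊔ S with hT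
  have hTP : T ≤ P := sup_le inf_le_right hSP
  have hTs : ∀ t ∈ T, Q t = 0 := by
    intro t ht
    obtain ⟨u, hu, s, hs, rfl⟩ := Submodule.mem_sup.1 ht
    rw [map_add', hU u hu.1, hS s hs, polar_comm, (mem_polarPerp.1 hu.2) s hs]
    ring
  have hdim : Module.finrank F U ≤ Module.finrank F T := by
    let φ : U →ₗ[F] Module.Dual F S := ((polarBilin Q).compl₂ S.subtype).comp U.subtype
    have hker : (LinearMap.ker φ).map U.subtype = U ⊓ P := by
      ext v
      constructor
      · rintro ⟨u, hu, rfl⟩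
        refine ⟨u.2, mem_polarPerp.2 fun s hs => ?_⟩
        rw [polar_comm]
        exact LinearMap.congr_fun (LinearMap.mem_ker.1 hu) ⟨s, hs⟩
      · rintro ⟨hv, hvP⟩
        refine ⟨⟨v, hv⟩, LinearMap.mem_ker.2 (LinearMap.ext fun s => ?_), rfl⟩
        show polar Q v (s : ι → F) = 0
        rw [polar_comm]
        exact (mem_polarPerp.1 hvP) s s.2
    have hrange : LinearMap.range φ ≤ ((U ⊓ S).comap S.subtype).dualAnnihilator := by
      rintro _ ⟨u, rfl⟩
      rw [Submodule.mem_dualAnnihilator]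
      intro s hs
      exact polar_eq_zero_of_singular hU u.2 hs.1
    have h1 := LinearMap.finrank_range_add_finrank_ker φ
    have h2 := Submodule.finrank_mono hrange
    have h3 := Subspace.finrank_add_finrank_dualAnnihilator_eq ((U ⊓ S).comap S.subtype)
    have h4 : Module.finrank F ↥((U ⊓ S).comap S.subtype) = Module.finrank F ↥(U ⊓ S) :=
      (Submodule.comapSubtypeEquivOfLe (inf_le_right : U ⊓ S ≤ S)).finrank_eq
    have h5 : Module.finrank F (LinearMap.ker φ) = Module.finrank F ↥(U ⊓ P) := by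
      rw [← hker, Submodule.finrank_map_subtype_eq]
    have h6 := Submodule.finrank_sup_add_finrank_inf_eq (U ⊓ P) S
    have h7 : (U ⊓ P) ⊓ S = U ⊓ S := by
      rw [inf_assoc, inf_eq_right.2 hSP]
    rw [h7] at h6
    change Module.finrank F T + _ = _ at h6
    omega
  have hsplit : T ≤ S ⊔ (T ⊓ B) := by
    intro t ht
    obtain ⟨a, ha, b, hb, rfl⟩ := Submodule.mem_sup.1 (hc.sup_eq_top ▸ Submodule.mem_top : t ∈ A ⊔ B)
    have haS : a ∈ S := by
      rw [← hAP]
      exact ⟨(Submodule.add_mem_iff_left P (hBP hb)).1 (hTP ht), ha⟩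
    exact Submodule.add_mem_sup haS
      ⟨(Submodule.add_mem_iff_right T (Submodule.mem_sup_right haS)).1 ht, hb⟩
  have h8 := Submodule.finrank_mono hsplit
  have h9 : Module.finrank F ↥(S ⊔ T ⊓ B) = Module.finrank F S + Module.finrank F ↥(T ⊓ B) :=
    finrank_sup_of_disjoint (hc.disjoint.mono hSA inf_le_right)
  have hev : Even (Module.finrank F B) := ⟨Module.finrank F U - Module.finrank F S, by omega⟩
  obtain ⟨b, hb⟩ := hev
  obtain ⟨fam, hfam⟩ := exists_linearIndependent_of_le_finrank (R := F) (M := ↥(T ⊓ B))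
    (show b ≤ Module.finrank F ↥(T ⊓ B) by omega)
  refine ⟨(Submodule.span F (Set.range fam)).map (T ⊓ B).subtype,
    (Submodule.map_subtype_le _ _).trans inf_le_right,
    fun u hu => hTs u ((Submodule.map_subtype_le _ _ hu).1), ?_⟩
  rw [Submodule.finrank_map_subtype_eq, finrank_span_eq_card hfam, Fintype.card_fin]
  omega

/-- The Gram matrix of a family for the polar form. -/
def gram (Q : QuadraticForm F (ι → F)) {κ : Type*} (v : κ → ι → F) : Matrix κ κ F :=
  Matrix.of fun i j => polar Q (v i) (v j)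

theorem plus_top_of_subtype {W : Submodule F (ι → F)} :
    (∃ X : Submodule F W, (∀ x ∈ X, Q (x : ι → F) = 0) ∧ 2 * Module.finrank F X = Module.finrank F W) ↔
      IsPlusTypeOn ⇑Q W := by
  constructor
  · rintro ⟨X, hX, hd⟩
    refine ⟨X.map W.subtype, Submodule.map_subtype_le _ _, ?_, ?_⟩
    · rintro _ ⟨x, hx, rfl⟩; exact hX x hx
    · rwa [Submodule.finrank_map_subtype_eq]
  · rintro ⟨U, hUW, hU, hd⟩
    exact ⟨U.comap W.subtype, fun x hx => hU _ hx,
      by rw [(Submodule.comapSubtypeEquivOfLe hUW).finrank_eq]; exact hd⟩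

/-- Discriminant criterion on a nondegenerate subspace. -/
theorem plus_iff_gram [Finite F] (h2 : (2 : F) ≠ 0) {W : Submodule F (ι → F)}
    (hW : IsNondegenerateOn (polar ⇑Q) W) {κ : Type*} [Fintype κ] [DecidableEq κ]
    (b : Module.Basis κ F W) {m : ℕ} (hm : Fintype.card κ = 2 * m) :
    IsPlusTypeOn ⇑Q W ↔ IsSquare ((-1) ^ m * (gram Q fun i => (b i : ι → F)).det) := by
  let B : LinearMap.BilinForm F W := (polarBilin Q).compl₁₂ W.subtype W.subtype
  have hB : B.Nondegenerate := by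
    constructor
    · intro x hx
      by_contra h0
      obtain ⟨-, y, hy, hne⟩ := hW x x.2 (fun e => h0 (Subtype.ext e))
      exact hne (hx ⟨y, hy⟩)
    · intro x hx
      by_contra h0
      obtain ⟨⟨y, hy, hne⟩, -⟩ := hW x x.2 (fun e => h0 (Subtype.ext e))
      exact hne (hx ⟨y, hy⟩)
  have hS : B.IsSymm := ⟨fun x y => QuadraticMap.polar_comm _ _ _⟩
  have hG : LinearMap.BilinForm.toMatrix b B = gram Q fun i => (b i : ι → F) := by
    ext i j; simp [LinearMap.BilinForm.toMatrix_apply, B, gram]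
  rw [← hG, ← TensorForm.exists_ti_half_iff h2 B hB hS b hm, ← plus_top_of_subtype,
    Module.finrank_eq_card_basis b, hm]
  constructor
  · rintro ⟨X, hX, hd⟩
    refine ⟨X, by omega, fun x hx y hy => ?_⟩
    exact polar_eq_zero_of_singular (W := X.map W.subtype)
      (by rintro _ ⟨z, hz, rfl⟩; exact hX z hz) ⟨x, hx, rfl⟩ ⟨y, hy, rfl⟩
  · rintro ⟨X, hd, hX⟩
    refine ⟨X, fun x hx => ?_, by omega⟩
    have h := hX x hx x hx
    change polar Q (x : ι → F) (x : ι → F) = 0 at h
    rw [polar_self'] at h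
    exact (mul_eq_zero.1 h).resolve_left h2

theorem nondeg_sup {A B : Submodule F (ι → F)} (ho : Orth Q A B)
    (hA : IsNondegenerateOn (polar ⇑Q) A) (hB : IsNondegenerateOn (polar ⇑Q) B) :
    IsNondegenerateOn (polar ⇑Q) (A ⊔ B) := by
  intro w hw hw0
  obtain ⟨a, ha, b, hb, rfl⟩ := Submodule.mem_sup.1 hw
  obtain ⟨x, hx, hne⟩ : ∃ x ∈ A ⊔ B, polar Q x (a + b) ≠ 0 := by
    by_cases ha0 : a = 0
    · obtain ⟨⟨x, hx, hne⟩, -⟩ := hB b hb (fun h => hw0 (by rw [ha0, h, add_zero]))
      exact ⟨x, Submodule.mem_sup_right hx, by rwa [ha0, zero_add]⟩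
    · obtain ⟨⟨x, hx, hne⟩, -⟩ := hA a ha ha0
      exact ⟨x, Submodule.mem_sup_left hx, by rwa [polar_add_right, ho x hx b hb, add_zero]⟩
  exact ⟨⟨x, hx, hne⟩, x, hx, by rwa [polar_comm]⟩

/-- Discriminant criterion on an orthogonal sum of two spaces of equal dimension. -/
theorem plus_sup_iff_gram [Finite F] (h2 : (2 : F) ≠ 0) {A B : Submodule F (ι → F)} (hd : Disjoint A B)
    (ho : Orth Q A B) (hA : IsNondegenerateOn (polar ⇑Q) A) (hB : IsNondegenerateOn (polar ⇑Q) B)
    {k : ℕ} (bA : Module.Basis (Fin k) F A) (bB : Module.Basis (Fin k) F B) :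
    IsPlusTypeOn ⇑Q (A ⊔ B) ↔ IsSquare ((-1) ^ k *
      ((gram Q fun i => (bA i : ι → F)).det * (gram Q fun i => (bB i : ι → F)).det)) := by
  set v : Fin k ⊕ Fin k → ι → F := Sum.elim (fun i => (bA i : ι → F)) (fun i => (bB i : ι → F))
  have hli : LinearIndependent F v := by
    refine (bA.linearIndependent.map' A.subtype (Submodule.ker_subtype A)).sum_type
      (bB.linearIndependent.map' B.subtype (Submodule.ker_subtype B)) ?_
    refine hd.mono (Submodule.span_le.2 ?_) (Submodule.span_le.2 ?_) <;> rintro _ ⟨i, rfl⟩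
    exacts [(bA i).2, (bB i).2]
  have hmem : ∀ i, v i ∈ A ⊔ B := by
    rintro (i | i)
    exacts [Submodule.mem_sup_left (bA i).2, Submodule.mem_sup_right (bB i).2]
  let w : Fin k ⊕ Fin k → ↥(A ⊔ B) := fun i => ⟨v i, hmem i⟩
  have hliw : LinearIndependent F w := LinearIndependent.of_comp (A ⊔ B).subtype hli
  have hspan : Submodule.span F (Set.range w) = ⊤ := by
    refine Submodule.eq_top_of_finrank_eq ?_
    rw [finrank_span_eq_card hliw, finrank_sup_of_disjoint hd, Module.finrank_eq_card_basis bA,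
      Module.finrank_eq_card_basis bB, Fintype.card_sum]
  have := plus_iff_gram h2 (nondeg_sup ho hA hB) (Module.Basis.mk hliw hspan.ge) (m := k)
    (by simp; omega)
  rw [this]
  have hG : (gram Q fun i => ((Module.Basis.mk hliw hspan.ge) i : ι → F)) =
      Matrix.fromBlocks (gram Q fun i => (bA i : ι → F)) 0 0 (gram Q fun i => (bB i : ι → F)) := by
    ext (i | i) (j | j) <;> simp [gram, w, v]
    · exact ho _ (bA i).2 _ (bB j).2
    · exact ho.symm _ (bB i).2 _ (bA j).2
  rw [hG, Matrix.det_fromBlocks_zero₂₁]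

/-- An orthogonal sum of two isometric spaces of even dimension, or in characteristic two, is plus. -/
theorem plus_sup_isometric [Finite F] {A B : Submodule F (ι → F)} (hd : Disjoint A B) (ho : Orth Q A B)
    (hA : IsNondegenerateOn (polar ⇑Q) A) (hB : IsNondegenerateOn (polar ⇑Q) B)
    (hiso : AreIsometricFor ⇑Q A B)
    (hk : (2 : F) ≠ 0 → IsSquare ((-1 : F) ^ Module.finrank F A)) : IsPlusTypeOn ⇑Q (A ⊔ B) := by
  obtain ⟨e, he⟩ := hiso
  by_cases h2 : (2 : F) = 0
  · let φ : A →ₗ[F] (ι → F) := A.subtype + B.subtype.comp e.toLinearMap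
    have hinj : Function.Injective φ := by
      refine (injective_iff_map_eq_zero φ).2 fun a ha => ?_
      have h1 : (a : ι → F) ∈ B := by
        have : (a : ι → F) = -((e a : B) : ι → F) := eq_neg_of_add_eq_zero_left ha
        rw [this]; exact B.neg_mem (e a).2
      exact Subtype.ext ((Submodule.disjoint_def.1 hd) _ a.2 h1)
    refine ⟨LinearMap.range φ, ?_, ?_, ?_⟩
    · rintro _ ⟨a, rfl⟩; exact Submodule.add_mem_sup a.2 (e a).2
    · rintro _ ⟨a, rfl⟩
      show Q ((a : ι → F) + ((e a : B) : ι → F)) = 0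
      rw [ho.map_add a.2 (e a).2, he a]
      linear_combination (Q (a : ι → F)) * h2
    · rw [LinearMap.finrank_range_of_inj hinj, finrank_sup_of_disjoint hd, ← e.finrank_eq]
      omega
  let bA := Module.finBasis F A
  rw [plus_sup_iff_gram h2 hd ho hA hB bA (bA.map e)]
  have hg : (gram Q fun i => ((bA.map e) i : ι → F)) = gram Q fun i => (bA i : ι → F) := by
    ext i j
    simp only [gram, Matrix.of_apply, Module.Basis.map_apply, QuadraticMap.polar]
    rw [← Submodule.coe_add, ← map_add, he, he, he]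
    rfl
  rw [hg]
  exact (hk h2).mul ⟨_, rfl⟩

theorem isometric_symm {A B : Submodule F (ι → F)} (h : AreIsometricFor ⇑Q A B) :
    AreIsometricFor ⇑Q B A := by
  obtain ⟨e, he⟩ := h
  exact ⟨e.symm, fun w => by rw [← he (e.symm w), e.apply_symm_apply]⟩

theorem plus_of_isometric {A B : Submodule F (ι → F)} (h : AreIsometricFor ⇑Q A B)
    (hA : IsPlusTypeOn ⇑Q A) : IsPlusTypeOn ⇑Q B := by
  obtain ⟨X, hX, hd⟩ := plus_top_of_subtype.2 hA
  obtain ⟨e, he⟩ := h
  refine plus_top_of_subtype.1 ⟨X.map e.toLinearMap, ?_, ?_⟩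
  · rintro _ ⟨x, hx, rfl⟩
    show Q ((e x : B) : ι → F) = 0
    rw [he, hX x hx]
  · rw [LinearEquiv.finrank_map_eq, ← e.finrank_eq, hd]

theorem isometric_sup {A B A' B' : Submodule F (ι → F)} (hd : Disjoint A B) (hd' : Disjoint A' B')
    (ho : Orth Q A B) (ho' : Orth Q A' B') (hA : AreIsometricFor ⇑Q A A')
    (hB : AreIsometricFor ⇑Q B B') : AreIsometricFor ⇑Q (A ⊔ B) (A' ⊔ B') := by
  obtain ⟨e, he⟩ := hA
  obtain ⟨e', he'⟩ := hB
  let φ : (A × B) →ₗ[F] (ι → F) := A.subtype.coprod B.subtype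
  let φ' : (A' × B') →ₗ[F] (ι → F) := A'.subtype.coprod B'.subtype
  have hinj : Function.Injective φ := LinearMap.ker_eq_bot.1 (by
    rw [LinearMap.ker_coprod_of_disjoint_range _ _ (by simpa using hd)]; simp)
  have hinj' : Function.Injective φ' := LinearMap.ker_eq_bot.1 (by
    rw [LinearMap.ker_coprod_of_disjoint_range _ _ (by simpa using hd')]; simp)
  have hr : LinearMap.range φ = A ⊔ B := by simp [φ, LinearMap.range_coprod]
  have hr' : LinearMap.range φ' = A' ⊔ B' := by simp [φ', LinearMap.range_coprod]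
  let E := ((LinearEquiv.ofInjective φ hinj).trans (LinearEquiv.ofEq _ _ hr))
  let E' := ((LinearEquiv.ofInjective φ' hinj').trans (LinearEquiv.ofEq _ _ hr'))
  refine ⟨E.symm.trans ((e.prodCongr e').trans E'), fun w => ?_⟩
  obtain ⟨⟨a, b⟩, rfl⟩ := E.surjective w
  simp only [LinearEquiv.trans_apply, LinearEquiv.symm_apply_apply]
  show Q (((e a : A') : ι → F) + ((e' b : B') : ι → F)) = Q ((a : ι → F) + (b : ι → F))
  rw [ho'.map_add (e a).2 (e' b).2, ho.map_add a.2 b.2, he, he']

end CfsgLib.AschbacherOrth
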