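import Cfsg.Agent.Lib.AschbacherForm.Core
import Cfsg.Agent.Lib.AschbacherOrth.Types

/-!
# Aschbacher classes of a group of isometries of a quadratic form
-/

set_option autoImplicit false
set_option linter.unusedSectionVars false

namespace CfsgLib.AschbacherOrth

open QuadraticMap Cfsg Cfsg.Geo CfsgLib.Geometry CfsgLib.Aschbacher
open CfsgLib.AschbacherForm (Geom IsSim RForm adj SimpleData)
open scoped Matrix MatrixGroups

universe u
variable {F : Type u} [Field F] [Fintype F] {ι : Type} [Fintype ι] [DecidableEq ι]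
variable {Q : QuadraticForm F (ι → F)}

/-- The group has no proper non-zero invariant subspace. -/
def Irred (H : Subgroup (GL ι F)) : Prop :=
  ∀ W : Submodule F (ι → F), H ≤ subspaceStabilizer W → W = ⊥ ∨ W = ⊤

theorem isom_apply {h : GL ι F} (hh : h ∈ isometryGroup F ⇑Q) (v : ι → F) :
    Q ((h : Matrix ι ι F) *ᵥ v) = Q v := hh v v

theorem isom_polar {h : GL ι F} (hh : h ∈ isometryGroup F ⇑Q) (u v : ι → F) :
    polar Q ((h : Matrix ι ι F) *ᵥ u) ((h : Matrix ι ι F) *ᵥ v) = polar Q u v := by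
  simp only [polar, ← Matrix.mulVec_add, isom_apply hh]

theorem polar_bilinear (Q : QuadraticForm F (ι → F)) : IsBilinearForm (polar ⇑Q) where
  add_left := polar_add_left (Q := Q)
  smul_left := fun c x v => polar_smul_left' Q c x v
  add_right := fun v x y => polar_add_right (Q := Q) v x y
  smul_right := fun c v x => polar_smul_right' Q c v x

theorem polar_nondeg (hQ : (polarBilin Q).Nondegenerate) : IsNondegenerateForm (polar ⇑Q) := by
  intro v hv
  constructor
  · by_contra h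
    push Not at h
    exact hv (hQ.2 v h)
  · by_contra h
    push Not at h
    exact hv (hQ.1 v h)

theorem isQuad (hQ : (polarBilin Q).Nondegenerate) : IsNondegenerateQuadraticForm ⇑Q :=
  ⟨fun c v => by rw [map_smul', _root_.sq], polar_bilinear Q, polar_nondeg hQ⟩

theorem exists_geom (hQ : (polarBilin Q).Nondegenerate) :
    ∃ J : GL ι F, Geom (RingEquiv.refl F) (polar ⇑Q) J 1 := by
  have h1 := bilinear_eq_gram (polar_bilinear Q)
  refine ⟨(isUnit_of_nondeg (RingEquiv.refl F) (h1 ▸ polar_nondeg hQ)).unit, ?_, fun a => rfl,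
    one_ne_zero, ?_⟩
  · rw [IsUnit.unit_spec]; exact h1
  · rw [IsUnit.unit_spec, one_smul]
    ext i j
    exact polar_comm _ _ _

/-- The vectors of a totally isotropic subspace on which the quadratic form vanishes. -/
def zeroPart (Q : QuadraticForm F (ι → F)) (U : Submodule F (ι → F))
    (hU : IsTotallySingularFor (polar ⇑Q) U) : Submodule F (ι → F) where
  carrier := {u | u ∈ U ∧ Q u = 0}
  zero_mem' := ⟨U.zero_mem, map_zero Q⟩
  add_mem' := fun {a b} ha hb => ⟨U.add_mem ha.1 hb.1, by rw [map_add', ha.2, hb.2, hU a ha.1 b hb.1]; ring⟩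
  smul_mem' := fun c a ha => ⟨U.smul_mem c ha.1, by rw [map_smul', ha.2, mul_zero]⟩

theorem two_ne_of_self {U : Submodule F (ι → F)} (hU : IsTotallySingularFor (polar ⇑Q) U) {u : ι → F}
    (hu : u ∈ U) (hne : Q u ≠ 0) : (2 : F) = 0 := by
  have := hU u hu u hu
  rw [polar_self'] at this
  exact (mul_eq_zero.1 this).resolve_right hne

theorem zeroPart_eq_bot {U : Submodule F (ι → F)} (hU : IsTotallySingularFor (polar ⇑Q) U) (h : zeroPart Q U hU = ⊥) {u : ι → F} (hu : u ∈ U) (hu0 : u ≠ 0) :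
    U = Submodule.span F {u} := by
  have hne : Q u ≠ 0 := fun e => hu0 ((Submodule.eq_bot_iff _).1 h u ⟨hu, e⟩)
  have h2 := two_ne_of_self hU hu hne
  refine le_antisymm (fun v hv => ?_) ((Submodule.span_singleton_le_iff_mem u U).2 hu)
  obtain ⟨c, hc⟩ := AschbacherForm.exists_sq h2 (Q v / Q u)
  have hmem : v + c • u ∈ zeroPart Q U hU := by
    refine ⟨U.add_mem hv (U.smul_mem c hu), ?_⟩
    rw [map_add', map_smul', hU v hv _ (U.smul_mem c hu), hc, div_mul_cancel₀ _ hne]
    linear_combination (Q v) * h2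
  rw [h, Submodule.mem_bot] at hmem
  exact Submodule.mem_span_singleton.2 ⟨-c, by rw [neg_smul]; exact (eq_neg_of_add_eq_zero_left hmem).symm⟩

/-- A reducible group of isometries. -/
theorem reducible_cases (hQ : (polarBilin Q).Nondegenerate) {H : Subgroup (GL ι F)}
    (hH : H ≤ isometryGroup F ⇑Q) {W : Submodule F (ι → F)} (hW0 : W ≠ ⊥) (hW1 : W ≠ ⊤)
    (hW : H ≤ subspaceStabilizer W) :
    (∃ U : Submodule F (ι → F), U ≠ ⊥ ∧ IsTotallySingularQuad ⇑Q U ∧ H ≤ subspaceStabilizer U) ∨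
    ((2 : F) = 0 ∧ ∃ v, Q v ≠ 0 ∧ H ≤ subspaceStabilizer (Submodule.span F {v})) ∨
    (∃ U : Submodule F (ι → F), U ≠ ⊥ ∧ U ≠ ⊤ ∧ IsNondegenerateOn (polar ⇑Q) U ∧
      2 * Module.finrank F U ≤ Fintype.card ι ∧ H ≤ subspaceStabilizer U) := by
  obtain ⟨J, hG⟩ := exists_geom hQ
  have hf := hG.rform
  have hiso := fun h hh => isom_polar (Q := Q) (hH (x := h) hh)
  have hWp := hf.perp_invariant hiso hW
  by_cases hrad : W ⊓ hf.perp W = ⊥
  · have hnd := (hf.isNondegenerateOn_iff W).2 hrad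
    obtain ⟨hc, hnd'⟩ := hf.isCompl_perp hnd
    have hsum := Submodule.finrank_add_eq_of_isCompl hc
    rw [Module.finrank_fintype_fun_eq_card] at hsum
    by_cases hle : 2 * Module.finrank F W ≤ Fintype.card ι
    · exact Or.inr (Or.inr ⟨W, hW0, hW1, hnd, hle, hW⟩)
    · refine Or.inr (Or.inr ⟨hf.perp W, ?_, ?_, hnd', by omega, hWp⟩)
      · intro h0
        exact hW1 (by have := hc.sup_eq_top; rwa [h0, sup_bot_eq] at this)
      · intro h0
        exact hW0 (by have := hc.inf_eq_bot; rwa [h0, inf_top_eq] at this)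
  set U := W ⊓ hf.perp W
  have hUs : IsTotallySingularFor (polar ⇑Q) U := fun u hu v hv => hu.2 v hv.1
  have hUinv : H ≤ subspaceStabilizer U := fun g hg v => and_congr (hW hg v) (hWp hg v)
  by_cases hz : zeroPart Q U hUs = ⊥
  · obtain ⟨u, hu, hu0⟩ := Submodule.exists_mem_ne_zero_of_ne_bot hrad
    have hne : Q u ≠ 0 := fun e => hu0 ((Submodule.eq_bot_iff _).1 hz u ⟨hu, e⟩)
    refine Or.inr (Or.inl ⟨two_ne_of_self hUs hu hne, u, hne, ?_⟩)
    rwa [← zeroPart_eq_bot hUs hz hu hu0]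
  · refine Or.inl ⟨_, hz, fun u hu => hu.2, fun g hg v => ?_⟩
    show (v ∈ U ∧ Q v = 0) ↔ ((g : Matrix ι ι F) *ᵥ v ∈ U ∧ Q ((g : Matrix ι ι F) *ᵥ v) = 0)
    rw [isom_apply (hH hg)]
    exact and_congr_left fun _ => hUinv hg v

/-- The restriction of an isometry. -/
theorem isometric_map {g : GL ι F} (hg : g ∈ isometryGroup F ⇑Q) (A : Submodule F (ι → F)) :
    AreIsometricFor ⇑Q A (A.map (Matrix.toLin' (g : Matrix ι ι F))) :=
  ⟨Submodule.equivMapOfInjective _ (by
    rw [Matrix.toLin'_apply']; exact Matrix.mulVec_injective_of_isUnit g.isUnit) A, fun w => by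
    rw [Submodule.coe_equivMapOfInjective_apply, Matrix.toLin'_apply]; exact isom_apply hg _⟩

theorem isometric_trans {A B C : Submodule F (ι → F)} (h : AreIsometricFor ⇑Q A B)
    (h' : AreIsometricFor ⇑Q B C) : AreIsometricFor ⇑Q A C := by
  obtain ⟨e, he⟩ := h
  obtain ⟨e', he'⟩ := h'
  exact ⟨e.trans e', fun w => by rw [LinearEquiv.trans_apply, he', he]⟩

theorem le_stab_of_map_le {H : Subgroup (GL ι F)} {W : Submodule F (ι → F)}
    (h : ∀ g ∈ H, W.map (Matrix.toLin' (g : Matrix ι ι F)) ≤ W) : H ≤ subspaceStabilizer W :=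
  fun g hg => AschbacherForm.mem_subspaceStabilizer fun v hv => h g hg ⟨v, hv, rfl⟩

/-- An irreducible group permuting the members of a decomposition. -/
theorem imprimitive_cases {H : Subgroup (GL ι F)} (hH : H ≤ isometryGroup F ⇑Q) (hirr : Irred H)
    (hn : 3 ≤ Fintype.card ι) (h : AschbacherForm.Imprimitive (polar ⇑Q) H) :
    (∃ (t k : ℕ) (D : Fin t → Submodule F (ι → F)), IsOrthogonalMDecomposition ⇑Q k D ∧
      H ≤ decompositionStabilizer D) ∨
    (∃ (k : ℕ) (D : Fin 2 → Submodule F (ι → F)), 2 * k = Fintype.card ι ∧ IsMDecomposition k D ∧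
      (∀ i, IsTotallySingularQuad ⇑Q (D i)) ∧ H ≤ decompositionStabilizer D) := by
  classical
  rcases h with ⟨t, k, E, hE, hle⟩ | ⟨k, E, hk, hE, hs, hle⟩
  · refine Or.inl ⟨t, k, E, ⟨hE, fun i j => ?_⟩, hle⟩
    let W : Submodule F (ι → F) := ⨆ (l : Fin t) (_ : AreIsometricFor ⇑Q (E i) (E l)), E l
    have hinv : H ≤ subspaceStabilizer W := le_stab_of_map_le fun g hg => by
      obtain ⟨σ, hσ⟩ := hle hg
      simp only [W, Submodule.map_iSup]
      exact iSup₂_le fun l hl => by
        rw [hσ]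
        refine le_iSup₂_of_le (f := fun l (_ : AreIsometricFor ⇑Q (E i) (E l)) => E l) (σ l) ?_ le_rfl
        have := isometric_map (hH hg) (E l)
        rw [hσ] at this
        exact isometric_trans hl this
    have hne : ∀ l, E l ≠ ⊥ := fun l h0 => by
      have := hE.decomp.finrank_eq l
      rw [h0, finrank_bot] at this
      exact hE.decomp.pos.ne this
    rcases hirr W hinv with h0 | h0
    · exfalso
      refine hne i (le_bot_iff.1 (h0 ▸ ?_))
      exact le_iSup₂_of_le (f := fun l (_ : AreIsometricFor ⇑Q (E i) (E l)) => E l) i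
        ⟨LinearEquiv.refl F _, fun w => rfl⟩ le_rfl
    · by_contra hj
      refine hne j (le_bot_iff.1 ?_)
      calc E j ≤ E j ⊓ W := le_inf le_rfl (h0.symm ▸ le_top)
        _ ≤ E j ⊓ ⨆ (l) (_ : l ≠ j), E l := inf_le_inf_left _ (iSup₂_le fun l hl =>
            le_iSup₂_of_le (f := fun l (_ : l ≠ j) => E l) l (fun e => hj (e ▸ hl)) le_rfl)
        _ = ⊥ := disjoint_iff.1 (hE.decomp.indep j)
  · refine Or.inr ⟨k, E, hk, hE, ?_, hle⟩
    let L : Fin 2 → Submodule F (ι → F) := fun i => zeroPart Q (E i) (hs i)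
    have hinv : H ≤ subspaceStabilizer (L 0 ⊔ L 1) := le_stab_of_map_le fun g hg => by
      obtain ⟨σ, hσ⟩ := hle hg
      have key : ∀ i, (L i).map (Matrix.toLin' (g : Matrix ι ι F)) ≤ L (σ i) := by
        rintro i _ ⟨v, hv, rfl⟩
        exact ⟨hσ i ▸ ⟨v, hv.1, rfl⟩, by rw [Matrix.toLin'_apply, isom_apply (hH hg)]; exact hv.2⟩
      rw [Submodule.map_sup]
      have h2 : ∀ i, L i ≤ L 0 ⊔ L 1 := fun i => by fin_cases i; exacts [le_sup_left, le_sup_right]
      exact sup_le ((key 0).trans (h2 _)) ((key 1).trans (h2 _))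
    rcases hirr _ hinv with h0 | h0
    · exfalso
      obtain ⟨hL0, -⟩ := sup_eq_bot_iff.1 h0
      obtain ⟨u, hu, hu0⟩ := Submodule.exists_mem_ne_zero_of_ne_bot (show E 0 ≠ ⊥ from fun e => by
        have := hE.finrank_eq 0
        rw [e, finrank_bot] at this
        omega)
      have := hE.finrank_eq 0
      rw [zeroPart_eq_bot (hs 0) hL0 hu hu0, finrank_span_singleton hu0] at this
      omega
    · have hle2 : ∀ i, L i ≤ E i := fun i u hu => hu.1
      have h1 : Module.finrank F ↥(L 0 ⊔ L 1) ≤ Module.finrank F (L 0) + Module.finrank F (L 1) :=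
        Submodule.finrank_add_le_finrank_add_finrank _ _
      rw [h0, finrank_top, Module.finrank_fintype_fun_eq_card] at h1
      intro i v hv
      have h3 := Submodule.finrank_mono (hle2 0)
      have h4 := Submodule.finrank_mono (hle2 1)
      rw [hE.finrank_eq] at h3 h4
      have h5 : L i = E i := Submodule.eq_of_le_of_finrank_le (hle2 i) (by
        rw [hE.finrank_eq]; fin_cases i <;> simp only [Fin.zero_eta, Fin.mk_one, Fin.isValue] <;> omega)
      exact ((h5.symm ▸ hv : v ∈ L i)).2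

/-- An adjoint-closed field of odd degree is self-adjoint. -/
theorem selfAdj_of_odd {J : GL ι F} (hG : Geom (RingEquiv.refl F) (polar ⇑Q) J 1)
    {K : Subalgebra F (Matrix ι ι F)} {r : ℕ} (hr : Odd r) (hK : IsFieldSubalgebra r K)
    (hadj : IsAdjointClosedFor (polar ⇑Q) K) : IsSelfAdjointFor (polar ⇑Q) K := by
  rw [hG.selfAdj_iff]
  intro k hk
  by_contra hne
  have hcl := (hG.adjClosed_iff K).1 hadj
  let K₀ : Submodule F (Matrix ι ι F) :=
    { carrier := {x | x ∈ K ∧ (adj (RingEquiv.refl F) J) x = x}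
      zero_mem' := ⟨K.zero_mem, AschbacherForm.adj_zero _ _⟩
      add_mem' := fun {a b} ha hb => ⟨K.add_mem ha.1 hb.1, by
        rw [AschbacherForm.adj_add, ha.2, hb.2]⟩
      smul_mem' := fun c a ha => ⟨K.smul_mem ha.1 c, by
        rw [AschbacherForm.adj_smul, ha.2]; rfl⟩ }
  obtain ⟨e, he, hd⟩ := hK.inv (k - (adj (RingEquiv.refl F) J) k) (K.sub_mem hk (hcl k hk)) (sub_ne_zero.2 (Ne.symm hne))
  have hτsub : ∀ a b, (adj (RingEquiv.refl F) J) (a - b) = (adj (RingEquiv.refl F) J) a - (adj (RingEquiv.refl F) J) b := fun a b => eq_sub_of_add_eq (by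
    rw [← AschbacherForm.adj_add, sub_add_cancel])
  have hτ2 : ∀ a, (adj (RingEquiv.refl F) J) ((adj (RingEquiv.refl F) J) a) = a := AschbacherForm.adj_adj hG
  have hτe : (adj (RingEquiv.refl F) J) e = -e := by
    have h1 := congrArg (adj (RingEquiv.refl F) J) hd
    rw [AschbacherForm.adj_mul, AschbacherForm.adj_one, hτsub, hτ2] at h1
    calc (adj (RingEquiv.refl F) J) e = (adj (RingEquiv.refl F) J) e * ((k - (adj (RingEquiv.refl F) J) k) * e) := by rw [hd, mul_one]
      _ = -((adj (RingEquiv.refl F) J) e * ((adj (RingEquiv.refl F) J) k - k) * e) := by noncomm_ring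
      _ = -e := by rw [h1, one_mul]
  let φ : K₀ × K₀ →ₗ[F] Matrix ι ι F :=
    K₀.subtype.coprod ((LinearMap.mulRight F k).comp K₀.subtype)
  have hrange : LinearMap.range φ = Subalgebra.toSubmodule K := by
    refine le_antisymm ?_ fun x hx => ?_
    · rintro _ ⟨⟨a, b⟩, rfl⟩
      exact K.add_mem a.2.1 (K.mul_mem b.2.1 hk)
    · have hb : (x - (adj (RingEquiv.refl F) J) x) * e ∈ K₀ := by
        refine ⟨K.mul_mem (K.sub_mem hx (hcl x hx)) he, ?_⟩
        rw [AschbacherForm.adj_mul, hτsub, hτ2, hτe, hK.comm _ (K.neg_mem he) _ (K.sub_mem (hcl x hx) hx)]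
        noncomm_ring
      have ha : x - (x - (adj (RingEquiv.refl F) J) x) * e * k ∈ K₀ := by
        refine ⟨K.sub_mem hx (K.mul_mem hb.1 hk), ?_⟩
        rw [hτsub, AschbacherForm.adj_mul, hb.2, hK.comm _ (hcl k hk) _ hb.1]
        have : (x - (adj (RingEquiv.refl F) J) x) * e * (k - (adj (RingEquiv.refl F) J) k) = x - (adj (RingEquiv.refl F) J) x := by
          rw [mul_assoc, hK.comm _ he _ (K.sub_mem hk (hcl k hk)), hd, mul_one]
        rw [mul_sub] at this
        linear_combination (norm := noncomm_ring) this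
      exact ⟨(⟨_, ha⟩, ⟨_, hb⟩), by simp [φ]⟩
  have hker : LinearMap.ker φ = ⊥ := by
    refine (Submodule.eq_bot_iff _).2 fun ⟨a, b⟩ hab => ?_
    have h1 : (a : Matrix ι ι F) + (b : Matrix ι ι F) * k = 0 := hab
    have h2 := congrArg (adj (RingEquiv.refl F) J) h1
    rw [AschbacherForm.adj_add, AschbacherForm.adj_mul, a.2.2, b.2.2, AschbacherForm.adj_zero,
      hK.comm _ (hcl k hk) _ b.2.1] at h2
    have h3 : (b : Matrix ι ι F) * (k - (adj (RingEquiv.refl F) J) k) = 0 := by
      rw [mul_sub]; linear_combination (norm := noncomm_ring) h1 - h2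
    have hb0 : (b : Matrix ι ι F) = 0 := by
      have := congrArg (· * e) h3
      simpa [mul_assoc, hd] using this
    exact Prod.ext (Subtype.ext (by simpa [hb0] using h1)) (Subtype.ext hb0)
  have h4 := φ.finrank_range_add_finrank_ker
  rw [hrange, hker, finrank_bot, Module.finrank_prod, add_zero] at h4
  have h5 : Module.finrank F (Subalgebra.toSubmodule K) = r := hK.finrank_eq
  exact (Nat.not_even_iff_odd.2 hr) ⟨Module.finrank F K₀, by omega⟩

/-- The abelian case forces odd characteristic and dimension a power of two. -/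
theorem abelian_cases [Nonempty ι] (hQ : (polarBilin Q).Nondegenerate) {H N : Subgroup (GL ι F)}
    (hH : H ≤ isometryGroup F ⇑Q) (hN : AbelianData (H ⊔ scalars ι F) N) :
    (2 : F) ≠ 0 ∧ (∃ m, 0 < m ∧ Fintype.card ι = 2 ^ m) ∧ ∀ x ∈ N, x ^ 2 ∈ scalars ι F := by
  classical
  obtain ⟨J, hG⟩ := exists_geom hQ
  have hsim : H ⊔ scalars ι F ≤ similarityGroup (polar ⇑Q) := sup_le (fun h hh =>
    ⟨1, fun u v => by rw [Units.val_one, one_mul]; exact isom_polar (hH hh) u v⟩) hG.scalars_le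
  have hsq : ∀ x ∈ N, ∀ y ∈ N, ∀ c : Fˣ, y * x = sc c * (x * y) → (c : F) * c = 1 := by
    intro x hx y hy c hc
    have h1 := hG.commutator_isometry (hsim (hN.le hy)) (hsim (hN.le hx))
    rw [show y * x * y⁻¹ * x⁻¹ = sc c by rw [hc]; group, sc_val] at h1
    have h2 := AschbacherForm.isSim_smul (AschbacherForm.isSim_one (RingEquiv.refl F) (J : Matrix ι ι F)) (c : F)
    have := AschbacherForm.isSim_unique h1 h2
    simpa using this.symm
  obtain ⟨x, hx, hxs⟩ := SetLike.exists_of_lt (lt_of_le_of_ne hN.scal hN.ne.symm)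
  obtain ⟨y, hy, hne⟩ := hN.exists_noncomm hxs
  obtain ⟨c, hc⟩ := hN.exists_comm hx hy
  have hc1 : (c : F) = -1 := (mul_self_eq_one_iff.1 (hsq x hx y hy c hc)).resolve_left fun e => hne (by
    rw [hc, Units.ext (show (c : F) = ((1 : Fˣ) : F) by rw [e, Units.val_one]), sc_one, one_mul])
  have h2 : (2 : F) ≠ 0 := fun h => hne (by
    rw [hc, Units.ext (show (c : F) = ((1 : Fˣ) : F) by
      rw [hc1, Units.val_one]; linear_combination -h), sc_one, one_mul])
  have hev : Even (Fintype.card ι) := by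
    have hd := congrArg (fun g : GL ι F => (g : Matrix ι ι F).det) hc
    simp only [Units.val_mul, Matrix.det_mul, sc_val, Matrix.det_smul, Matrix.det_one, mul_one, hc1] at hd
    rcases Nat.even_or_odd (Fintype.card ι) with h | h
    · exact h
    · rw [h.neg_one_pow] at hd
      have hx0 := ((Matrix.isUnit_iff_isUnit_det _).1 x.isUnit).ne_zero
      have hy0 := ((Matrix.isUnit_iff_isUnit_det _).1 y.isUnit).ne_zero
      exact absurd (show (2 : F) * ((x : Matrix ι ι F).det * (y : Matrix ι ι F).det) = 0 by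
        linear_combination hd) (mul_ne_zero h2 (mul_ne_zero hx0 hy0))
  have hpow : ∀ z ∈ N, z ^ 2 ∈ scalars ι F := by
    intro z hz
    refine hN.eq_sc fun w hw => ?_
    obtain ⟨d, hd⟩ := hN.exists_comm hz hw
    have hdd : sc d * sc d = (1 : GL ι F) := by
      rw [← sc_mul, Units.ext (show ((d * d : Fˣ) : F) = ((1 : Fˣ) : F) from hsq z hz w hw d hd), sc_one]
    symm
    calc w * z ^ 2 = (w * z) * z := by rw [_root_.sq, mul_assoc]
      _ = sc d * (z * (w * z)) := by
        conv_lhs => rw [hd]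
        simp only [mul_assoc]
      _ = sc d * sc d * (z ^ 2 * w) := by
        rw [hd, ← mul_assoc z (sc d), ← sc_comm, _root_.sq]; simp only [mul_assoc]
      _ = z ^ 2 * w := by rw [hdd, one_mul]
  obtain ⟨κ, _, t, b, -, -, -, -, hcard, m, hm⟩ := hN.exists_basis Nat.prime_two hpow le_rfl
    (fun z hz => ⟨1, by rw [sc_one, one_mul]; exact hz⟩)
  obtain ⟨k, -, hk⟩ := (Nat.dvd_prime_pow Nat.prime_two).1
    (show Fintype.card ι ∣ 2 ^ m from hm ▸ hcard ▸ dvd_pow_self _ two_ne_zero)
  refine ⟨h2, ⟨k, Nat.pos_of_ne_zero fun e => ?_, hk⟩, hpow⟩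
  rw [hk, e, pow_zero] at hev
  exact Nat.not_even_one hev

end CfsgLib.AschbacherOrth
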