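import Cfsg.Agent.Lib.AschbacherOrth.Types
import Cfsg.Agent.Lib.Geometry.EvenTypes

/-!
# Isometry of subspaces of equal dimension and type
-/

set_option autoImplicit false
set_option linter.unusedSectionVars false

namespace CfsgLib.AschbacherOrth

open QuadraticMap Cfsg.Geo CfsgLib.Geometry
open scoped Matrix

universe u
variable {F : Type u} [Field F] [Finite F] {ι : Type} [Fintype ι] [DecidableEq ι]
variable {Q : QuadraticForm F (ι → F)}

/-- The form on a subspace in coordinates. -/
noncomputable def coordForm (Q : QuadraticForm F (ι → F)) {W : Submodule F (ι → F)} {k : ℕ}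
    (b : Module.Basis (Fin k) F W) : QuadraticForm F (Fin k → F) :=
  Q.comp (W.subtype.comp b.equivFun.symm.toLinearMap)

theorem coordForm_apply {W : Submodule F (ι → F)} {k : ℕ} (b : Module.Basis (Fin k) F W) (z : Fin k → F) :
    coordForm Q b z = Q ((b.equivFun.symm z : W) : ι → F) := rfl

theorem coordForm_nondeg {W : Submodule F (ι → F)} (hW : IsNondegenerateOn (polar ⇑Q) W) {k : ℕ}
    (b : Module.Basis (Fin k) F W) : (polarBilin (coordForm Q b)).Nondegenerate := by
  have hp : ∀ x y, polar (coordForm Q b) x y =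
      polar Q ((b.equivFun.symm x : W) : ι → F) ((b.equivFun.symm y : W) : ι → F) := fun x y => by
    simp only [QuadraticMap.polar, coordForm_apply, map_add, Submodule.coe_add]
  have hl : ∀ x, (∀ y, polar (coordForm Q b) x y = 0) → x = 0 := by
    intro x hx
    by_contra h0
    obtain ⟨-, y, hy, hne⟩ := hW _ (b.equivFun.symm x).2 (fun e => h0 (
      b.equivFun.symm.map_eq_zero_iff.1 (Subtype.ext e)))
    refine hne ?_
    have := hx (b.equivFun ⟨y, hy⟩)
    rwa [hp, LinearEquiv.symm_apply_apply] at this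
  exact ⟨fun x hx => hl x hx, fun y hy => hl y fun x => by rw [polar_comm]; exact hy x⟩

theorem plus_of_coord_sim {W : Submodule F (ι → F)} {m : ℕ} (b : Module.Basis (Fin (2 * (m + 1))) F W)
    (h : IsSimTo ⇑(coordForm Q b) (Cfsg.quadFormPlus (m + 1) F)) : IsPlusTypeOn ⇑Q W := by
  obtain ⟨E, c, hc, hE⟩ := h
  refine plus_top_of_subtype.1 ⟨(LinearMap.ker (LinearMap.funLeft F F
    (Sum.inr : Fin (m + 1) → Fin (m + 1) ⊕ Fin (m + 1)))).map (E.trans b.equivFun.symm).toLinearMap, ?_, ?_⟩
  · rintro _ ⟨w, hw, rfl⟩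
    rw [LinearEquiv.coe_coe, LinearEquiv.trans_apply, ← coordForm_apply, hE,
      show Cfsg.quadFormPlus (m + 1) F w = 0 from Finset.sum_eq_zero fun i _ => by
        rw [show w (Sum.inr i) = 0 from congrFun hw i, mul_zero], mul_zero]
  · rw [LinearEquiv.finrank_map_eq, (isMaxSing_ker_inr (m + 1)).1, Module.finrank_eq_card_basis b,
      Fintype.card_fin]

theorem not_plus_of_coord_minus {W : Submodule F (ι → F)} {m : ℕ} (b : Module.Basis (Fin (2 * (m + 1))) F W)
    {a c : F} (hac : ∀ z₁ z₂ : F, z₁ ^ 2 + a * z₁ * z₂ + c * z₂ ^ 2 = 0 → z₁ = 0 ∧ z₂ = 0)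
    (h : IsSimTo ⇑(coordForm Q b) (Cfsg.quadFormMinus m F a c)) : ¬ IsPlusTypeOn ⇑Q W := by
  intro hp
  obtain ⟨X, hX, hd⟩ := plus_top_of_subtype.2 hp
  obtain ⟨E, d, hd0, hE⟩ := h
  have hb := singular_finrank_le_minus m hac (X.map (b.equivFun.trans E.symm).toLinearMap) (by
    rintro _ ⟨x, hx, rfl⟩
    have := hE (E.symm (b.equivFun x))
    rw [LinearEquiv.apply_symm_apply, coordForm_apply, LinearEquiv.symm_apply_apply, hX x hx] at this
    rw [coe_matQuad_minus]
    exact (mul_eq_zero.1 this.symm).resolve_left hd0)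
  rw [LinearEquiv.finrank_map_eq] at hb
  rw [Module.finrank_eq_card_basis b, Fintype.card_fin] at hd
  omega

theorem det_gram_ne_zero {κ : Type} [Fintype κ] [DecidableEq κ] (R : QuadraticForm F (κ → F))
    (hR : (polarBilin R).Nondegenerate) :
    (Matrix.of fun i j => polar R (Pi.basisFun F κ i) (Pi.basisFun F κ j)).det ≠ 0 := by
  have h := (LinearMap.BilinForm.nondegenerate_iff_det_ne_zero (Pi.basisFun F κ)).1 hR
  have e : (Matrix.of fun i j => polar R (Pi.basisFun F κ i) (Pi.basisFun F κ j)) =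
      LinearMap.BilinForm.toMatrix (Pi.basisFun F κ) (polarBilin R) := by
    ext i j; simp [LinearMap.BilinForm.toMatrix_apply]
  rwa [e]

/-- Two even-dimensional subspaces of the same dimension and type are isometric. -/
theorem isometric_of_type {A B : Submodule F (ι → F)} (hA : IsNondegenerateOn (polar ⇑Q) A)
    (hB : IsNondegenerateOn (polar ⇑Q) B) {m : ℕ} (hAd : Module.finrank F A = 2 * (m + 1))
    (hBd : Module.finrank F B = 2 * (m + 1)) (htype : IsPlusTypeOn ⇑Q A ↔ IsPlusTypeOn ⇑Q B) :
    AreIsometricFor ⇑Q A B := by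
  haveI := Fintype.ofFinite F
  let bA := Module.finBasisOfFinrankEq F A hAd
  let bB := Module.finBasisOfFinrankEq F B hBd
  by_cases h2 : (2 : F) = 0
  · haveI := CharTwo.of_one_ne_zero_of_two_eq_zero (one_ne_zero (α := F)) h2
    have hsim : IsSimTo ⇑(coordForm Q bA) ⇑(coordForm Q bB) := by
      rcases isSimTo_even _ (coordForm_nondeg hA bA) (m := m) (by simp) with p | ⟨a, c, hac, p⟩ <;>
        rcases isSimTo_even _ (coordForm_nondeg hB bB) (m := m) (by simp) with p' | ⟨a', c', hac', p'⟩
      · exact p.trans p'.symm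
      · exact absurd (htype.1 (plus_of_coord_sim bA p)) (not_plus_of_coord_minus bB hac' p')
      · exact absurd (htype.2 (plus_of_coord_sim bB p')) (not_plus_of_coord_minus bA hac p)
      · exact p.trans ((isSimTo_minus m hac hac').trans p'.symm)
    obtain ⟨E, c, hc, hE⟩ := hsim
    obtain ⟨s, hs⟩ := FiniteField.isSquare_of_char_two (ringChar.eq F 2) c
    have hs0 : s ≠ 0 := fun h => hc (by rw [hs, h, zero_mul])
    refine isometric_symm ⟨(bB.equivFun.trans (E.trans (LinearEquiv.smulOfUnit (Units.mk0 s hs0)⁻¹))).trans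
      bA.equivFun.symm, fun w => ?_⟩
    rw [LinearEquiv.trans_apply, ← coordForm_apply, LinearEquiv.trans_apply, LinearEquiv.trans_apply]
    show coordForm Q bA (((Units.mk0 s hs0)⁻¹ : Fˣ) • E (bB.equivFun w)) = _
    rw [Units.smul_def, map_smul', hE, coordForm_apply, LinearEquiv.symm_apply_apply, hs]
    simp only [Units.val_inv_eq_inv_val, Units.val_mk0]
    field_simp
  · have hga : ∀ {W : Submodule F (ι → F)} (b : Module.Basis (Fin (2 * (m + 1))) F W),
        (Matrix.of fun i j => polar (coordForm Q b) (Pi.basisFun F _ i) (Pi.basisFun F _ j)) =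
          gram Q fun i => (b i : ι → F) := fun {W} b => by
      ext i j
      simp only [gram, Matrix.of_apply, QuadraticMap.polar, coordForm_apply, map_add, Submodule.coe_add,
        Module.Basis.equivFun_symm_apply, Pi.basisFun_apply]
      simp [Pi.single_apply, ite_smul]
    have hcard : Fintype.card (Fin (2 * (m + 1))) = 2 * (m + 1) := Fintype.card_fin _
    obtain ⟨g, hg⟩ := exists_isometry_of_disc (Q := coordForm Q bA) h2 (coordForm Q bB)
      (coordForm_nondeg hA bA) (coordForm_nondeg hB bB) rfl (Pi.basisFun F _) (Pi.basisFun F _) (by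
        rw [hga, hga]
        have hA' := plus_iff_gram h2 hA bA hcard
        have hB' := plus_iff_gram h2 hB bB hcard
        have ha0 : (-1 : F) ^ (m + 1) * (gram Q fun i => (bA i : ι → F)).det ≠ 0 := by
          refine mul_ne_zero (pow_ne_zero _ (neg_ne_zero.2 one_ne_zero)) ?_
          rw [← hga]
          exact det_gram_ne_zero _ (coordForm_nondeg hA bA)
        have hb0 : (-1 : F) ^ (m + 1) * (gram Q fun i => (bB i : ι → F)).det ≠ 0 := by
          refine mul_ne_zero (pow_ne_zero _ (neg_ne_zero.2 one_ne_zero)) ?_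
          rw [← hga]
          exact det_gram_ne_zero _ (coordForm_nondeg hB bB)
        rw [← isSquare_mul_sq_iff (pow_ne_zero (m + 1) (neg_ne_zero.2 (one_ne_zero (α := F)))),
          show ∀ t a b : F, t * t * (a * b) = (t * a) * (t * b) from fun t a b => by ring]
        by_cases hp : IsPlusTypeOn ⇑Q A
        · exact (hA'.1 hp).mul (hB'.1 (htype.1 hp))
        · exact isSquare_mul_of_not (mt hA'.2 hp) (mt hB'.2 (mt htype.2 hp)))
    refine ⟨(bA.equivFun.trans g).trans bB.equivFun.symm, fun w => ?_⟩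
    rw [LinearEquiv.trans_apply, ← coordForm_apply, LinearEquiv.trans_apply, hg, coordForm_apply,
      LinearEquiv.symm_apply_apply]

end CfsgLib.AschbacherOrth
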