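import Cfsg.Agent.Lib.AschbacherOrth.Classes
import Cfsg.Agent.Lib.AschbacherOrth.Halves

/-!
# Orthogonal decompositions into isometric parts
-/

set_option autoImplicit false
set_option linter.unusedSectionVars false
set_option linter.style.haveILetI false
set_option linter.unusedSimpArgs false
set_option linter.style.show false

namespace CfsgLib.AschbacherOrth

open QuadraticMap Cfsg Cfsg.Geo CfsgLib.Geometry CfsgLib.Aschbacher
open scoped Matrix MatrixGroups

universe u
variable {F : Type u} [Field F] [Fintype F] {ι : Type} [Fintype ι] [DecidableEq ι]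
variable {Q : QuadraticForm F (ι → F)}

theorem disjoint_of_orth {A B : Submodule F (ι → F)} (ho : Orth Q A B) (hA : IsNondegenerateOn (polar ⇑Q) A) :
    Disjoint A B := by
  rw [Submodule.disjoint_def]
  intro x hxA hxB
  by_contra h0
  obtain ⟨⟨y, hy, hne⟩, -⟩ := hA x hxA h0
  exact hne (ho y hy x hxB)

theorem orth_iSup {κ : Sort*} {A : Submodule F (ι → F)} {B : κ → Submodule F (ι → F)} (h : ∀ i, Orth Q (B i) A) :
    Orth Q (⨆ i, B i) A := by
  intro u hu v hv
  induction hu using Submodule.iSup_induction' with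
  | mem i x hx => exact h i x hx v hv
  | zero => exact QuadraticMap.polar_zero_left _ _
  | add x y _ _ hx hy => rw [polar_add_left, hx, hy, add_zero]

/-- The sum of the first parts. -/
def below {t : ℕ} (D : Fin t → Submodule F (ι → F)) (j : ℕ) : Submodule F (ι → F) :=
  ⨆ (i : Fin t) (_ : (i : ℕ) < j), D i

theorem below_zero {t : ℕ} (D : Fin t → Submodule F (ι → F)) : below D 0 = ⊥ := by simp [below]

theorem below_succ {t : ℕ} (D : Fin t → Submodule F (ι → F)) {j : ℕ} (hj : j < t) :
    below D (j + 1) = below D j ⊔ D ⟨j, hj⟩ := by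
  refine le_antisymm (iSup₂_le fun i hi => ?_) (sup_le (iSup₂_le fun i hi => ?_) ?_)
  · rcases Nat.lt_succ_iff_lt_or_eq.1 hi with h | h
    · exact le_sup_of_le_left (le_iSup₂_of_le (f := fun (i : Fin t) (_ : (i : ℕ) < j) => D i) i h le_rfl)
    · rw [show i = ⟨j, hj⟩ from Fin.ext h]; exact le_sup_right
  · exact le_iSup₂_of_le (f := fun (i : Fin t) (_ : (i : ℕ) < j + 1) => D i) i (hi.trans (Nat.lt_succ_self j)) le_rfl
  · exact le_iSup₂_of_le (f := fun (i : Fin t) (_ : (i : ℕ) < j + 1) => D i) ⟨j, hj⟩ (Nat.lt_succ_self j) le_rfl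

theorem below_card {t : ℕ} (D : Fin t → Submodule F (ι → F)) : below D t = iSup D := by
  refine le_antisymm (iSup₂_le fun i _ => le_iSup D i) (iSup_le fun i => ?_)
  exact le_iSup₂_of_le (f := fun (i : Fin t) (_ : (i : ℕ) < t) => D i) i i.2 le_rfl

/-- Pairwise orthogonal non-degenerate subspaces of equal dimension. -/
structure Pieces (Q : QuadraticForm F (ι → F)) {t : ℕ} (k : ℕ) (D : Fin t → Submodule F (ι → F)) : Prop where
  finrank_eq : ∀ i, Module.finrank F (D i) = k
  nondeg : ∀ i, IsNondegenerateOn (polar ⇑Q) (D i)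
  orth : ∀ i j, i ≠ j → Orth Q (D i) (D j)

theorem Pieces.of_decomp {t k : ℕ} {D : Fin t → Submodule F (ι → F)}
    (h : IsNondegenerateMDecomposition (polar ⇑Q) k D) : Pieces Q k D :=
  ⟨h.decomp.finrank_eq, h.nondegenerate, h.orthogonal⟩

theorem Pieces.orth_below {t k : ℕ} {D : Fin t → Submodule F (ι → F)} (h : Pieces Q k D) {j : ℕ} {l : Fin t}
    (hl : j ≤ l) : Orth Q (below D j) (D l) :=
  orth_iSup fun i => orth_iSup fun hi => h.orth i l fun e => by subst e; omega

theorem Pieces.below_data {t k : ℕ} {D : Fin t → Submodule F (ι → F)} (h : Pieces Q k D) :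
    ∀ j, j ≤ t → IsNondegenerateOn (polar ⇑Q) (below D j) ∧ Module.finrank F (below D j) = j * k := by
  intro j
  induction j with
  | zero =>
    intro _
    rw [below_zero, finrank_bot, zero_mul]
    exact ⟨fun w hw hw0 => absurd ((Submodule.mem_bot F).1 hw) hw0, rfl⟩
  | succ j ih =>
    intro hj
    obtain ⟨hn, hd⟩ := ih (by omega)
    rw [below_succ D (by omega : j < t)]
    have ho := h.orth_below (j := j) (l := ⟨j, by omega⟩) le_rfl
    exact ⟨nondeg_sup ho hn (h.nondeg _), by
      rw [finrank_sup_of_disjoint (disjoint_of_orth ho hn), hd, h.finrank_eq, Nat.succ_mul]⟩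

theorem Pieces.indep {t k : ℕ} {D : Fin t → Submodule F (ι → F)} (h : Pieces Q k D) : iSupIndep D := fun i =>
  (disjoint_of_orth (orth_iSup fun l => orth_iSup fun hl => h.orth l i hl).symm (h.nondeg i))

theorem Pieces.decomp {t k : ℕ} {D : Fin t → Submodule F (ι → F)} (h : Pieces Q k D) (ht : 2 ≤ t) (hk : 0 < k)
    (hn : t * k = Fintype.card ι) : IsNondegenerateMDecomposition (polar ⇑Q) k D :=
  ⟨⟨ht, hk, h.finrank_eq, h.indep, Submodule.eq_top_of_finrank_eq (by
    rw [← below_card, (h.below_data t le_rfl).2, hn, Module.finrank_fintype_fun_eq_card])⟩, h.nondeg, h.orth⟩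

theorem decomp_card {t k : ℕ} {D : Fin t → Submodule F (ι → F)}
    (h : IsNondegenerateMDecomposition (polar ⇑Q) k D) : t * k = Fintype.card ι := by
  rw [← ((Pieces.of_decomp h).below_data t le_rfl).2, below_card, h.decomp.iSup_eq_top, finrank_top,
    Module.finrank_fintype_fun_eq_card]

/-- The discriminant condition for isometry. -/
theorem isometric_of_disc (h2 : (2 : F) ≠ 0) {A B : Submodule F (ι → F)} (hA : IsNondegenerateOn (polar ⇑Q) A)
    (hB : IsNondegenerateOn (polar ⇑Q) B) {k : ℕ} (bA : Module.Basis (Fin k) F A) (bB : Module.Basis (Fin k) F B)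
    (hsq : IsSquare ((gram Q fun i => (bA i : ι → F)).det * (gram Q fun i => (bB i : ι → F)).det)) :
    AreIsometricFor ⇑Q A B := by
  have hga : ∀ {W : Submodule F (ι → F)} (b : Module.Basis (Fin k) F W),
      (Matrix.of fun i j => polar (coordForm Q b) (Pi.basisFun F _ i) (Pi.basisFun F _ j)) =
        gram Q fun i => (b i : ι → F) := fun {W} b => by
    ext i j
    simp only [gram, Matrix.of_apply, QuadraticMap.polar, coordForm_apply, map_add, Submodule.coe_add,
      Module.Basis.equivFun_symm_apply, Pi.basisFun_apply]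
    simp [Pi.single_apply, ite_smul]
  obtain ⟨g, hg⟩ := exists_isometry_of_disc (Q := coordForm Q bA) h2 (coordForm Q bB)
    (coordForm_nondeg hA bA) (coordForm_nondeg hB bB) rfl (Pi.basisFun F _) (Pi.basisFun F _)
    (by rwa [hga, hga])
  refine ⟨(bA.equivFun.trans g).trans bB.equivFun.symm, fun w => ?_⟩
  rw [LinearEquiv.trans_apply, ← coordForm_apply, LinearEquiv.trans_apply, hg, coordForm_apply,
    LinearEquiv.symm_apply_apply]

theorem isSquare_of_halves {k : ℕ} (hk : Even k) : IsSquare ((-1 : F) ^ k) := by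
  rw [hk.neg_one_pow]
  exact IsSquare.one

/-- The sum of the first `2j` of the parts is of plus type. -/
theorem Pieces.below_plus {t k : ℕ} {D : Fin t → Submodule F (ι → F)} (h : Pieces Q k D) (hk : Even k)
    (hiso : ∀ i j, AreIsometricFor ⇑Q (D i) (D j)) : ∀ j, 2 * j ≤ t → IsPlusTypeOn ⇑Q (below D (2 * j)) := by
  intro j
  induction j with
  | zero =>
    intro _
    rw [mul_zero, below_zero]
    exact ⟨⊥, le_rfl, fun u hu => by rw [(Submodule.mem_bot F).1 hu]; exact QuadraticMap.map_zero Q, by simp⟩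
  | succ j ih =>
    intro hj
    have h1 : 2 * j < t := by omega
    have h2 : 2 * j + 1 < t := by omega
    rw [show 2 * (j + 1) = 2 * j + 1 + 1 by ring, below_succ D h2, below_succ D h1, sup_assoc]
    have ho := h.orth_below (j := 2 * j) (l := ⟨2 * j, h1⟩) le_rfl
    have ho' := h.orth_below (j := 2 * j) (l := ⟨2 * j + 1, h2⟩) (Nat.le_succ _)
    have hp := plus_sup_isometric (disjoint_of_orth (h.orth ⟨2 * j, h1⟩ ⟨2 * j + 1, h2⟩ (by simp)) (h.nondeg _))
      (h.orth _ _ (by simp)) (h.nondeg _) (h.nondeg _) (hiso _ _)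
      (fun _ => by rw [h.finrank_eq]; exact isSquare_of_halves hk)
    have hoo : Orth Q (below D (2 * j)) (D ⟨2 * j, h1⟩ ⊔ D ⟨2 * j + 1, h2⟩) := (ho.symm.sup_left ho'.symm).symm
    exact plus_sup (disjoint_of_orth hoo (h.below_data _ (by omega)).1) hoo (ih (by omega)) hp

/-- The type of an orthogonal sum of isometric parts of even dimension. -/
theorem type_even (hQ : (polarBilin Q).Nondegenerate) {t k : ℕ} {D : Fin t → Submodule F (ι → F)}
    (h : IsNondegenerateMDecomposition (polar ⇑Q) k D) (hk : Even k)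
    (hiso : ∀ i j, AreIsometricFor ⇑Q (D i) (D j)) :
    (Even t → IsPlusTypeOn ⇑Q ⊤) ∧ (Odd t → ∀ i, (IsPlusTypeOn ⇑Q ⊤ ↔ IsPlusTypeOn ⇑Q (D i))) := by
  have hP := Pieces.of_decomp h
  have htop : below D t = ⊤ := by rw [below_card, h.decomp.iSup_eq_top]
  refine ⟨fun ⟨c, hc⟩ => ?_, fun ⟨c, hc⟩ i => ?_⟩
  · have h1 := hP.below_plus hk hiso c (by omega)
    rw [show 2 * c = t by omega, htop] at h1
    exact h1
  · have hl : 2 * c < t := by omega
    have hp := hP.below_plus hk hiso c (by omega)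
    have ho := hP.orth_below (j := 2 * c) (l := ⟨2 * c, hl⟩) le_rfl
    have hd := disjoint_of_orth ho (hP.below_data _ (by omega)).1
    have hs : below D (2 * c) ⊔ D ⟨2 * c, hl⟩ = ⊤ := by
      rw [← below_succ D hl, show 2 * c + 1 = t by omega, htop]
    have hlast : IsPlusTypeOn ⇑Q ⊤ ↔ IsPlusTypeOn ⇑Q (D ⟨2 * c, hl⟩) :=
      ⟨fun hV => plus_cancel hQ ⟨hd, codisjoint_iff.2 hs⟩ ho hp hV, fun hD => hs ▸ plus_sup hd ho hp hD⟩
    exact hlast.trans ⟨plus_of_isometric (hiso _ i), plus_of_isometric (hiso i _)⟩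

/-- Two isometric halves of odd dimension. -/
theorem halves_odd (h2 : (2 : F) ≠ 0) {k : ℕ} {D : Fin 2 → Submodule F (ι → F)}
    (h : IsNondegenerateMDecomposition (polar ⇑Q) k D) (hk : Odd k) :
    (AreIsometricFor ⇑Q (D 0) (D 1) → (IsPlusTypeOn ⇑Q ⊤ ↔ IsSquare (-1 : F))) ∧
      (¬ AreIsometricFor ⇑Q (D 0) (D 1) → (IsPlusTypeOn ⇑Q ⊤ ↔ ¬ IsSquare (-1 : F))) := by
  classical
  let bA := Module.finBasisOfFinrankEq F (D 0) (h.decomp.finrank_eq 0)
  let bB := Module.finBasisOfFinrankEq F (D 1) (h.decomp.finrank_eq 1)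
  have ho : Orth Q (D 0) (D 1) := h.orthogonal 0 1 (by decide)
  have hd := disjoint_of_orth ho (h.nondegenerate 0)
  have hs : D 0 ⊔ D 1 = ⊤ := by
    rw [eq_top_iff, ← h.decomp.iSup_eq_top]
    exact iSup_le fun i => by fin_cases i <;> simp
  have key := plus_sup_iff_gram h2 hd ho (h.nondegenerate 0) (h.nondegenerate 1) bA bB
  rw [hs, hk.neg_one_pow] at key
  set a := (gram Q fun i => (bA i : ι → F)).det
  set b := (gram Q fun i => (bB i : ι → F)).det
  have hne : ∀ {W : Submodule F (ι → F)} (hW : IsNondegenerateOn (polar ⇑Q) W) (bb : Module.Basis (Fin k) F W),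
      (gram Q fun i => (bb i : ι → F)).det ≠ 0 := fun {W} hW bb => by
    have := det_gram_ne_zero _ (coordForm_nondeg hW bb)
    convert this using 3
    ext i j
    simp only [gram, Matrix.of_apply, QuadraticMap.polar, coordForm_apply, map_add, Submodule.coe_add,
      Module.Basis.equivFun_symm_apply, Pi.basisFun_apply]
    simp [Pi.single_apply, ite_smul]
  have hab : a * b ≠ 0 := mul_ne_zero (hne (h.nondegenerate 0) bA) (hne (h.nondegenerate 1) bB)
  refine ⟨fun hiso => ?_, fun hiso => ?_⟩
  · obtain ⟨e, he⟩ := hiso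
    let bB' := bA.map e
    have key' := plus_sup_iff_gram h2 hd ho (h.nondegenerate 0) (h.nondegenerate 1) bA bB'
    have hg : (gram Q fun i => (bB' i : ι → F)) = gram Q fun i => (bA i : ι → F) := by
      ext i j
      simp only [gram, bB', Matrix.of_apply, Module.Basis.map_apply, QuadraticMap.polar]
      rw [← Submodule.coe_add, ← map_add, he, he, he]
      rfl
    rw [hs, hk.neg_one_pow, hg] at key'
    rw [key']
    have ha : a ≠ 0 := left_ne_zero_of_mul hab
    constructor
    · rintro ⟨r, hr⟩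
      exact ⟨r / a, by field_simp; linear_combination hr⟩
    · rintro ⟨r, hr⟩
      exact ⟨r * a, by linear_combination (a * a) * hr⟩
  · have hns : ¬ IsSquare (a * b) := fun hsq =>
      hiso (isometric_of_disc h2 (h.nondegenerate 0) (h.nondegenerate 1) bA bB hsq)
    rw [key]
    constructor
    · rintro ⟨r, hr⟩ ⟨s, hsq⟩
      have hs0 : s ≠ 0 := fun e => by
        rw [e, mul_zero] at hsq
        exact neg_ne_zero.2 one_ne_zero hsq
      exact hns ⟨r / s, by field_simp; linear_combination hr - (a * b) * hsq⟩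
    · intro hm
      rw [← neg_one_mul] at *
      exact isSquare_mul_of_not (by simpa using hm) hns

theorem even_of_char_two (h2 : (2 : F) = 0) {W : Submodule F (ι → F)} (hW : IsNondegenerateOn (polar ⇑Q) W) :
    Even (Module.finrank F W) := by
  haveI := CharTwo.of_one_ne_zero_of_two_eq_zero (one_ne_zero (α := F)) h2
  have hc := coordForm_nondeg hW (Module.finBasis F W)
  have := Aschbacher.even_of_symplectic (Aschbacher.polar_symplectic h2 (isQuad hc))
  simpa using this

theorem isSquare_neg_one_iff' : IsSquare (-1 : F) ↔ Fintype.card F % 4 ≠ 3 :=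
  FiniteField.isSquare_neg_one_iff

end CfsgLib.AschbacherOrth
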