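import Cfsg.Agent.Lib.AschbacherOrth.EvenTensor

/-!
# Symplectic-type groups and tensor cubes in dimension eight
-/

set_option autoImplicit false
set_option linter.unusedSectionVars false
set_option linter.style.show false

namespace CfsgLib.AschbacherOrth

open QuadraticMap Cfsg Cfsg.Geo CfsgLib.Geometry CfsgLib.Aschbacher
open CfsgLib.AschbacherForm (Geom IsSim coordR coordJ kronGL)
open scoped Matrix MatrixGroups Kronecker commutatorElement

universe u
variable {F : Type u} [Field F] [Fintype F] {ι : Type} [Fintype ι] [DecidableEq ι]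
variable {Q : QuadraticForm F (ι → F)}

local notation "σ₀" => RingEquiv.refl F

/-- The determinant of an invertible alternating matrix is a square. -/
theorem isSquare_det_alt {A : Matrix ι ι F} (hs : Aᵀ = -A) (hd : ∀ i, A i i = 0) (hA : A.det ≠ 0) {m : ℕ}
    (hn : Fintype.card ι = 2 * m) : IsSquare A.det := by
  classical
  obtain ⟨m', k, b, hc, hb, hr⟩ := GraphPSL.exists_symp_family (GraphPSL.isAlt_toBilin' hs hd)
  have hk : k = 0 := by
    by_contra hk
    refine hA (Matrix.exists_mulVec_eq_zero_iff.1 ⟨b (Sum.inr ⟨0, Nat.pos_of_ne_zero hk⟩), b.ne_zero _, hr _⟩)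
  obtain rfl : m' = m := by omega
  subst hk
  let e : Fin m' ⊕ Fin m' ≃ ι := Fintype.equivOfCardEq (by simp; omega)
  obtain ⟨P, hP⟩ := GraphPSL.congr_of_family e (fun i => b (Sum.inl i)) (GraphPSL.det_stdJ_ne_zero m') hb
  have h1 := congrArg Matrix.det hP
  rw [Matrix.det_mul, Matrix.det_mul, Matrix.det_transpose, Matrix.det_submatrix_equiv_self] at h1
  have hP0 : (P : Matrix ι ι F).det ≠ 0 := ((Matrix.isUnit_iff_isUnit_det _).1 P.isUnit).ne_zero
  have hJ1 : (GraphPSL.stdJ m' F).det = 1 := by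
    have h : Matrix.J (Fin m') F = Matrix.fromBlocks 1 (-1) 0 1 * Matrix.fromBlocks 1 0 1 1 *
        Matrix.fromBlocks 1 (-1) 0 1 := by
      simp [Matrix.J, Matrix.fromBlocks_multiply]
    show (Matrix.J (Fin m') F).det = 1
    rw [h, Matrix.det_mul, Matrix.det_mul, Matrix.det_fromBlocks_zero₂₁, Matrix.det_fromBlocks_zero₁₂]
    simp
  refine ⟨((P : Matrix ι ι F).det)⁻¹, ?_⟩
  rw [hJ1] at h1
  field_simp
  linear_combination h1

/-- Groups of symplectic type in dimension divisible by four fix forms of plus type only. -/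
theorem abelian_plus (hQ : (polarBilin Q).Nondegenerate) {m : ℕ} (hn : Fintype.card ι = 2 * m) (hm : Even m)
    (hm0 : 0 < m) {H N : Subgroup (GL ι F)} (hH : H ≤ isometryGroup F ⇑Q)
    (hN : Aschbacher.AbelianData (H ⊔ scalars ι F) N) : IsPlusTypeOn ⇑Q ⊤ := by
  classical
  haveI : Nonempty ι := Fintype.card_pos_iff.1 (by omega)
  obtain ⟨h2, -, hpow⟩ := abelian_cases hQ hH hN
  obtain ⟨J, hG⟩ := exists_geom hQ
  have hsim : H ⊔ scalars ι F ≤ similarityGroup (polar ⇑Q) := sup_le (fun h hh =>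
    ⟨1, fun u v => by rw [Units.val_one, one_mul]; exact isom_polar (hH hh) u v⟩) hG.scalars_le
  have hsimN : ∀ x ∈ N, ∃ μ : F, IsSim σ₀ (J : Matrix ι ι F) (x : Matrix ι ι F) μ := fun x hx => by
    obtain ⟨μ, hμ⟩ := hsim (hN.le hx)
    exact ⟨_, (hG.isSim_iff _ _).2 hμ⟩
  have hsq : ∀ x ∈ N, ∀ c μ : F, (x : Matrix ι ι F) * (x : Matrix ι ι F) = c • 1 →
      IsSim σ₀ (J : Matrix ι ι F) (x : Matrix ι ι F) μ → μ = c ∨ μ = -c := fun x _ c μ hc hμ => by
    have h1 := AschbacherForm.isSim_mul hμ hμ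
    rw [hc] at h1
    have h3 := AschbacherForm.isSim_smul (AschbacherForm.isSim_one σ₀ (J : Matrix ι ι F)) c
    have := AschbacherForm.isSim_unique h1 h3
    rw [RingEquiv.refl_apply, mul_one] at this
    exact mul_self_eq_mul_self_iff.1 this
  have hval : ∀ x ∈ N, ∃ c : F, c ≠ 0 ∧ (x : Matrix ι ι F) * (x : Matrix ι ι F) = c • 1 := fun x hx => by
    obtain ⟨c, hc⟩ := exists_sc (hpow x hx)
    refine ⟨(c : F), c.ne_zero, ?_⟩
    rw [← Units.val_mul, ← _root_.sq, ← hc, sc_val]
  have hcomm : ∀ x ∈ N, x ∉ scalars ι F → ∃ y ∈ N, (y : Matrix ι ι F) * (x : Matrix ι ι F) =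
      -((x : Matrix ι ι F) * (y : Matrix ι ι F)) := by
    intro x hx hxs
    obtain ⟨y, hy, hne⟩ := hN.exists_noncomm hxs
    refine ⟨y, hy, ?_⟩
    obtain ⟨c, hc⟩ := hN.exists_comm hx hy
    have h1 := hN.comm_pow hpow hx hy hc
    have hc2 : (c : F) * c = 1 := by rw [← Units.val_mul, ← _root_.sq, h1, Units.val_one]
    have hc1 : (c : F) = -1 := (mul_self_eq_one_iff.1 hc2).resolve_left fun e => hne (by
      rw [hc, Units.ext (show (c : F) = ((1 : Fˣ) : F) by rw [e, Units.val_one]), sc_one, one_mul])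
    have h3 := congrArg (fun g : GL ι F => (g : Matrix ι ι F)) hc
    simp only [Units.val_mul, sc_val, hc1] at h3
    rw [h3, Matrix.smul_mul, one_mul, neg_one_smul]
  -- a skew element
  obtain ⟨x, hx, hxs⟩ := SetLike.exists_of_lt (lt_of_le_of_ne hN.scal hN.ne.symm)
  obtain ⟨y, hy, hyx⟩ := hcomm x hx hxs
  have hskew : ∃ z ∈ N, ∃ c : F, c ≠ 0 ∧ (z : Matrix ι ι F) * (z : Matrix ι ι F) = c • 1 ∧
      IsSim σ₀ (J : Matrix ι ι F) (z : Matrix ι ι F) (-c) ∧ z ∉ scalars ι F := by
    have notsc : ∀ z ∈ N, ∀ c : F, c ≠ 0 → (z : Matrix ι ι F) * (z : Matrix ι ι F) = c • 1 →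
        IsSim σ₀ (J : Matrix ι ι F) (z : Matrix ι ι F) (-c) → z ∉ scalars ι F := fun z _ c hc0 hc hμ hs => by
      obtain ⟨a, rfl⟩ := exists_sc hs
      have h1 := AschbacherForm.isSim_smul (AschbacherForm.isSim_one σ₀ (J : Matrix ι ι F)) (a : F)
      rw [← sc_val] at h1
      have h3 := AschbacherForm.isSim_unique hμ h1
      rw [sc_val, Matrix.smul_mul, one_mul, smul_smul] at hc
      have h4 : (a : F) * a = c := by
        have := congrFun (congrFun hc (Classical.arbitrary ι)) (Classical.arbitrary ι)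
        simpa using this
      rw [RingEquiv.refl_apply, mul_one, h4] at h3
      exact hc0 ((mul_eq_zero.1 (show (2 : F) * c = 0 by linear_combination -h3)).resolve_left h2)
    obtain ⟨cx, hcx0, hcx⟩ := hval x hx
    obtain ⟨cy, hcy0, hcy⟩ := hval y hy
    obtain ⟨μx, hμx⟩ := hsimN x hx
    obtain ⟨μy, hμy⟩ := hsimN y hy
    rcases hsq x hx cx μx hcx hμx with e | e
    swap
    · exact ⟨x, hx, cx, hcx0, hcx, e ▸ hμx, hxs⟩
    rcases hsq y hy cy μy hcy hμy with e' | e'
    swap
    · exact ⟨y, hy, cy, hcy0, hcy, e' ▸ hμy, notsc y hy cy hcy0 hcy (e' ▸ hμy)⟩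
    have h1 : ((x * y : GL ι F) : Matrix ι ι F) * ((x * y : GL ι F) : Matrix ι ι F) = (-(cx * cy)) • 1 := by
      rw [Units.val_mul, mul_assoc, ← mul_assoc (y : Matrix ι ι F), hyx, neg_mul, mul_neg, mul_assoc, hcy,
        Matrix.mul_smul, mul_one, Matrix.mul_smul, hcx, smul_smul, neg_smul, mul_comm cy cx]
    have h2' : IsSim σ₀ (J : Matrix ι ι F) ((x * y : GL ι F) : Matrix ι ι F) (-(-(cx * cy))) := by
      rw [neg_neg, Units.val_mul, ← e, ← e']
      exact AschbacherForm.isSim_mul hμx hμy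
    exact ⟨x * y, N.mul_mem hx hy, _, neg_ne_zero.2 (mul_ne_zero hcx0 hcy0), h1, h2',
      notsc _ (N.mul_mem hx hy) _ (neg_ne_zero.2 (mul_ne_zero hcx0 hcy0)) h1 h2'⟩
  obtain ⟨z, hz, c, hc0, hzz, hμ, hzs⟩ := hskew
  obtain ⟨w, hw, hwz⟩ := hcomm z hz hzs
  -- the determinant of the skew element
  have hdetz : (z : Matrix ι ι F).det = (-c) ^ m := by
    open Polynomial in
    have hprod : Matrix.charmatrix (z : Matrix ι ι F) * Matrix.charmatrix (-(z : Matrix ι ι F)) =
        (X ^ 2 - C c) • (1 : Matrix ι ι F[X]) := by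
      simp only [Matrix.charmatrix, Matrix.smul_one_eq_diagonal, map_neg, sub_neg_eq_add]
      set M := (Polynomial.C : F →+* F[X]).mapMatrix (z : Matrix ι ι F)
      have hM : M * M = Matrix.scalar ι (C c) := by
        rw [← map_mul, hzz, Matrix.smul_one_eq_diagonal, RingHom.mapMatrix_apply,
          Matrix.diagonal_map (map_zero _)]
        rfl
      have hXM : Matrix.scalar ι (X : F[X]) * M = M * Matrix.scalar ι (X : F[X]) :=
        (Matrix.scalar_commute _ (fun r => Commute.all _ r) M).eq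
      rw [sub_mul, mul_add, mul_add, hXM, hM, ← map_mul, ← Matrix.scalar_apply, map_sub, ← _root_.sq]
      abel
    have hcp : (-(z : Matrix ι ι F)).charpoly = (z : Matrix ι ι F).charpoly := by
      have h1 : -(z : Matrix ι ι F) = (w : Matrix ι ι F) * (z : Matrix ι ι F) * (↑w⁻¹ : Matrix ι ι F) := by
        rw [hwz, neg_mul, mul_assoc, Units.mul_inv, mul_one]
      rw [h1, Matrix.coe_units_inv, Matrix.charpoly_units_conj]
    have hp : (z : Matrix ι ι F).charpoly * (z : Matrix ι ι F).charpoly =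
        ((Polynomial.X ^ 2 - Polynomial.C c) ^ m) * ((Polynomial.X ^ 2 - Polynomial.C c) ^ m) := by
      conv_lhs => arg 2; rw [← hcp]
      rw [Matrix.charpoly, Matrix.charpoly, ← Matrix.det_mul, hprod, Matrix.det_smul, Matrix.det_one, mul_one, hn,
        two_mul, pow_add]
    have hmon : ((Polynomial.X ^ 2 - Polynomial.C c) ^ m).Monic :=
      (Polynomial.monic_X_pow_sub_C c two_ne_zero).pow m
    have hpe : (z : Matrix ι ι F).charpoly = (Polynomial.X ^ 2 - Polynomial.C c) ^ m := by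
      rcases mul_self_eq_mul_self_iff.1 hp with e | e
      · exact e
      · exfalso
        have h1 := (Matrix.charpoly_monic (z : Matrix ι ι F)).leadingCoeff
        rw [e, Polynomial.leadingCoeff_neg, hmon.leadingCoeff] at h1
        exact h2 (by linear_combination -h1)
    rw [Matrix.det_eq_sign_charpoly_coeff, hpe, hn, pow_mul, neg_one_sq, one_pow, one_mul,
      Polynomial.coeff_zero_eq_eval_zero]
    simp
  -- the discriminant
  have hskewm : ((J : Matrix ι ι F) * (z : Matrix ι ι F))ᵀ = -((J : Matrix ι ι F) * (z : Matrix ι ι F)) := by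
    have hJs : (J : Matrix ι ι F)ᵀ = (J : Matrix ι ι F) := by
      have := hG.symm
      rwa [one_smul, show ((J : Matrix ι ι F).map σ₀) = (J : Matrix ι ι F) from Matrix.map_id _] at this
    have hμ' : (z : Matrix ι ι F)ᵀ * (J : Matrix ι ι F) * (z : Matrix ι ι F) = (-c) • (J : Matrix ι ι F) := hμ
    have h1 := congrArg (· * (z : Matrix ι ι F)) hμ'
    simp only [mul_assoc, hzz, Matrix.mul_smul, mul_one, Matrix.smul_mul] at h1
    rw [Matrix.transpose_mul, hJs]
    refine smul_right_injective _ hc0 ?_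
    show c • _ = c • _
    rw [h1, smul_neg, neg_smul]
  have hd0 : ∀ i, ((J : Matrix ι ι F) * (z : Matrix ι ι F)) i i = 0 := fun i => by
    have := congrFun (congrFun hskewm i) i
    simp only [Matrix.transpose_apply, Matrix.neg_apply] at this
    exact (mul_eq_zero.1 (show (2 : F) * ((J : Matrix ι ι F) * (z : Matrix ι ι F)) i i = 0 by
      linear_combination this)).resolve_left h2
  have hJ0 : (J : Matrix ι ι F).det ≠ 0 := ((Matrix.isUnit_iff_isUnit_det _).1 J.isUnit).ne_zero
  have hz0 : (z : Matrix ι ι F).det ≠ 0 := ((Matrix.isUnit_iff_isUnit_det _).1 z.isUnit).ne_zero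
  obtain ⟨r, hr⟩ := isSquare_det_alt hskewm hd0 (by rw [Matrix.det_mul]; exact mul_ne_zero hJ0 hz0) hn
  obtain ⟨k, hk⟩ := hm
  rw [Matrix.det_mul, hdetz] at hr
  -- conclusion
  let b : Module.Basis ι F (⊤ : Submodule F (ι → F)) := (Pi.basisFun F ι).map Submodule.topEquiv.symm
  have htop : IsNondegenerateOn (polar ⇑Q) (⊤ : Submodule F (ι → F)) := fun v _ hv => by
    obtain ⟨⟨x, hx⟩, y, hy⟩ := polar_nondeg hQ v hv
    exact ⟨⟨x, trivial, hx⟩, y, trivial, hy⟩
  rw [plus_iff_gram h2 htop b (m := m) hn]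
  have hgram : (gram Q fun i => (b i : ι → F)) = (J : Matrix ι ι F) := by
    ext i j
    show polar Q (b i : ι → F) (b j : ι → F) = _
    rw [hG.eq_gram, show (b i : ι → F) = Pi.single i 1 by simp [b], show (b j : ι → F) = Pi.single j 1 by simp [b],
      formOfGram_single]
  rw [hgram]
  refine ⟨r / (-c) ^ k, ?_⟩
  rw [hk] at hr ⊢
  have hck : (-c) ^ k ≠ 0 := pow_ne_zero _ (neg_ne_zero.2 hc0)
  rw [pow_add] at hr ⊢
  rw [← mul_pow (-1 : F), neg_one_mul, neg_neg, one_pow, one_mul]
  field_simp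
  linear_combination hr

/-- A perfect group is trivial if its commutators map into a commutative group. -/
theorem perfect_trivial {G G' : Type*} [Group G] [Group G'] {K : Subgroup G} (hperf : ⁅K, K⁆ = K) (θ : K →* G')
    (hθ : Function.Injective θ) (C : Subgroup G') (hC : ∀ a ∈ C, ∀ b ∈ C, a * b = b * a)
    (h : ∀ x y : K, ⁅θ x, θ y⁆ ∈ C) : K = ⊥ := by
  have hle : K ≤ (C.comap θ).map K.subtype := by
    conv_lhs => rw [← hperf]
    exact Subgroup.commutator_le.2 fun a ha b hb => ⟨⁅(⟨a, ha⟩ : K), ⟨b, hb⟩⁆, by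
      show θ _ ∈ C
      rw [map_commutatorElement]; exact h _ _, map_commutatorElement K.subtype _ _⟩
  have hmem : ∀ x : K, θ x ∈ C := fun x => by
    obtain ⟨y, hy, hyx⟩ := hle x.2
    rw [← Subtype.ext hyx]; exact hy
  rw [← hperf, eq_bot_iff, Subgroup.commutator_le]
  intro a ha b hb
  rw [Subgroup.mem_bot, commutatorElement_eq_one_iff_mul_comm]
  exact congrArg Subtype.val (hθ (show θ (⟨a, ha⟩ * ⟨b, hb⟩) = θ (⟨b, hb⟩ * ⟨a, ha⟩) by
    rw [map_mul, map_mul]; exact hC _ (hmem _) _ (hmem _)))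

/-- The centraliser of a non-scalar matrix of size two is commutative. -/
theorem comm_of_centralizes {w M N : Matrix (Fin 2) (Fin 2) F}
    (hw : ∀ c : F, w ≠ c • (1 : Matrix (Fin 2) (Fin 2) F)) (hM : M * w = w * M) (hN : N * w = w * N) :
    M * N = N * M := by
  have a01 := congrFun (congrFun hM 0) 1
  have a10 := congrFun (congrFun hM 1) 0
  have a00 := congrFun (congrFun hM 0) 0
  have b01 := congrFun (congrFun hN 0) 1
  have b10 := congrFun (congrFun hN 1) 0
  have b00 := congrFun (congrFun hN 0) 0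
  simp only [Matrix.mul_apply, Fin.sum_univ_two] at a01 a10 a00 b01 b10 b00
  ext i j
  rw [Matrix.mul_apply, Matrix.mul_apply, Fin.sum_univ_two, Fin.sum_univ_two]
  by_cases h01 : w 0 1 = 0
  · by_cases h10 : w 1 0 = 0
    · have hd : w 0 0 - w 1 1 ≠ 0 := fun e => hw (w 0 0) (by
        ext k l; fin_cases k <;> fin_cases l <;> simp [h01, h10]
        exact (sub_eq_zero.1 e).symm)
      have m01 : M 0 1 = 0 := (mul_eq_zero.1 (show (w 0 0 - w 1 1) * M 0 1 = 0 by
        linear_combination (M 0 0 - M 1 1) * h01 - a01)).resolve_left hd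
      have m10 : M 1 0 = 0 := (mul_eq_zero.1 (show (w 0 0 - w 1 1) * M 1 0 = 0 by
        linear_combination a10 + (M 0 0 - M 1 1) * h10)).resolve_left hd
      have n01 : N 0 1 = 0 := (mul_eq_zero.1 (show (w 0 0 - w 1 1) * N 0 1 = 0 by
        linear_combination (N 0 0 - N 1 1) * h01 - b01)).resolve_left hd
      have n10 : N 1 0 = 0 := (mul_eq_zero.1 (show (w 0 0 - w 1 1) * N 1 0 = 0 by
        linear_combination b10 + (N 0 0 - N 1 1) * h10)).resolve_left hd
      fin_cases i <;> fin_cases j <;> simp [m01, m10, n01, n10, mul_comm]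
    · refine mul_left_cancel₀ h10 ?_
      fin_cases i <;> fin_cases j <;>
        simp only [Fin.zero_eta, Fin.mk_one, Fin.isValue]
      · linear_combination N 1 0 * a00 - M 1 0 * b00
      · linear_combination -M 1 0 * b01 - (N 0 0 - N 1 1) * a00 - N 0 1 * a10
      · linear_combination N 1 0 * a10 - M 1 0 * b10
      · linear_combination M 1 0 * b00 - N 1 0 * a00
  · refine mul_left_cancel₀ h01 ?_
    fin_cases i <;> fin_cases j <;>
      simp only [Fin.zero_eta, Fin.mk_one, Fin.isValue]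
    · linear_combination N 0 1 * a00 - M 0 1 * b00
    · linear_combination N 0 1 * a01 - M 0 1 * b01
    · linear_combination -M 0 1 * b10 - (N 0 0 - N 1 1) * a00 - N 1 0 * a01
    · linear_combination M 0 1 * b00 - N 0 1 * a00

/-- A tensor cube of a two-dimensional space carries forms of plus type only. -/
theorem factors_plus (hQ : (polarBilin Q).Nondegenerate) (hn : Fintype.card ι = 8) {H : Subgroup (GL ι F)}
    (hH : H ≤ isometryGroup F ⇑Q) {d s : ℕ} {φ : Fin s → (Matrix (Fin d) (Fin d) F →ₐ[F] Matrix ι ι F)}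
    (h : AschbacherForm.Factors (H ⊔ scalars ι F) φ) : IsPlusTypeOn ⇑Q ⊤ := by
  classical
  haveI : Nonempty ι := Fintype.card_pos_iff.1 (by omega)
  obtain ⟨J, hG⟩ := exists_geom hQ
  have hGs : H ⊔ scalars ι F ≤ similarityGroup (polar ⇑Q) :=
    sup_le (fun g hg => ⟨1, fun u v => by rw [Units.val_one, one_mul]; exact isom_polar (hH hg) u v⟩) hG.scalars_le
  obtain ⟨e, P, S, c, l, hc, hJ, hS, hls, -, hK⟩ := AschbacherForm.wreath_data hG (by omega) hGs h
  have hd := h.two_le_dim
  have hs := h.two_le_num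
  have hcard : 8 = d ^ s := by rw [← hn, Fintype.card_congr e]; simp
  obtain ⟨rfl, rfl⟩ : d = 2 ∧ s = 3 := by
    have hs4 : s < 4 := by
      by_contra hc
      have : 2 ^ 4 ≤ d ^ s := le_trans (Nat.pow_le_pow_left hd 4) (Nat.pow_le_pow_right (by omega) (by omega))
      omega
    have hd3 : d ≤ 8 := hcard ▸ Nat.le_self_pow (by omega) d
    interval_cases s <;> interval_cases d <;> norm_num at hcard
    exact ⟨rfl, rfl⟩
  haveI : Nonempty (Fin 2) := ⟨0⟩
  replace hS : (S : Matrix (Fin 2) (Fin 2) F)ᵀ = l • (S : Matrix (Fin 2) (Fin 2) F) := hS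
  have hl2 := sq_eq_one_of_transpose hS
  have hl : l = 1 := by
    rw [RingEquiv.refl_apply, one_mul] at hls
    have h3 : l ^ 3 = 1 := mul_left_cancel₀ hc (by rw [mul_one]; exact hls)
    linear_combination h3 - l * hl2
  rw [hl, one_smul] at hS
  have hform : ∀ x y : (Fin 3 → Fin 2) → F, polar Q ((P : Matrix ι ι F) *ᵥ (x ∘ e)) ((P : Matrix ι ι F) *ᵥ (y ∘ e)) =
      c * formOfGram σ₀ (pure' fun _ : Fin 3 => (S : Matrix (Fin 2) (Fin 2) F)) x y := fun x y => by
    rw [AschbacherForm.coord_form hG e P, hJ, formOfGram_smul]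
  obtain ⟨K, hKle, hperf, hns, hKs⟩ := hK 0
  have hKH : K ≤ H := by
    rw [← hperf]
    exact (Subgroup.commutator_mono hKle hKle).trans (AschbacherForm.commutator_sup_scalars_le H)
  choose a ha using fun x : K => hKs x x.2
  have hone : a 1 = 1 := AschbacherForm.slot_injective 0 (by rw [← ha, AschbacherForm.slot_one]; exact map_one _)
  have hmul : ∀ x y : K, a (x * y) = a x * a y := fun x y => AschbacherForm.slot_injective 0 (by
    rw [AschbacherForm.slot_mul, ← ha, ← ha, ← ha, ← map_mul]; rfl)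
  let θ : K →* GL (Fin 2) F := MonoidHom.toHomUnits { toFun := a, map_one' := hone, map_mul' := hmul }
  have hθ : Function.Injective θ := fun x y h => by
    have h1 : a x = a y := congrArg (fun g : GL (Fin 2) F => (g : Matrix (Fin 2) (Fin 2) F)) h
    refine Subtype.ext (Units.ext ((coordR e P).injective ?_))
    rw [ha, ha, h1]
  have hnz : ∃ p q, (S : Matrix (Fin 2) (Fin 2) F) p q ≠ 0 := by
    by_contra hc
    push Not at hc
    exact S.isUnit.ne_zero (Matrix.ext hc)
  obtain ⟨p₀, q₀, hpq⟩ := hnz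
  have hiso : ∀ x : K, (θ x : Matrix (Fin 2) (Fin 2) F)ᵀ * (S : Matrix (Fin 2) (Fin 2) F) *
      (θ x : Matrix (Fin 2) (Fin 2) F) = (S : Matrix (Fin 2) (Fin 2) F) := fun x => by
    show (a x)ᵀ * (S : Matrix (Fin 2) (Fin 2) F) * a x = _
    have h1 := AschbacherForm.coord_sim σ₀ e P J (x : GL ι F) 1 ((hG.isSim_iff _ _).2 fun u v => by
      rw [one_mul]; exact isom_polar (hH (hKH x.2)) u v)
    unfold IsSim at h1
    rw [ha, hJ, show (slot 0 (a x)).map σ₀ = slot 0 (a x) from Matrix.map_id _, one_smul, Matrix.mul_smul,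
      Matrix.smul_mul] at h1
    have h2 := smul_right_injective _ hc h1
    rw [slot_eq_pure, AschbacherForm.pure'_transpose, pure'_mul, pure'_mul] at h2
    ext p q
    have h3 := congrFun (congrFun h2 ![p, p₀, p₀]) ![q, q₀, q₀]
    simp [pure', Fin.prod_univ_three] at h3
    simpa [hpq] using h3
  by_cases h2 : (2 : F) = 0
  swap
  · exfalso
    refine hns ((perfect_trivial hperf θ hθ
      { carrier := {b : GL (Fin 2) F | (b : Matrix (Fin 2) (Fin 2) F) *
            ((↑S⁻¹ : Matrix (Fin 2) (Fin 2) F) * omega2 F) =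
          ((↑S⁻¹ : Matrix (Fin 2) (Fin 2) F) * omega2 F) * (b : Matrix (Fin 2) (Fin 2) F)}
        one_mem' := by simp
        mul_mem' := fun {b b'} hb hb' => by
          simp only [Set.mem_ofPred_eq, Units.val_mul] at *
          rw [mul_assoc, hb', ← mul_assoc, hb, mul_assoc]
        inv_mem' := fun {b} hb => by
          simp only [Set.mem_ofPred_eq] at *
          have h1 := congrArg (fun M => (↑b⁻¹ : Matrix (Fin 2) (Fin 2) F) * M * (↑b⁻¹ : Matrix (Fin 2) (Fin 2) F)) hb
          simp only [mul_assoc, Units.inv_mul_cancel_left, Units.mul_inv, mul_one] at h1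
          exact h1.symm.trans rfl |>.trans (by simp [mul_assoc]) }
      (fun b hb b' hb' => Units.ext (comm_of_centralizes (fun t ht => ?_) hb hb')) fun x y => ?_) ▸ bot_le)
    · have hSw : t • (S : Matrix (Fin 2) (Fin 2) F) = omega2 F := by
        have := congrArg ((S : Matrix (Fin 2) (Fin 2) F) * ·) ht
        simpa [← mul_assoc, Matrix.mul_smul] using this.symm
      have h5 : (omega2 F)ᵀ = omega2 F := by rw [← hSw, Matrix.transpose_smul, hS]
      have := congrFun (congrFun h5 0) 1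
      simp [omega2] at this
      exact h2 (by linear_combination -this)
    · rw [← map_commutatorElement]
      set g := θ ⁅x, y⁆ with hg
      have hdet : (g : Matrix (Fin 2) (Fin 2) F).det = 1 := by
        have : Matrix.GeneralLinearGroup.det g = 1 := by
          rw [hg, map_commutatorElement, map_commutatorElement, commutatorElement_eq_one_iff_mul_comm, mul_comm]
        exact congrArg Units.val this
      have e1 := hiso ⁅x, y⁆
      have e2 : (g : Matrix (Fin 2) (Fin 2) F)ᵀ * omega2 F * (g : Matrix (Fin 2) (Fin 2) F) = omega2 F := by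
        rw [omega2_congr, hdet, one_smul]
      set w := (↑S⁻¹ : Matrix (Fin 2) (Fin 2) F) * omega2 F
      have hSw : (S : Matrix (Fin 2) (Fin 2) F) * w = omega2 F := by rw [← mul_assoc, Units.mul_inv, one_mul]
      show (g : Matrix (Fin 2) (Fin 2) F) * w = w * (g : Matrix (Fin 2) (Fin 2) F)
      have h6 : (g : Matrix (Fin 2) (Fin 2) F)ᵀ * ((S : Matrix (Fin 2) (Fin 2) F) *
            (w * (g : Matrix (Fin 2) (Fin 2) F))) =
          (g : Matrix (Fin 2) (Fin 2) F)ᵀ * ((S : Matrix (Fin 2) (Fin 2) F) *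
            ((g : Matrix (Fin 2) (Fin 2) F) * w)) := by
        rw [← mul_assoc (S : Matrix (Fin 2) (Fin 2) F) w, hSw, ← mul_assoc _ (omega2 F), e2,
          ← mul_assoc (S : Matrix (Fin 2) (Fin 2) F), ← mul_assoc _ ((S : Matrix (Fin 2) (Fin 2) F) * _),
          ← mul_assoc _ (S : Matrix (Fin 2) (Fin 2) F), e1, hSw]
      exact (S.isUnit.mul_left_cancel (((Matrix.isUnit_transpose _).2 g.isUnit).mul_left_cancel h6)).symm
  -- characteristic two
  have hdS : ∀ p, (S : Matrix (Fin 2) (Fin 2) F) p p = 0 := fun p => by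
    have h1 := hform (Pi.single (fun _ => p) 1) (Pi.single (fun _ => p) 1)
    rw [polar_self', h2, zero_mul, formOfGram_single] at h1
    have h3 := (mul_eq_zero.1 h1.symm).resolve_left hc
    simp [pure'] at h3
    exact h3
  have hneg : ∀ c : F, -c = c := fun c => by rw [neg_eq_iff_add_eq_zero, ← two_mul, h2, zero_mul]
  have hSalt := symplectic_of_gram S.isUnit (by rw [hS]; ext i j; simp [hneg]) hdS
  let T : GL (Fin 2 × Fin 2) F := sc (Units.mk0 c hc) * kronGL S S
  have hT : (T : Matrix (Fin 2 × Fin 2) (Fin 2 × Fin 2) F) =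
      c • ((S : Matrix (Fin 2) (Fin 2) F) ⊗ₖ (S : Matrix (Fin 2) (Fin 2) F)) := by
    simp [T, sc_val, Matrix.smul_mul, AschbacherForm.kronGL_val]
  have hTalt := symplectic_of_gram T.isUnit
    (by rw [hT, Matrix.transpose_smul, ← Matrix.kroneckerMap_transpose, hS]; ext i j; simp [hneg])
    (fun i => by rw [hT]; simp [Matrix.kronecker_apply, hdS])
  let E : (Fin 3 → Fin 2) ≃ Fin 2 × (Fin 2 × Fin 2) :=
    { toFun := fun x => (x 0, x 1, x 2)
      invFun := fun z => ![z.1, z.2.1, z.2.2]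
      left_inv := fun x => funext fun i => by fin_cases i <;> rfl
      right_inv := fun z => rfl }
  have hJ' : coordJ σ₀ (e.trans E) P J = kronGL S T := by
    refine Units.ext (Matrix.ext fun x y => ?_)
    have h1 := congrFun (congrFun hJ (E.symm x)) (E.symm y)
    rw [AschbacherForm.coordJ_val] at h1 ⊢
    simp only [Matrix.submatrix_apply, Equiv.symm_trans_apply] at h1 ⊢
    rw [h1, AschbacherForm.kronGL_val, hT]
    have hE0 : ∀ z, E.symm z 0 = z.1 := fun z => rfl
    have hE1 : ∀ z, E.symm z 1 = z.2.1 := fun z => rfl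
    have hE2 : ∀ z, E.symm z 2 = z.2.2 := fun z => rfl
    simp [pure', Fin.prod_univ_three, hE0, hE1, hE2, Matrix.kronecker_apply]
    ring
  refine plus_of_pure_zero (by simp [hn]) (e.trans E) P fun x y => ?_
  by_contra hne
  refine hns ?_
  have hfix : ∀ (k : K) (x : Fin 2 → F), Q (pureVec (e.trans E) P ((θ k : Matrix (Fin 2) (Fin 2) F) *ᵥ x) y) =
      Q (pureVec (e.trans E) P x y) := fun k x => by
    have hAB : coordR (e.trans E) P ((k : GL ι F) : Matrix ι ι F) =
        (kronGL (θ k) (1 : GL (Fin 2 × Fin 2) F) : Matrix _ _ F) := by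
      ext u v
      have h1 := congrFun (congrFun (ha k) (E.symm u)) (E.symm v)
      rw [AschbacherForm.coordR_apply] at h1 ⊢
      simp only [Matrix.submatrix_apply, Equiv.symm_trans_apply] at h1 ⊢
      rw [h1, AschbacherForm.kronGL_val, slot_eq_pure]
      have hE0 : ∀ z, E.symm z 0 = z.1 := fun z => rfl
      have hE1 : ∀ z, E.symm z 1 = z.2.1 := fun z => rfl
      have hE2 : ∀ z, E.symm z 2 = z.2.2 := fun z => rfl
      simp [pure', Fin.prod_univ_three, hE0, hE1, hE2, Matrix.kronecker_apply, Matrix.one_apply, Prod.ext_iff, ite_and]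
      split_ifs <;> rfl
    have h1 := mulVec_pureVec (e.trans E) P _ hAB x y
    rw [Units.val_one, Matrix.one_mulVec] at h1
    rw [← h1, isom_apply (hH (hKH k.2))]
  let ψ : (Fin 2 → F) →+ F :=
    { toFun := fun x => Q (pureVec (e.trans E) P x y)
      map_zero' := by
        have h := pureVec_smul_left (e.trans E) P 0 (0 : Fin 2 → F) y
        rw [zero_smul, zero_smul] at h
        rw [h, QuadraticMap.map_zero]
      map_add' := fun u v => by
        rw [pureVec_add_left, map_add', polar_pureVec hG (e.trans E) P hJ', hTalt.alternating, mul_zero, add_zero] }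
  obtain ⟨u, hu, hu0⟩ : ∃ u, ψ u = 0 ∧ u ≠ 0 := by
    by_contra hc
    push Not at hc
    have := Fintype.card_le_of_injective ψ ((injective_iff_map_eq_zero ψ).2 hc)
    rw [Fintype.card_fun, Fintype.card_fin] at this
    have := Fintype.one_lt_card (α := F)
    nlinarith
  have hψs : ∀ (t : F) v, ψ (t • v) = t * t * ψ v := fun t v => by
    show Q (pureVec (e.trans E) P (t • v) y) = _
    rw [pureVec_smul_left, map_smul']
    rfl
  have hx0 : ψ x ≠ 0 := hne
  have hli : LinearIndependent F ![u, x] := LinearIndependent.pair_iff.2 fun s t hst => by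
    have h1 := congrArg ψ hst
    rw [map_add, hψs, hψs, hu, mul_zero, zero_add, map_zero] at h1
    have ht : t = 0 := mul_self_eq_zero.1 ((mul_eq_zero.1 h1).resolve_right hx0)
    rw [ht, zero_smul, add_zero] at hst
    exact ⟨(smul_eq_zero.1 hst).resolve_right hu0, ht⟩
  have hspan : ∀ v, ∃ s t : F, v = s • u + t • x := fun v => by
    have h1 : Submodule.span F (Set.range ![u, x]) = ⊤ := hli.span_eq_top_of_card_eq_finrank (by simp)
    have h3 : v ∈ Submodule.span F (Set.range ![u, x]) := h1 ▸ Submodule.mem_top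
    obtain ⟨f, hf⟩ := Submodule.mem_span_range_iff_exists_fun F |>.1 h3
    exact ⟨f 0, f 1, by rw [← hf, Fin.sum_univ_two]; rfl⟩
  have hline : ∀ v, ψ v = 0 → ∃ s : F, v = s • u := fun v hv => by
    obtain ⟨s, t, rfl⟩ := hspan v
    rw [map_add, hψs, hψs, hu, mul_zero, zero_add] at hv
    exact ⟨s, by rw [mul_self_eq_zero.1 ((mul_eq_zero.1 hv).resolve_right hx0), zero_smul, add_zero]⟩
  have hshift : ∀ k : K, ∃ s : F, (θ k : Matrix (Fin 2) (Fin 2) F) *ᵥ x = x + s • u := fun k => by
    obtain ⟨s, hs⟩ := hline ((θ k : Matrix (Fin 2) (Fin 2) F) *ᵥ x - x) (by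
      rw [map_sub]; exact sub_eq_zero.2 (hfix k x))
    exact ⟨s, by rw [← hs]; abel⟩
  have hscale : ∀ k : K, ∃ s : F, (θ k : Matrix (Fin 2) (Fin 2) F) *ᵥ u = s • u := fun k =>
    hline _ ((hfix k u).trans hu)
  have hgens : ∀ g h : GL (Fin 2) F, (g : Matrix (Fin 2) (Fin 2) F) *ᵥ u = (h : Matrix (Fin 2) (Fin 2) F) *ᵥ u →
      (g : Matrix (Fin 2) (Fin 2) F) *ᵥ x = (h : Matrix (Fin 2) (Fin 2) F) *ᵥ x → g = h := fun g h e1 e2 =>
    Units.ext (Matrix.ext_of_mulVec_single fun i => by
      obtain ⟨s, t, hst⟩ := hspan (Pi.single i 1)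
      simp only [hst, Matrix.mulVec_add, Matrix.mulVec_smul, e1, e2])
  refine (perfect_trivial hperf θ hθ
    { carrier := {b : GL (Fin 2) F | (b : Matrix (Fin 2) (Fin 2) F) *ᵥ u = u ∧
        ∃ s : F, (b : Matrix (Fin 2) (Fin 2) F) *ᵥ x = x + s • u}
      one_mem' := ⟨by simp, 0, by simp⟩
      mul_mem' := fun {b b'} hb hb' => by
        obtain ⟨h1, s, h3⟩ := hb
        obtain ⟨h1', s', h3'⟩ := hb'
        refine ⟨?_, s + s', ?_⟩
        · rw [Units.val_mul, ← Matrix.mulVec_mulVec, h1', h1]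
        · rw [Units.val_mul, ← Matrix.mulVec_mulVec, h3', Matrix.mulVec_add, h3, Matrix.mulVec_smul, h1, add_smul]
          abel
      inv_mem' := fun {b} hb => by
        obtain ⟨h1, s, h3⟩ := hb
        have hi : ∀ v, (↑b⁻¹ : Matrix (Fin 2) (Fin 2) F) *ᵥ ((b : Matrix (Fin 2) (Fin 2) F) *ᵥ v) = v := fun v => by
          rw [Matrix.mulVec_mulVec, Units.inv_mul, Matrix.one_mulVec]
        have h4 := hi u
        rw [h1] at h4
        refine ⟨h4, -s, ?_⟩
        have h5 := hi x
        rw [h3, Matrix.mulVec_add, Matrix.mulVec_smul, h4] at h5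
        rw [eq_sub_of_add_eq h5, neg_smul, sub_eq_add_neg] }
    (fun b hb b' hb' => ?_) fun k k' => ?_) ▸ bot_le
  · obtain ⟨h1, s, h3⟩ := hb
    obtain ⟨h1', s', h3'⟩ := hb'
    refine hgens _ _ ?_ ?_
    · simp only [Units.val_mul, ← Matrix.mulVec_mulVec, h1, h1']
    · simp only [Units.val_mul, ← Matrix.mulVec_mulVec, h3, h3', Matrix.mulVec_add, Matrix.mulVec_smul, h1, h1']
      abel
  · rw [← map_commutatorElement]
    refine ⟨?_, hshift _⟩
    obtain ⟨s, hs⟩ := hscale k
    obtain ⟨s', hs'⟩ := hscale k'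
    have hcomm : ((θ k * θ k' : GL (Fin 2) F) : Matrix (Fin 2) (Fin 2) F) *ᵥ u =
        ((θ k' * θ k : GL (Fin 2) F) : Matrix (Fin 2) (Fin 2) F) *ᵥ u := by
      simp only [Units.val_mul, ← Matrix.mulVec_mulVec, hs, hs', Matrix.mulVec_smul, smul_smul, mul_comm]
    have h1 : ((θ ⁅k, k'⁆ * (θ k' * θ k) : GL (Fin 2) F) : Matrix (Fin 2) (Fin 2) F) *ᵥ u =
        ((θ k' * θ k : GL (Fin 2) F) : Matrix (Fin 2) (Fin 2) F) *ᵥ u := by
      rw [← hcomm, ← map_mul θ, ← map_mul θ, ← map_mul θ, show ⁅k, k'⁆ * (k' * k) = k * k' by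
        rw [commutatorElement_def]; group]
    rw [Units.val_mul, ← Matrix.mulVec_mulVec] at h1
    rw [Units.val_mul, ← Matrix.mulVec_mulVec, hs, Matrix.mulVec_smul, hs', smul_smul, Matrix.mulVec_smul] at h1
    have hne' : s * s' ≠ 0 := mul_ne_zero
      (fun e => hu0 (by
        have h3 := congrArg ((↑(θ k)⁻¹ : Matrix (Fin 2) (Fin 2) F) *ᵥ ·) hs
        simp only [e, zero_smul, Matrix.mulVec_mulVec, Units.inv_mul, Matrix.one_mulVec, Matrix.mulVec_zero] at h3
        exact h3))
      (fun e => hu0 (by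
        have h3 := congrArg ((↑(θ k')⁻¹ : Matrix (Fin 2) (Fin 2) F) *ᵥ ·) hs'
        simp only [e, zero_smul, Matrix.mulVec_mulVec, Units.inv_mul, Matrix.one_mulVec, Matrix.mulVec_zero] at h3
        exact h3))
    exact smul_right_injective _ hne' h1

end CfsgLib.AschbacherOrth
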