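import Cfsg.Agent.Lib.AschbacherOrth.Odd

/-!
# Maximal subgroups in odd prime dimension
-/

set_option autoImplicit false
set_option linter.style.show false

namespace CfsgLib.AschbacherOrth

open QuadraticMap Cfsg Cfsg.Geo CfsgLib.Geometry CfsgLib.Aschbacher
open scoped Matrix MatrixGroups

universe u
variable {F : Type u} [Field F]

theorem eq_inf_of_maximal {G : Type*} [Group G] {K H X : Subgroup G} (hmax : IsMaximalIn K H) (hle : H ≤ X)
    (hn : ¬ K ≤ X) : H = X ⊓ K :=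
  ((hmax.2 (X ⊓ K) (le_inf hle hmax.1.le) inf_le_right).resolve_right fun h => hn (h ▸ inf_le_left)).symm

theorem omega_le_isometry {ι : Type} [Fintype ι] [DecidableEq ι] (Q : (ι → F) → F) :
    omegaGL Q ≤ isometryGroup F Q :=
  Subgroup.map_subtype_le _

theorem subfield_ne_top [Fintype F] {F₀ : Subfield F} {r : ℕ} (hr : r.Prime)
    (hc : Fintype.card F = Nat.card F₀ ^ r) : F₀ ≠ ⊤ := fun h => by
  have h1 : Nat.card F₀ = Fintype.card F := by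
    rw [← Nat.card_eq_fintype_card, h]
    exact Nat.card_congr Subfield.topEquiv.toEquiv
  rw [h1] at hc
  have h2 := Nat.pow_right_injective (Fintype.one_lt_card (α := F)) (show Fintype.card F ^ 1 = Fintype.card F ^ r by
    rw [pow_one]; exact hc)
  exact hr.one_lt.ne h2

theorem odd_prime_row [Fintype F] {m n : ℕ} (hm : 2 ≤ m) (hn : 2 * m + 1 = n) (hp : n.Prime)
    (hodd : Odd (Fintype.card F)) {H : Subgroup (GL (Unit ⊕ (Fin m ⊕ Fin m)) F)}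
    (hH : IsMaximalIn (omegaGL (Cfsg.quadFormOdd m F)) H) :
    (∃ W : Submodule F (Unit ⊕ (Fin m ⊕ Fin m) → F), W ≠ ⊥ ∧ IsTotallySingularQuad (Cfsg.quadFormOdd m F) W ∧
      H = subspaceStabilizer W ⊓ omegaGL (Cfsg.quadFormOdd m F)) ∨
    (∃ W : Submodule F (Unit ⊕ (Fin m ⊕ Fin m) → F), W ≠ ⊥ ∧ Even (Module.finrank F W) ∧
      IsNondegenerateOn (polar (Cfsg.quadFormOdd m F)) W ∧
      ¬ (Fintype.card F = 3 ∧ Module.finrank F W = 2 ∧ IsPlusTypeOn (Cfsg.quadFormOdd m F) W) ∧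
      H = subspaceStabilizer W ⊓ omegaGL (Cfsg.quadFormOdd m F)) ∨
    ((Fintype.card F).Prime ∧ ∃ D : Fin n → Submodule F (Unit ⊕ (Fin m ⊕ Fin m) → F),
      IsOrthogonalMDecomposition (Cfsg.quadFormOdd m F) 1 D ∧
      H = decompositionStabilizer D ⊓ omegaGL (Cfsg.quadFormOdd m F)) ∨
    (∃ (F₀ : Subfield F) (r : ℕ) (P : GL (Unit ⊕ (Fin m ⊕ Fin m)) F), r.Prime ∧
      Fintype.card F = Nat.card F₀ ^ r ∧ IsQuadFormRationalStructure (Cfsg.quadFormOdd m F) F₀ P ∧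
      H = subfieldSubgroup F₀ P ⊓ omegaGL (Cfsg.quadFormOdd m F)) ∨
    InOrthogonalResidualClass H := by
  classical
  have h2 := two_ne_of_odd hodd
  obtain ⟨Q, hQc, hQ, hstd⟩ := exists_std_odd h2 m
  rw [← hQc] at hH ⊢
  have hι : Fintype.card (Unit ⊕ (Fin m ⊕ Fin m)) = n := by simp; omega
  have h5 : 5 ≤ Fintype.card (Unit ⊕ (Fin m ⊕ Fin m)) := by omega
  have hS : ∀ {X : Subgroup (GL (Unit ⊕ (Fin m ⊕ Fin m)) F)}, ¬ SiegelIn Q X → ¬ omegaGL ⇑Q ≤ X :=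
    fun h h' => h (siegelIn_of_omega_le hQ h5 h')
  rcases prime_cases hQ h2 hι hp (by omega) (hH.1.le.trans (omega_le_isometry _)) with
    ⟨U, hU0, hU, hle⟩ | ⟨U, hU0, hU1, hev, hU, hbad, hle⟩ | ⟨hq, D, hD, hle⟩ | h | h
  · refine Or.inl ⟨U, hU0, hU, eq_inf_of_maximal hH hle (hS (SiegelIn.not_stab hQ (by omega) hU0 fun e => ?_))⟩
    obtain ⟨v, hv⟩ := exists_ne (0 : Unit ⊕ (Fin m ⊕ Fin m) → F)
    obtain ⟨⟨x, hx⟩, -⟩ := polar_nondeg hQ v hv
    exact hx (polar_eq_zero_of_singular hU (e ▸ Submodule.mem_top) (e ▸ Submodule.mem_top))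
  · exact Or.inr (Or.inl ⟨U, hU0, hev, hU, hbad,
      eq_inf_of_maximal hH hle (hS (SiegelIn.not_stab hQ (by omega) hU0 hU1))⟩)
  · exact Or.inr (Or.inr (Or.inl ⟨hq, D, hD, eq_inf_of_maximal hH hle
      (hS (SiegelIn.not_decomp hQ h5 hD.decomp.decomp (Or.inr ⟨by omega, hD.decomp⟩)))⟩))
  · obtain ⟨F₁, r, B, hr, hc, hB, hle⟩ := h.strong h2 ⟨m, by omega⟩ hQ hstd
    exact Or.inr (Or.inr (Or.inr (Or.inl ⟨F₁, r, B, hr, hc, hB,
      eq_inf_of_maximal hH hle (hS (not_subfield hQ h5 (subfield_ne_top hr hc) B))⟩)))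
  · exact Or.inr (Or.inr (Or.inr (Or.inr h)))

end CfsgLib.AschbacherOrth
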