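import Cfsg.Agent.Lib.AschbacherOrth.EvenTensor
import Cfsg.Agent.Lib.AschbacherOrth.OddPrimeRow

/-!
# Aschbacher's theorem for orthogonal groups in even dimension
-/

set_option autoImplicit false
set_option linter.unusedSectionVars false
set_option linter.style.show false

namespace CfsgLib.AschbacherOrth

open QuadraticMap Cfsg Cfsg.Geo CfsgLib.Geometry CfsgLib.Aschbacher
open scoped Matrix MatrixGroups

universe u
variable {F : Type u} [Field F] [Fintype F] {ι : Type} [Fintype ι] [DecidableEq ι]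
variable {Q : QuadraticForm F (ι → F)}

theorem finrank_lt_of_nondeg (hQ : (polarBilin Q).Nondegenerate) [Nonempty ι] {U : Submodule F (ι → F)}
    (hU : IsTotallySingularQuad ⇑Q U) : U ≠ ⊤ := fun e => by
  obtain ⟨v, hv⟩ := exists_ne (0 : ι → F)
  obtain ⟨⟨x, hx⟩, -⟩ := polar_nondeg hQ v hv
  exact hx (polar_eq_zero_of_singular hU (e ▸ Submodule.mem_top) (e ▸ Submodule.mem_top))

theorem odd_card_of_two_ne (h2 : (2 : F) ≠ 0) : Odd (Fintype.card F) :=
  not_not.1 fun h => h2 (AschbacherForm.finite_two_iff.2 h)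

/-- A nondegenerate subspace of odd dimension needs odd characteristic. -/
theorem odd_card_of_odd_dim {U : Submodule F (ι → F)} (hU : IsNondegenerateOn (polar ⇑Q) U)
    (ho : Odd (Module.finrank F U)) : Odd (Fintype.card F) :=
  odd_card_of_two_ne fun h2 => Nat.not_even_iff_odd.2 ho (even_of_char_two h2 hU (Q := Q))

/-- The reducible groups in even dimension. -/
theorem reducible_even (hQ : (polarBilin Q).Nondegenerate) (hn : 6 ≤ Fintype.card ι) {H : Subgroup (GL ι F)}
    (hH : H ≤ isometryGroup F ⇑Q) (hred : ¬ Irred H) :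
    (∃ U : Submodule F (ι → F), U ≠ ⊥ ∧ IsTotallySingularQuad ⇑Q U ∧ H ≤ subspaceStabilizer U) ∨
    (¬ Odd (Fintype.card F) ∧ ∃ v, Q v ≠ 0 ∧ H ≤ subspaceStabilizer (Submodule.span F {v})) ∨
    (∃ U : Submodule F (ι → F), U ≠ ⊥ ∧ U ≠ ⊤ ∧ IsNondegenerateOn (polar ⇑Q) U ∧
      2 * Module.finrank F U ≤ Fintype.card ι ∧
      ¬ (Fintype.card F ≤ 3 ∧ Module.finrank F U = 2 ∧ IsPlusTypeOn ⇑Q U) ∧ H ≤ subspaceStabilizer U) := by
  classical
  simp only [Irred, not_forall, not_or] at hred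
  obtain ⟨W, hW, hW0, hW1⟩ := hred
  rcases reducible_cases hQ hH hW0 hW1 hW with h | ⟨h, hv⟩ | ⟨U, hU0, hU1, hU, hle, hUH⟩
  · exact Or.inl h
  · exact Or.inr (Or.inl ⟨AschbacherForm.finite_two_iff.1 h, hv⟩)
  right
  by_cases hbad : Fintype.card F ≤ 3 ∧ Module.finrank F U = 2 ∧ IsPlusTypeOn ⇑Q U
  swap
  · exact Or.inr ⟨U, hU0, hU1, hU, hle, hbad, hUH⟩
  obtain ⟨hq, hd, hp⟩ := hbad
  obtain ⟨e, f, he, hf, he0, hf0, hef, hc⟩ := exists_hyperbolic hU hd hp
  have hv : Q (e + f) = 1 := by rw [map_add', he0, hf0, hef]; ring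
  have hv0 : Q (e + f) ≠ 0 := by rw [hv]; exact one_ne_zero
  have hL : H ≤ subspaceStabilizer (Submodule.span F {e + f}) := le_stab_of_map_le fun g hg => by
    rw [Submodule.map_span, Set.image_singleton, Submodule.span_singleton_le_iff_mem, Matrix.toLin'_apply]
    obtain ⟨x, y, hxy, hQv⟩ := hc ((g : Matrix ι ι F) *ᵥ (e + f)) ((hUH hg (e + f)).1 (U.add_mem he hf))
    rw [isom_apply (hH hg), hv] at hQv
    have hx : x ≠ 0 := fun h => by rw [h, zero_mul] at hQv; exact one_ne_zero hQv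
    have hsq : x * x = 1 := by
      have h1 := pow_card_pred hx
      have h2 := Fintype.one_lt_card (α := F)
      rcases (show Fintype.card F = 2 ∨ Fintype.card F = 3 by omega) with hq' | hq'
      · rw [hq', pow_one] at h1; rw [h1, one_mul]
      · rw [hq'] at h1; rwa [_root_.sq] at h1
    have hyx : y = x := mul_left_cancel₀ hx (hQv.symm.trans hsq.symm)
    rw [hxy, hyx, ← smul_add]
    exact Submodule.smul_mem _ _ (Submodule.mem_span_singleton_self _)
  by_cases h2 : (2 : F) = 0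
  · exact Or.inl ⟨AschbacherForm.finite_two_iff.1 h2, _, hv0, hL⟩
  · have h1 : Module.finrank F ↥(Submodule.span F {e + f}) = 1 :=
      finrank_span_singleton fun h => hv0 (by rw [h, QuadraticMap.map_zero])
    refine Or.inr ⟨_, fun h => ?_, fun h => ?_, nondeg_line h2 hv0, by omega, fun h => by omega, hL⟩
    · rw [h, finrank_bot] at h1; omega
    · rw [h, finrank_top, Module.finrank_fintype_fun_eq_card] at h1; omega

/-- The irreducible geometric classes, before the case analysis of the dimension. -/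
inductive EvenClass (Q : QuadraticForm F (ι → F)) (H : Subgroup (GL ι F)) : Prop
  | decomp (t k : ℕ) (D : Fin t → Submodule F (ι → F)) (hD : IsOrthogonalMDecomposition ⇑Q k D)
      (htk : t * k = Fintype.card ι) (hle : H ≤ decompositionStabilizer D)
  | pair (k : ℕ) (D : Fin 2 → Submodule F (ι → F)) (hk : 2 * k = Fintype.card ι) (hD : IsMDecomposition k D)
      (hs : ∀ i, IsTotallySingularQuad ⇑Q (D i)) (hle : H ≤ decompositionStabilizer D)
  | field (r : ℕ) (K : Subalgebra F (Matrix ι ι F)) (hr : r.Prime) (hdvd : r ∣ Fintype.card ι)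
      (hK : IsFieldSubalgebra r K) (hadj : IsAdjointClosedFor (polar ⇑Q) K) (hle : H ≤ subalgebraNormalizer K)
  | altTensor (h : AltTensor Q H)
  | symTensor (h : SymTensor Q H)
  | abelian (N : Subgroup (GL ι F)) (h : Aschbacher.AbelianData (H ⊔ scalars ι F) N)
  | factors (d s : ℕ) (φ : Fin s → (Matrix (Fin d) (Fin d) F →ₐ[F] Matrix ι ι F))
      (h : AschbacherForm.Factors (H ⊔ scalars ι F) φ)
  | subfield (h : SubfieldCase Q H)
  | residual (h : InOrthogonalResidualClass H)

/-- Aschbacher's theorem in even dimension. -/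
theorem even_cases (hQ : (polarBilin Q).Nondegenerate) (hn : 6 ≤ Fintype.card ι)
    (hsq : ∀ d : ℕ, d * d ≠ Fintype.card ι) {H : Subgroup (GL ι F)} (hH : H ≤ isometryGroup F ⇑Q) :
    (∃ U : Submodule F (ι → F), U ≠ ⊥ ∧ IsTotallySingularQuad ⇑Q U ∧ H ≤ subspaceStabilizer U) ∨
    (¬ Odd (Fintype.card F) ∧ ∃ v, Q v ≠ 0 ∧ H ≤ subspaceStabilizer (Submodule.span F {v})) ∨
    (∃ U : Submodule F (ι → F), U ≠ ⊥ ∧ U ≠ ⊤ ∧ IsNondegenerateOn (polar ⇑Q) U ∧
      2 * Module.finrank F U ≤ Fintype.card ι ∧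
      ¬ (Fintype.card F ≤ 3 ∧ Module.finrank F U = 2 ∧ IsPlusTypeOn ⇑Q U) ∧ H ≤ subspaceStabilizer U) ∨
    (Irred H ∧ EvenClass Q H) := by
  classical
  haveI : Nonempty ι := Fintype.card_pos_iff.1 (by omega)
  by_cases hirr : Irred H
  swap
  · rcases reducible_even hQ hn hH hirr with h | h | h
    · exact Or.inl h
    · exact Or.inr (Or.inl h)
    · exact Or.inr (Or.inr (Or.inl h))
  refine Or.inr (Or.inr (Or.inr ⟨hirr, ?_⟩))
  obtain ⟨J, hG⟩ := exists_geom hQ
  have hiso := fun h hh => isom_polar (Q := Q) (hH (x := h) hh)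
  have himp : AschbacherForm.Imprimitive (polar ⇑Q) H → EvenClass Q H := fun h => by
    rcases imprimitive_cases hH hirr (by omega) h with ⟨t, k, D, hD, hle⟩ | ⟨k, D, hk, hD, hs, hle⟩
    · exact .decomp t k D hD (decomp_card hD.decomp) hle
    · exact .pair k D hk hD hs hle
  have hfield : AschbacherForm.FieldExt (polar ⇑Q) H → EvenClass Q H := fun ⟨r, K, hr, hK, hadj, hle⟩ =>
    .field r K hr (dvd_card_of_field hK) hK hadj hle
  rcases AschbacherForm.form_core hG (by omega) H hiso with h | h | h |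
    ⟨-, h | ⟨N, hN⟩ | ⟨P, hP⟩ | ⟨d, s, φ, hφ⟩⟩
  · exfalso
    rcases h with ⟨U, hU0, hU, hUH⟩ | ⟨U, hU0, -, hlt, hUH⟩ <;> rcases hirr U hUH with e | e
    · exact hU0 e
    · obtain ⟨v, hv⟩ := exists_ne (0 : ι → F)
      obtain ⟨⟨x, hx⟩, -⟩ := polar_nondeg hQ v hv
      exact hx (hU x (e ▸ Submodule.mem_top) v (e ▸ Submodule.mem_top))
    · exact hU0 e
    · rw [e, finrank_top, Module.finrank_fintype_fun_eq_card] at hlt
      omega
  · exact himp h
  · exact hfield h
  · rcases even_tensor hQ (by omega) hsq hH hirr h with h | h | h | h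
    · exact himp h
    · exact hfield h
    · exact .altTensor h
    · exact .symTensor h
  · exact .abelian N hN
  · rcases simple_case (by omega) hQ hH hP with h | h
    · exact .residual h
    · exact .subfield h
  · exact .factors d s φ hφ

/-- The alternating tensor products with a factor of dimension two are of plus type. -/
theorem AltTensor.plus (hn : Fintype.card ι ≤ 12) {H : Subgroup (GL ι F)} (h : AltTensor Q H) :
    IsPlusTypeOn ⇑Q ⊤ := by
  classical
  obtain ⟨d, k, e, P, S, T, hd, hdk, hde, hke, -, -, -, hzero, -⟩ := h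
  have hc : Fintype.card ι = d * k := by simpa using Fintype.card_congr e
  obtain ⟨a, rfl⟩ := hde
  obtain ⟨b, rfl⟩ := hke
  obtain rfl : a = 1 := by
    by_contra ha
    have : 2 ≤ a := by omega
    have : 3 ≤ b := by omega
    nlinarith
  exact plus_of_pure_zero (κ := Fin (1 + 1)) (μ := Fin (b + b)) (by simp [hc]) e P hzero

/-- A decomposition into an even number of isometric subspaces, or a pair of totally singular ones, is plus. -/
theorem plus_of_pair [Nonempty ι] {k : ℕ} {D : Fin 2 → Submodule F (ι → F)} (hk : 2 * k = Fintype.card ι)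
    (hD : IsMDecomposition k D) (hs : ∀ i, IsTotallySingularQuad ⇑Q (D i)) : IsPlusTypeOn ⇑Q ⊤ :=
  ⟨D 0, le_top, hs 0, by rw [hD.finrank_eq, finrank_top, Module.finrank_fintype_fun_eq_card, hk]⟩

/-- A subfield of index two forces plus type. -/
theorem subfield_odd_of_minus (hQ : (polarBilin Q).Nondegenerate) {m : ℕ} (hn : Fintype.card ι = 2 * (m + 1))
    (hminus : ¬ IsPlusTypeOn ⇑Q ⊤) {H : Subgroup (GL ι F)} (h : SubfieldCase Q H) :
    ∃ (F₁ : Subfield F) (r : ℕ) (B : GL ι F) (ζ : F), r.Prime ∧ Odd r ∧ Fintype.card F = Nat.card F₁ ^ r ∧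
      ζ ≠ 0 ∧ IsQuadFormRationalStructure (fun v : ι → F => ζ * Q v) F₁ B ∧ H ≤ subfieldSubgroup F₁ B := by
  obtain ⟨F₁, r, B, ζ, hr, hc, hζ, hrat, hle⟩ := h
  refine ⟨F₁, r, B, ζ, hr, hr.odd_of_ne_two ?_, hc, hζ, hrat, hle⟩
  rintro rfl
  exact hminus (plus_of_rational_two hQ hn hc hζ hrat)

end CfsgLib.AschbacherOrth
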