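import Cfsg.Agent.Lib.AschbacherOrth.Tensor

/-!
# Tensor decompositions in even dimension
-/

set_option autoImplicit false
set_option linter.unusedSectionVars false
set_option linter.style.show false

namespace CfsgLib.AschbacherOrth

open QuadraticMap Cfsg Cfsg.Geo CfsgLib.Geometry CfsgLib.Aschbacher
open CfsgLib.AschbacherForm (Geom IsSim coordR coordJ kronGL)
open scoped Matrix MatrixGroups Kronecker

universe u
variable {F : Type u} [Field F] [Fintype F] {ι : Type} [Fintype ι] [DecidableEq ι]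
variable {Q : QuadraticForm F (ι → F)}

local notation "σ₀" => RingEquiv.refl F

section pureVec

variable {κ μ : Type} [Fintype κ] [DecidableEq κ] [Fintype μ] [DecidableEq μ]

/-- A pure tensor. -/
def pureVec (e : ι ≃ κ × μ) (P : GL ι F) (x : κ → F) (y : μ → F) : ι → F :=
  (P : Matrix ι ι F) *ᵥ ((fun a : κ × μ => x a.1 * y a.2) ∘ e)

theorem formOfGram_kron (S : Matrix κ κ F) (T : Matrix μ μ F) (x x' : κ → F) (y y' : μ → F) :
    formOfGram σ₀ (S ⊗ₖ T) (fun a : κ × μ => x a.1 * y a.2) (fun a : κ × μ => x' a.1 * y' a.2) =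
      formOfGram σ₀ S x x' * formOfGram σ₀ T y y' := by
  simp only [formOfGram, Fintype.sum_prod_type, Matrix.kronecker_apply, RingEquiv.refl_apply, Finset.sum_mul_sum]
  exact Finset.sum_congr rfl fun a _ => Finset.sum_congr rfl fun b _ => Finset.sum_congr rfl fun c _ =>
    Finset.sum_congr rfl fun d _ => by ring

theorem polar_pureVec {J : GL ι F} (hG : Geom σ₀ (polar ⇑Q) J 1) (e : ι ≃ κ × μ) (P : GL ι F) {S : GL κ F}
    {T : GL μ F} (hJ : coordJ σ₀ e P J = kronGL S T) (x x' : κ → F) (y y' : μ → F) :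
    polar Q (pureVec e P x y) (pureVec e P x' y') =
      formOfGram σ₀ (S : Matrix κ κ F) x x' * formOfGram σ₀ (T : Matrix μ μ F) y y' := by
  rw [pureVec, pureVec, AschbacherForm.coord_form hG e P, hJ, AschbacherForm.kronGL_val, formOfGram_kron]

theorem pureVec_add_right (e : ι ≃ κ × μ) (P : GL ι F) (x : κ → F) (y y' : μ → F) :
    pureVec e P x (y + y') = pureVec e P x y + pureVec e P x y' := by
  rw [pureVec, pureVec, pureVec, ← Matrix.mulVec_add]
  congr 1
  funext i
  simp [mul_add]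

theorem pureVec_add_left (e : ι ≃ κ × μ) (P : GL ι F) (x x' : κ → F) (y : μ → F) :
    pureVec e P (x + x') y = pureVec e P x y + pureVec e P x' y := by
  rw [pureVec, pureVec, pureVec, ← Matrix.mulVec_add]
  congr 1
  funext i
  simp [add_mul]

theorem pureVec_smul_right (e : ι ≃ κ × μ) (P : GL ι F) (c : F) (x : κ → F) (y : μ → F) :
    pureVec e P x (c • y) = c • pureVec e P x y := by
  rw [pureVec, pureVec, ← Matrix.mulVec_smul]
  congr 1
  funext i
  simp [mul_left_comm]

theorem pureVec_smul_left (e : ι ≃ κ × μ) (P : GL ι F) (c : F) (x : κ → F) (y : μ → F) :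
    pureVec e P (c • x) y = c • pureVec e P x y := by
  rw [pureVec, pureVec, ← Matrix.mulVec_smul]
  congr 1
  funext i
  simp [mul_assoc]

theorem mulVec_pureVec (e : ι ≃ κ × μ) (P g : GL ι F) {A : GL κ F} {B : GL μ F}
    (h : coordR e P (g : Matrix ι ι F) = (kronGL A B : Matrix (κ × μ) (κ × μ) F)) (x : κ → F) (y : μ → F) :
    (g : Matrix ι ι F) *ᵥ pureVec e P x y =
      pureVec e P ((A : Matrix κ κ F) *ᵥ x) ((B : Matrix μ μ F) *ᵥ y) := by
  have h1 : (kronGL A B : Matrix (κ × μ) (κ × μ) F) *ᵥ (fun a : κ × μ => x a.1 * y a.2) =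
      fun a : κ × μ => ((A : Matrix κ κ F) *ᵥ x) a.1 * ((B : Matrix μ μ F) *ᵥ y) a.2 := by
    funext ⟨a₁, a₂⟩
    simp only [AschbacherForm.kronGL_val, Matrix.mulVec, dotProduct, Fintype.sum_prod_type, Matrix.kronecker_apply,
      Finset.sum_mul_sum]
    exact Finset.sum_congr rfl fun b _ => Finset.sum_congr rfl fun c _ => by ring
  rw [pureVec, pureVec, ← h1, ← h, AschbacherForm.coordR_apply, Matrix.submatrix_mulVec_equiv]
  simp [Function.comp_assoc, Matrix.mulVec_mulVec, ← mul_assoc]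

/-- The subspace of the pure tensors with a fixed first factor. -/
theorem plus_of_pure_zero (hk : Fintype.card ι = 2 * Fintype.card μ) [Nonempty κ] (e : ι ≃ κ × μ) (P : GL ι F)
    (h : ∀ (x : κ → F) (y : μ → F), Q (pureVec e P x y) = 0) : IsPlusTypeOn ⇑Q ⊤ := by
  classical
  let x₀ : κ → F := Pi.single (Classical.arbitrary κ) 1
  let L : (μ → F) →ₗ[F] (ι → F) :=
    { toFun := fun y => pureVec e P x₀ y
      map_add' := pureVec_add_right e P x₀
      map_smul' := fun c y => pureVec_smul_right e P c x₀ y }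
  refine ⟨LinearMap.range L, le_top, ?_, ?_⟩
  · rintro _ ⟨y, rfl⟩
    exact h x₀ y
  · have hL : Function.Injective L := (injective_iff_map_eq_zero L).2 fun y hy => funext fun j => by
      have h1 := congrArg ((↑P⁻¹ : Matrix ι ι F) *ᵥ ·) (show pureVec e P x₀ y = 0 from hy)
      simp only [pureVec, Matrix.mulVec_mulVec, Units.inv_mul, Matrix.one_mulVec, Matrix.mulVec_zero] at h1
      simpa [x₀] using congrFun h1 (e.symm (Classical.arbitrary κ, j))
    rw [LinearMap.finrank_range_of_inj hL, finrank_top, Module.finrank_fintype_fun_eq_card,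
      Module.finrank_fintype_fun_eq_card, hk]

/-- In characteristic two the form vanishes on the pure tensors of two alternating factors. -/
theorem pure_zero_two (h2 : (2 : F) = 0) {J : GL ι F} (hG : Geom σ₀ (polar ⇑Q) J 1) {H : Subgroup (GL ι F)}
    (hH : H ≤ isometryGroup F ⇑Q) (hirr : Irred H) [Nonempty κ] (hlt : Fintype.card κ < Fintype.card μ)
    (e : ι ≃ κ × μ) (P : GL ι F) {S : GL κ F} {T : GL μ F} (hJ : coordJ σ₀ e P J = kronGL S T)
    (hS : ∀ x, formOfGram σ₀ (S : Matrix κ κ F) x x = 0) (hT : ∀ y, formOfGram σ₀ (T : Matrix μ μ F) y y = 0)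
    (hdec : ∀ g ∈ H, ∃ (A : GL κ F) (B : GL μ F),
      coordR e P (g : Matrix ι ι F) = (kronGL A B : Matrix (κ × μ) (κ × μ) F)) :
    ∀ (x : κ → F) (y : μ → F), Q (pureVec e P x y) = 0 := by
  classical
  have haddr : ∀ x y y', Q (pureVec e P x (y + y')) = Q (pureVec e P x y) + Q (pureVec e P x y') := fun x y y' => by
    rw [pureVec_add_right, map_add', polar_pureVec hG e P hJ, hS, zero_mul, add_zero]
  have haddl : ∀ x x' y, Q (pureVec e P (x + x') y) = Q (pureVec e P x y) + Q (pureVec e P x' y) := fun x x' y => by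
    rw [pureVec_add_left, map_add', polar_pureVec hG e P hJ, hT, mul_zero, add_zero]
  let Z : Submodule F (μ → F) :=
    { carrier := {y | ∀ x, Q (pureVec e P x y) = 0}
      add_mem' := fun {a b} ha hb x => by rw [haddr, ha x, hb x, add_zero]
      zero_mem' := fun x => by
        have h := pureVec_smul_right e P 0 x (0 : μ → F)
        rw [zero_smul, zero_smul] at h
        rw [h, QuadraticMap.map_zero]
      smul_mem' := fun c a ha x => by rw [pureVec_smul_right, map_smul', ha x, mul_zero] }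
  have hZ : Z ≠ ⊥ := by
    intro hbot
    let ψ : (μ → F) →+ (κ → F) :=
      { toFun := fun y i => Q (pureVec e P (Pi.single i 1) y)
        map_zero' := funext fun i => by
          have h := pureVec_smul_right e P 0 (Pi.single i 1) (0 : μ → F)
          rw [zero_smul, zero_smul] at h
          rw [h, QuadraticMap.map_zero]; rfl
        map_add' := fun y y' => funext fun i => haddr _ y y' }
    have hinj : Function.Injective ψ := (injective_iff_map_eq_zero ψ).2 fun y hy => by
      have hy' : y ∈ Z := fun x => by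
        let χ : (κ → F) →+ F :=
          { toFun := fun x => Q (pureVec e P x y)
            map_zero' := by
              have h := pureVec_smul_left e P 0 (0 : κ → F) y
              rw [zero_smul, zero_smul] at h
              rw [h, QuadraticMap.map_zero]
            map_add' := fun a b => haddl a b y }
        show χ x = 0
        rw [← Finset.univ_sum_single x, map_sum]
        refine Finset.sum_eq_zero fun i _ => ?_
        show Q (pureVec e P (Pi.single i (x i)) y) = 0
        rw [show (Pi.single i (x i) : κ → F) = x i • Pi.single i 1 by rw [← Pi.single_smul', smul_eq_mul, mul_one],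
          pureVec_smul_left, map_smul', show Q (pureVec e P (Pi.single i 1) y) = 0 from congrFun hy i, mul_zero]
      rwa [hbot, Submodule.mem_bot] at hy'
    have := Fintype.card_le_of_injective ψ hinj
    rw [Fintype.card_fun, Fintype.card_fun] at this
    exact absurd this (not_le.2 (Nat.pow_lt_pow_right Fintype.one_lt_card hlt))
  have hall : ∀ g ∈ H, ¬ ∀ (A : GL κ F) (B : GL μ F),
      coordR e P (g : Matrix ι ι F) ≠ (kronGL A B : Matrix (κ × μ) (κ × μ) F) := fun g hg hne => by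
    obtain ⟨A, B, h⟩ := hdec g hg
    exact hne A B h
  have hirrB := (AschbacherForm.factor_irred e P hirr).resolve_right fun ⟨g, hg, hne⟩ => hall g hg hne
  rcases irred_out hirrB Z (fun s hs y hy x => by
    obtain ⟨g, hg, A, B, rfl, hAB⟩ := hs
    have h1 : (A : Matrix κ κ F) *ᵥ ((↑A⁻¹ : Matrix κ κ F) *ᵥ x) = x := by
      rw [Matrix.mulVec_mulVec, Units.mul_inv, Matrix.one_mulVec]
    rw [← h1, ← mulVec_pureVec e P g hAB, isom_apply (hH hg)]
    exact hy _) with h | h
  · exact absurd h hZ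
  · exact fun x y => (show y ∈ Z from h ▸ Submodule.mem_top) x

end pureVec

/-- Two alternating factors. -/
def AltTensor (Q : QuadraticForm F (ι → F)) (H : Subgroup (GL ι F)) : Prop :=
  ∃ (d k : ℕ) (e : ι ≃ Fin d × Fin k) (P : GL ι F) (S : GL (Fin d) F) (T : GL (Fin k) F),
    2 ≤ d ∧ d < k ∧ Even d ∧ Even k ∧
    IsSymplecticForm (formOfGram σ₀ (S : Matrix (Fin d) (Fin d) F)) ∧
    IsSymplecticForm (formOfGram σ₀ (T : Matrix (Fin k) (Fin k) F)) ∧
    IsTensorFormStructure id (polar ⇑Q) (formOfGram σ₀ (S : Matrix (Fin d) (Fin d) F))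
      (formOfGram σ₀ (T : Matrix (Fin k) (Fin k) F)) e P ∧
    (∀ x y, Q (pureVec e P x y) = 0) ∧
    ∀ g ∈ H, ∃ (A : GL (Fin d) F) (B : GL (Fin k) F),
      coordR e P (g : Matrix ι ι F) = (kronGL A B : Matrix (Fin d × Fin k) (Fin d × Fin k) F)

/-- Two symmetric factors. -/
def SymTensor (Q : QuadraticForm F (ι → F)) (H : Subgroup (GL ι F)) : Prop :=
  ∃ (d k : ℕ) (e : ι ≃ Fin d × Fin k) (P : GL ι F) (S : GL (Fin d) F) (T : GL (Fin k) F),
    (2 : F) ≠ 0 ∧ 3 ≤ d ∧ d < k ∧
    (S : Matrix (Fin d) (Fin d) F)ᵀ = (S : Matrix (Fin d) (Fin d) F) ∧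
    (T : Matrix (Fin k) (Fin k) F)ᵀ = (T : Matrix (Fin k) (Fin k) F) ∧
    (∀ x y, polar Q ((P : Matrix ι ι F) *ᵥ (x ∘ e)) ((P : Matrix ι ι F) *ᵥ (y ∘ e)) =
      formOfGram σ₀ ((S : Matrix (Fin d) (Fin d) F) ⊗ₖ (T : Matrix (Fin k) (Fin k) F)) x y) ∧
    ∀ g ∈ H, ∃ (A : GL (Fin d) F) (B : GL (Fin k) F) (a b : F),
      coordR e P (g : Matrix ι ι F) = (kronGL A B : Matrix (Fin d × Fin k) (Fin d × Fin k) F) ∧
      IsSim σ₀ (S : Matrix (Fin d) (Fin d) F) (A : Matrix (Fin d) (Fin d) F) a ∧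
      IsSim σ₀ (T : Matrix (Fin k) (Fin k) F) (B : Matrix (Fin k) (Fin k) F) b ∧ a * b = 1

/-- A normalised two-dimensional commutative subalgebra of a factor of dimension two. -/
theorem two_factor_stable (hQ : (polarBilin Q).Nondegenerate) {J : GL ι F} (hG : Geom σ₀ (polar ⇑Q) J 1)
    {H : Subgroup (GL ι F)} (hH : H ≤ isometryGroup F ⇑Q) (hirr : Irred H) {μ : Type} [Fintype μ] [DecidableEq μ]
    [Nonempty μ] (e : ι ≃ Fin 2 × μ) (P : GL ι F) {S : GL (Fin 2) F} {T : GL μ F}
    (hJ : coordJ σ₀ e P J = kronGL S T) (hT : (T : Matrix μ μ F)ᵀ = (T : Matrix μ μ F))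
    (w : Matrix (Fin 2) (Fin 2) F) (hw : ∀ c : F, w ≠ c • (1 : Matrix (Fin 2) (Fin 2) F))
    (hadjw : ∃ a b : F, wᵀ * (S : Matrix (Fin 2) (Fin 2) F) =
      (S : Matrix (Fin 2) (Fin 2) F) * (a • (1 : Matrix (Fin 2) (Fin 2) F) + b • w))
    (hdec : ∀ g ∈ H, ∃ (A : GL (Fin 2) F) (B : GL μ F),
      coordR e P (g : Matrix ι ι F) = (kronGL A B : Matrix (Fin 2 × μ) (Fin 2 × μ) F) ∧
      ∃ a b : F, cj A w = a • (1 : Matrix (Fin 2) (Fin 2) F) + b • w) :
    AschbacherForm.Imprimitive (polar ⇑Q) H ∨ AschbacherForm.FieldExt (polar ⇑Q) H := by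
  classical
  have hRU : ∀ a b : F, coordR e P (a • 1 + b • (coordR e P).symm (w ⊗ₖ (1 : Matrix μ μ F))) =
      (a • (1 : Matrix (Fin 2) (Fin 2) F) + b • w) ⊗ₖ (1 : Matrix μ μ F) := fun a b => by
    rw [map_add, map_smul, map_smul, map_one, AlgEquiv.apply_symm_apply, Matrix.add_kronecker,
      Matrix.smul_kronecker, Matrix.smul_kronecker, Matrix.one_kronecker_one]
  set W₀ := (coordR e P).symm (w ⊗ₖ (1 : Matrix μ μ F)) with hW₀
  set B₀ := Algebra.adjoin F {W₀}
  have hcomm : ∀ x ∈ B₀, ∀ y ∈ B₀, x * y = y * x := fun x hx y hy => by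
    have h1 : B₀ ≤ cent {W₀} := Algebra.adjoin_le (by rintro _ rfl; exact mem_cent.2 (by rintro _ rfl; rfl))
    have h2' : B₀ ≤ cent {x} := Algebra.adjoin_le (by
      rintro _ rfl
      exact mem_cent.2 (by rintro _ rfl; exact ((mem_cent.1 (h1 hx)) W₀ rfl).symm))
    exact (mem_cent.1 (h2' hy)) x rfl
  have hW₀B : W₀ ∈ B₀ := Algebra.subset_adjoin rfl
  have hlin : ∀ a b : F, a • (1 : Matrix ι ι F) + b • W₀ ∈ B₀ := fun a b =>
    B₀.add_mem (B₀.smul_mem B₀.one_mem _) (B₀.smul_mem hW₀B _)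
  have hiso := fun g (hg : g ∈ H) => isom_polar (Q := Q) (hH hg)
  have hstab : AschbacherForm.ConjStable H B₀ := fun g hg x hx => by
    have hle : B₀ ≤ B₀.comap (cj g).toAlgHom := Algebra.adjoin_le (by
      rintro _ rfl
      rw [SetLike.mem_coe, Subalgebra.mem_comap]
      show cj g W₀ ∈ B₀
      obtain ⟨A, B, hAB, a, b, hA⟩ := hdec g hg
      have hgl : glReindex e (P⁻¹ * g * P) = kronGL A B := Units.ext ((AschbacherForm.coordR_gl e P g).symm.trans hAB)
      have h1 : cj g W₀ = a • 1 + b • W₀ := by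
        refine (coordR e P).injective ?_
        rw [hRU, AschbacherForm.coordR_cj, hgl, hW₀, AlgEquiv.apply_symm_apply, ← hA, cj_apply, cj_apply,
          show ((kronGL A B)⁻¹ : GL (Fin 2 × μ) F) = kronGL A⁻¹ B⁻¹ from rfl, AschbacherForm.kronGL_val,
          AschbacherForm.kronGL_val, ← Matrix.mul_kronecker_mul, ← Matrix.mul_kronecker_mul, mul_one, Units.mul_inv]
      rw [h1]
      exact hlin a b)
    exact hle hx
  have hadjW : ∃ a b : F, AschbacherForm.adj σ₀ J W₀ = a • 1 + b • W₀ := by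
    obtain ⟨a, b, hab⟩ := hadjw
    refine ⟨a, b, (coordR e P).injective ?_⟩
    rw [← AschbacherForm.coord_adj, hRU, hW₀, AlgEquiv.apply_symm_apply]
    refine AschbacherForm.adj_eq ?_
    rw [hJ, AschbacherForm.kronGL_val, ← Matrix.kroneckerMap_transpose, ← Matrix.mul_kronecker_mul,
      show ((a • (1 : Matrix (Fin 2) (Fin 2) F) + b • w) ⊗ₖ (1 : Matrix μ μ F)).map σ₀ =
        (a • (1 : Matrix (Fin 2) (Fin 2) F) + b • w) ⊗ₖ (1 : Matrix μ μ F) from Matrix.map_id _,
      ← Matrix.mul_kronecker_mul, hab, Matrix.transpose_one, one_mul, mul_one]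
  have hadj : IsAdjointClosedFor (polar ⇑Q) B₀ := (hG.adjClosed_iff _).2 fun x hx => by
    induction hx using Algebra.adjoin_induction with
    | mem x hx =>
      obtain ⟨a, b, hab⟩ := hadjW
      rw [Set.mem_singleton_iff.1 hx, hab]
      exact hlin a b
    | algebraMap c => rw [AschbacherForm.adj_algebraMap]; exact B₀.algebraMap_mem _
    | add x y _ _ hx hy => rw [AschbacherForm.adj_add]; exact B₀.add_mem hx hy
    | mul x y _ _ hx hy => rw [AschbacherForm.adj_mul]; exact B₀.mul_mem hy hx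
  have hne : B₀ ≠ ⊥ := fun h0 => by
    rw [h0, Algebra.mem_bot] at hW₀B
    obtain ⟨c, hc⟩ := hW₀B
    have h1 := congrArg (coordR e P) hc
    rw [hW₀, AlgEquiv.apply_symm_apply, AlgEquiv.commutes, Algebra.algebraMap_eq_smul_one] at h1
    refine hw c (Matrix.ext fun i j => ?_)
    have := congrFun (congrFun h1 (i, Classical.arbitrary μ)) (j, Classical.arbitrary μ)
    simp [Matrix.kronecker_apply, Matrix.one_apply, Prod.ext_iff] at this
    simpa [Matrix.one_apply] using this.symm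
  rcases hG.rform.commutative_stable hiso hirr B₀ hcomm hstab hadj hne with h | ⟨r, K, hr, hK, -, hKadj, hle⟩
  · exact Or.inl h
  · exact Or.inr ⟨r, K, hr, hK, hKadj, hle⟩

/-- A tensor factor in even dimension, the dimension not being a square. -/
theorem even_tensor (hQ : (polarBilin Q).Nondegenerate) (hn : 2 ≤ Fintype.card ι)
    (hsq : ∀ d : ℕ, d * d ≠ Fintype.card ι) {H : Subgroup (GL ι F)} (hH : H ≤ isometryGroup F ⇑Q) (hirr : Irred H)
    (h : AschbacherForm.TensorExt (polar ⇑Q) H) :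
    AschbacherForm.Imprimitive (polar ⇑Q) H ∨ AschbacherForm.FieldExt (polar ⇑Q) H ∨ AltTensor Q H ∨ SymTensor Q H := by
  classical
  obtain ⟨J, hG⟩ := exists_geom hQ
  obtain ⟨d, k, e, P, S, T, l, μ, hd, hk, hJ, hS, hT, hlm, hdec⟩ :=
    AschbacherForm.tensor_data hG hn (fun g hg => isom_polar (hH hg)) h
  replace hS : (S : Matrix (Fin d) (Fin d) F)ᵀ = l • (S : Matrix (Fin d) (Fin d) F) := hS
  replace hT : (T : Matrix (Fin k) (Fin k) F)ᵀ = μ • (T : Matrix (Fin k) (Fin k) F) := hT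
  have hne : d ≠ k := fun e' => by
    subst e'
    exact hsq d (by simpa using (Fintype.card_congr e).symm)
  -- order the factors
  clear h
  obtain ⟨d, k, hd, hlt, e, S, T, l, μ, hJ, hS, hT, hlm, hdec⟩ : ∃ (d k : ℕ) (_ : 2 ≤ d) (_ : d < k)
      (e : ι ≃ Fin d × Fin k) (S : GL (Fin d) F) (T : GL (Fin k) F) (l μ : F),
      coordJ σ₀ e P J = kronGL S T ∧
      (S : Matrix (Fin d) (Fin d) F)ᵀ = l • (S : Matrix (Fin d) (Fin d) F) ∧
      (T : Matrix (Fin k) (Fin k) F)ᵀ = μ • (T : Matrix (Fin k) (Fin k) F) ∧ l * μ = 1 ∧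
      ∀ g ∈ H, ∃ (A : GL (Fin d) F) (B : GL (Fin k) F) (a b : F),
        coordR e P (g : Matrix ι ι F) = (kronGL A B : Matrix (Fin d × Fin k) (Fin d × Fin k) F) ∧
        IsSim σ₀ (S : Matrix (Fin d) (Fin d) F) (A : Matrix (Fin d) (Fin d) F) a ∧
        IsSim σ₀ (T : Matrix (Fin k) (Fin k) F) (B : Matrix (Fin k) (Fin k) F) b ∧ a * b = 1 := by
    rcases Nat.lt_or_gt_of_ne hne with hlt | hlt
    · exact ⟨d, k, hd, hlt, e, S, T, l, μ, hJ, hS, hT, hlm, hdec⟩
    · refine ⟨k, d, hk, hlt, e.trans (Equiv.prodComm _ _), T, S, μ, l, AschbacherForm.coordJ_swap σ₀ e P J S T hJ,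
        hT, hS, by rw [mul_comm]; exact hlm, fun g hg => ?_⟩
      obtain ⟨A, B, a, b, h1, h2, h3, h4⟩ := hdec g hg
      exact ⟨B, A, b, a, AschbacherForm.coordR_swap e P _ A B h1, h3, h2, by rw [mul_comm]; exact h4⟩
  haveI : Nonempty (Fin d) := ⟨⟨0, by omega⟩⟩
  haveI : Nonempty (Fin k) := ⟨⟨0, by omega⟩⟩
  have hl2 := sq_eq_one_of_transpose hS
  have hμ : μ = l := mul_left_cancel₀ (fun e' => one_ne_zero (α := F) (by rw [← hl2, e', zero_mul]))
    (hlm.trans hl2.symm)
  rw [hμ] at hT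
  have hform : ∀ x y : Fin d × Fin k → F, polar Q ((P : Matrix ι ι F) *ᵥ (x ∘ e)) ((P : Matrix ι ι F) *ᵥ (y ∘ e)) =
      formOfGram σ₀ ((S : Matrix (Fin d) (Fin d) F) ⊗ₖ (T : Matrix (Fin k) (Fin k) F)) x y := fun x y => by
    rw [AschbacherForm.coord_form hG e P, hJ]
    rfl
  have hdiag : ∀ i j, (S : Matrix (Fin d) (Fin d) F) i i * (T : Matrix (Fin k) (Fin k) F) j j =
      2 * Q ((P : Matrix ι ι F) *ᵥ (Pi.single (i, j) (1 : F) ∘ e)) := fun i j => by
    rw [← polar_self' Q, hform, formOfGram_single, Matrix.kronecker_apply]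
  -- two alternating factors
  have alt : (∀ i, (S : Matrix (Fin d) (Fin d) F) i i = 0) → (∀ j, (T : Matrix (Fin k) (Fin k) F) j j = 0) →
      l = -1 → AltTensor Q H := by
    intro hdS hdT hl
    rw [hl, neg_one_smul] at hS hT
    have hSs := symplectic_of_gram S.isUnit hS hdS
    have hTs := symplectic_of_gram T.isUnit hT hdT
    have heven : ∀ {p : ℕ} {R : GL (Fin p) F}, IsSymplecticForm (formOfGram σ₀ (R : Matrix (Fin p) (Fin p) F)) → Even p :=
      fun {p R} hR => by
        have := even_of_symplectic hR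
        rwa [Fintype.card_fin] at this
    have hzero : ∀ x y, Q (pureVec e P x y) = 0 := by
      intro x y
      by_cases h2 : (2 : F) = 0
      · exact pure_zero_two h2 hG hH hirr (by simpa using hlt) e P hJ hSs.alternating hTs.alternating
          (fun g hg => by obtain ⟨A, B, a, b, h1, -⟩ := hdec g hg; exact ⟨A, B, h1⟩) x y
      · have h1 := polar_pureVec hG e P hJ x x y y
        rw [hSs.alternating, zero_mul, polar_self'] at h1
        exact (mul_eq_zero.1 h1).resolve_left h2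
    refine ⟨d, k, e, P, S, T, hd, hlt, heven hSs, heven hTs, hSs, hTs,
      ⟨1, one_ne_zero, fun x y => ?_⟩, hzero, fun g hg => ?_⟩
    · rw [one_mul, AschbacherForm.gramMatrix_formOfGram, AschbacherForm.gramMatrix_formOfGram, hform]
      rfl
    · obtain ⟨A, B, a, b, h1, -⟩ := hdec g hg
      exact ⟨A, B, h1⟩
  by_cases h2 : (2 : F) = 0
  · have hneg : ∀ c : F, -c = c := fun c => by rw [neg_eq_iff_add_eq_zero, ← two_mul, h2, zero_mul]
    have hl : l = 1 := by
      rcases mul_self_eq_one_iff.1 hl2 with h | h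
      · exact h
      · rw [h, hneg]
    have hS1 : (S : Matrix (Fin d) (Fin d) F)ᵀ = (S : Matrix (Fin d) (Fin d) F) := by rw [hS, hl, one_smul]
    have hT1 : (T : Matrix (Fin k) (Fin k) F)ᵀ = (T : Matrix (Fin k) (Fin k) F) := by rw [hT, hl, one_smul]
    have vanish : ∀ {p p' : ℕ} [Nonempty (Fin p')] (e : ι ≃ Fin p' × Fin p) (R : GL (Fin p) F), 2 ≤ p →
        (R : Matrix (Fin p) (Fin p) F)ᵀ = (R : Matrix (Fin p) (Fin p) F) →
        (∀ g ∈ H, ∃ (A : GL (Fin p') F) (B : GL (Fin p) F) (b : F),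
          coordR e P (g : Matrix ι ι F) = (kronGL A B : Matrix (Fin p' × Fin p) (Fin p' × Fin p) F) ∧
          IsSim σ₀ (R : Matrix (Fin p) (Fin p) F) (B : Matrix (Fin p) (Fin p) F) b) →
        ∀ j, (R : Matrix (Fin p) (Fin p) F) j j = 0 := by
      intro p p' _ e R hp hR hdec j
      haveI : Nonempty (Fin p) := ⟨⟨0, by omega⟩⟩
      have hb := formOfGram_bilinear (R : Matrix (Fin p) (Fin p) F)
      have hsym := (symmetric_of_gram R hR).symm
      have hirrB := (AschbacherForm.factor_irred e P hirr (κ := Fin p') (μ := Fin p)).resolve_right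
        fun ⟨g, hg, hne⟩ => by
          obtain ⟨A, B, b, hAB, -⟩ := hdec g hg
          exact hne A B hAB
      rw [← formOfGram_single σ₀ (R : Matrix (Fin p) (Fin p) F) j j]
      refine AschbacherForm.semilinear_vanishes h2 (by simpa using hp) hirrB
        (fun v => formOfGram σ₀ (R : Matrix (Fin p) (Fin p) F) v v)
        (fun u w => ?_) (fun c w => ?_) ?_ _
      · simp only [hb.add_left, hb.add_right]
        rw [hsym w u]
        linear_combination (formOfGram σ₀ (R : Matrix (Fin p) (Fin p) F) u w) * h2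
      · simp only [hb.smul_left, hb.smul_right]; ring
      · rintro _ ⟨g, hg, A, B', rfl, hAB⟩ w hw
        obtain ⟨A₂, B₂, b, hAB₂, hB₂⟩ := hdec g hg
        obtain ⟨c, hc, -, hcB⟩ := AschbacherForm.kron_proportional A.isUnit.ne_zero B'.isUnit.ne_zero (hAB.symm.trans hAB₂)
        rw [hcB, Matrix.smul_mulVec, hb.smul_left, hb.smul_right, formOfGram_mulVec, hB₂, formOfGram_smul, hw]
        ring
    refine Or.inr (Or.inr (Or.inl (alt ?_ ?_ (by rw [hl, hneg]))))
    · exact vanish (e.trans (Equiv.prodComm _ _)) S hd hS1 fun g hg => by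
        obtain ⟨A, B, a, b, h1, h3, -⟩ := hdec g hg
        exact ⟨B, A, a, AschbacherForm.coordR_swap e P _ A B h1, h3⟩
    · exact vanish e T (by omega) hT1 fun g hg => by
        obtain ⟨A, B, a, b, h1, -, h3, -⟩ := hdec g hg
        exact ⟨A, B, b, h1, h3⟩
  rcases mul_self_eq_one_iff.1 hl2 with hl | hl
  swap
  · refine Or.inr (Or.inr (Or.inl (alt (fun i => ?_) (fun j => ?_) hl)))
    · have := congrFun (congrFun hS i) i
      rw [hl, Matrix.transpose_apply, Matrix.smul_apply, smul_eq_mul] at this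
      exact (mul_eq_zero.1 (show (2 : F) * (S : Matrix (Fin d) (Fin d) F) i i = 0 by
        linear_combination this)).resolve_left h2
    · have := congrFun (congrFun hT j) j
      rw [hl, Matrix.transpose_apply, Matrix.smul_apply, smul_eq_mul] at this
      exact (mul_eq_zero.1 (show (2 : F) * (T : Matrix (Fin k) (Fin k) F) j j = 0 by
        linear_combination this)).resolve_left h2
  rw [hl, one_smul] at hS hT
  rcases Nat.lt_or_ge d 3 with hd3 | hd3
  swap
  · exact Or.inr (Or.inr (Or.inr ⟨d, k, e, P, S, T, h2, hd3, hlt, hS, hT, hform, hdec⟩))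
  obtain rfl : d = 2 := by omega
  set w := (↑S⁻¹ : Matrix (Fin 2) (Fin 2) F) * omega2 F with hw
  have hSw : (S : Matrix (Fin 2) (Fin 2) F) * w = omega2 F := by rw [hw, ← mul_assoc, Units.mul_inv, one_mul]
  have hwS : wᵀ * (S : Matrix (Fin 2) (Fin 2) F) = -(omega2 F) := by
    have h1 := congrArg Matrix.transpose hSw
    rw [Matrix.transpose_mul, hS] at h1
    rw [h1]
    ext i j
    fin_cases i <;> fin_cases j <;> simp [omega2]
  refine (two_factor_stable hQ hG hH hirr e P hJ hT w (fun c hc => ?_) ⟨0, -1, ?_⟩ (fun g hg => ?_)).imp_right Or.inl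
  · rw [hc, Matrix.mul_smul, mul_one] at hSw
    have h5 : (omega2 F)ᵀ = omega2 F := by rw [← hSw, Matrix.transpose_smul, hS]
    have := congrFun (congrFun h5 0) 1
    simp [omega2] at this
    exact h2 (by linear_combination -this)
  · rw [hwS, zero_smul, zero_add, neg_one_smul, mul_neg, hSw]
  · obtain ⟨A, B, a, b, hAB, hA, -⟩ := hdec g hg
    refine ⟨A, B, hAB, 0, a / (A : Matrix (Fin 2) (Fin 2) F).det, ?_⟩
    have hdet : (A : Matrix (Fin 2) (Fin 2) F).det ≠ 0 := ((Matrix.isUnit_iff_isUnit_det _).1 A.isUnit).ne_zero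
    have e1 : (A : Matrix (Fin 2) (Fin 2) F) * (↑S⁻¹ : Matrix (Fin 2) (Fin 2) F) * (A : Matrix (Fin 2) (Fin 2) F)ᵀ =
        a • (↑S⁻¹ : Matrix (Fin 2) (Fin 2) F) := by
      have h0 : (A : Matrix (Fin 2) (Fin 2) F)ᵀ * (S : Matrix (Fin 2) (Fin 2) F) * (A : Matrix (Fin 2) (Fin 2) F) =
        a • (S : Matrix (Fin 2) (Fin 2) F) := hA
      have h1 := congrArg (fun M => (A : Matrix (Fin 2) (Fin 2) F) * (↑S⁻¹ : Matrix (Fin 2) (Fin 2) F) * M *
        (↑A⁻¹ : Matrix (Fin 2) (Fin 2) F) * (↑S⁻¹ : Matrix (Fin 2) (Fin 2) F)) h0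
      simp only [mul_assoc, Units.mul_inv, Units.mul_inv_cancel_left, mul_one, Matrix.mul_smul, Matrix.smul_mul,
        Units.inv_mul_cancel_left] at h1
      simpa only [mul_assoc, one_mul] using h1
    have e2 : (A : Matrix (Fin 2) (Fin 2) F)ᵀ * omega2 F * (A : Matrix (Fin 2) (Fin 2) F) =
        (A : Matrix (Fin 2) (Fin 2) F).det • omega2 F := omega2_congr _
    rw [zero_smul, zero_add, cj_apply, hw]
    have h3 := congrArg (fun M => (A : Matrix (Fin 2) (Fin 2) F) * (↑S⁻¹ : Matrix (Fin 2) (Fin 2) F) * M *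
        (↑A⁻¹ : Matrix (Fin 2) (Fin 2) F)) e2
    simp only [← mul_assoc, e1, Matrix.mul_smul, Matrix.smul_mul] at h3
    rw [mul_assoc _ (A : Matrix (Fin 2) (Fin 2) F) (↑A⁻¹ : Matrix (Fin 2) (Fin 2) F), Units.mul_inv, mul_one] at h3
    rw [div_eq_inv_mul, mul_smul, h3, smul_smul, inv_mul_cancel₀ hdet, one_smul]
    simp only [mul_assoc]

end CfsgLib.AschbacherOrth
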