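import Cfsg.Agent.Lib.AschbacherOrth.SmallFields

/-!
# Groups normalising an extension field
-/

set_option autoImplicit false
set_option linter.unusedSectionVars false
set_option linter.style.haveILetI false
set_option linter.unusedSimpArgs false
set_option linter.style.show false

namespace CfsgLib.AschbacherOrth

open QuadraticMap Cfsg Cfsg.Geo CfsgLib.Geometry CfsgLib.Aschbacher
open scoped Matrix MatrixGroups commutatorElement

universe u
variable {F : Type u} [Field F] [Fintype F] {ι : Type} [Fintype ι] [DecidableEq ι]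
variable {Q : QuadraticForm F (ι → F)} {r : ℕ} {K : Subalgebra F (Matrix ι ι F)}

/-- The action of the field on column vectors through a vector. -/
def orbitMap (K : Subalgebra F (Matrix ι ι F)) (v : ι → F) : K →ₗ[F] (ι → F) where
  toFun k := (k : Matrix ι ι F) *ᵥ v
  map_add' a b := by simp [Matrix.add_mulVec]
  map_smul' c a := by simp [Matrix.smul_mulVec]

theorem orbitMap_apply (k : K) (v : ι → F) : orbitMap K v k = (k : Matrix ι ι F) *ᵥ v := rfl

theorem field_mulVec_eq_zero (hK : IsFieldSubalgebra r K) {k : Matrix ι ι F} (hk : k ∈ K) {v : ι → F}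
    (hv : v ≠ 0) (h : k *ᵥ v = 0) : k = 0 := by
  by_contra hne
  obtain ⟨y, hy, hky⟩ := hK.inv k hk hne
  rw [hK.comm k hk y hy] at hky
  refine hv ?_
  rw [← Matrix.one_mulVec v, ← hky, ← Matrix.mulVec_mulVec, h, Matrix.mulVec_zero]

theorem orbitMap_injective (hK : IsFieldSubalgebra r K) {v : ι → F} (hv : v ≠ 0) :
    Function.Injective (orbitMap K v) :=
  (injective_iff_map_eq_zero _).2 fun k hk => Subtype.ext (field_mulVec_eq_zero hK k.2 hv hk)

theorem finrank_orbit (hK : IsFieldSubalgebra r K) {v : ι → F} (hv : v ≠ 0) :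
    Module.finrank F (LinearMap.range (orbitMap K v)) = r := by
  rw [LinearMap.finrank_range_of_inj (orbitMap_injective hK hv)]
  exact hK.finrank_eq

theorem dvd_card_of_field [Nonempty ι] (hK : IsFieldSubalgebra r K) : r ∣ Fintype.card ι := by
  have hF : IsField K :=
    { exists_pair_ne := ⟨1, 0, fun h => one_ne_zero (congrArg Subtype.val h : (1 : Matrix ι ι F) = 0)⟩
      mul_comm := fun x y => Subtype.ext (hK.comm x x.2 y y.2)
      mul_inv_cancel := fun {a} ha => by
        obtain ⟨y, hy, e⟩ := hK.inv a a.2 (fun e => ha (Subtype.ext e))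
        exact ⟨⟨y, hy⟩, Subtype.ext e⟩ }
  letI : Field K := hF.toField
  letI : Module K (ι → F) :=
    { smul := fun k v => (k : Matrix ι ι F) *ᵥ v
      one_smul := fun v => Matrix.one_mulVec v
      mul_smul := fun a b v => (Matrix.mulVec_mulVec v _ _).symm
      smul_zero := fun a => Matrix.mulVec_zero _
      smul_add := fun a v w => Matrix.mulVec_add _ v w
      add_smul := fun a b v => Matrix.add_mulVec _ _ v
      zero_smul := fun v => Matrix.zero_mulVec v }
  haveI : IsScalarTower F K (ι → F) := ⟨fun c k v => Matrix.smul_mulVec c _ v⟩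
  have h := Module.finrank_mul_finrank F K (ι → F)
  rw [hK.finrank_eq, Module.finrank_fintype_fun_eq_card] at h
  exact Dvd.intro _ h

/-- The unit group of the field is cyclic. -/
theorem exists_field_generator [Nonempty ι] (hK : IsFieldSubalgebra r K) :
    ∃ K₀ ∈ K, K₀ ≠ 0 ∧ ∀ k ∈ K, k ≠ 0 → ∃ i : ℕ, K₀ ^ i = k := by
  classical
  haveI : Finite (Matrix ι ι F) := inferInstanceAs (Finite (ι → ι → F))
  letI : CommRing K := { (inferInstance : Ring K) with mul_comm := fun a b => Subtype.ext (hK.comm _ a.2 _ b.2) }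
  haveI : Nontrivial K := ⟨1, 0, fun e => one_ne_zero (congrArg Subtype.val e : (1 : Matrix ι ι F) = 0)⟩
  haveI : NoZeroDivisors K := ⟨fun {a b} hab => by
    by_contra hc
    rw [not_or] at hc
    obtain ⟨y, -, hy⟩ := hK.inv a a.2 fun e => hc.1 (Subtype.ext e)
    refine hc.2 (Subtype.ext ?_)
    have hab' : (a : Matrix ι ι F) * (b : Matrix ι ι F) = 0 := congrArg Subtype.val hab
    rw [hK.comm _ a.2 _ b.2] at hab'
    show (b : Matrix ι ι F) = 0
    rw [← mul_one (b : Matrix ι ι F), ← hy, ← mul_assoc, hab', zero_mul]⟩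
  haveI : IsDomain K := NoZeroDivisors.to_isDomain _
  haveI : IsCyclic Kˣ := isCyclic_of_injective_ringHom (Units.coeHom K) Units.val_injective
  obtain ⟨k₀, hk₀⟩ := IsCyclic.exists_generator (α := Kˣ)
  refine ⟨((k₀ : K) : Matrix ι ι F), (k₀ : K).2, fun e => k₀.ne_zero (Subtype.ext e), fun k hk hne => ?_⟩
  obtain ⟨y, hyK, hy⟩ := hK.inv k hk hne
  let ku : Kˣ := ⟨⟨k, hk⟩, ⟨y, hyK⟩, Subtype.ext hy, Subtype.ext (by
    show y * k = 1; rw [hK.comm _ hyK _ hk, hy])⟩
  obtain ⟨i, hi⟩ := (mem_powers_iff_mem_zpowers (x := k₀) (y := ku)).2 (hk₀ ku)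
  refine ⟨i, ?_⟩
  have := congrArg (fun z : Kˣ => ((z : K) : Matrix ι ι F)) hi
  simpa [ku] using this

theorem cj_mem_of_le {H : Subgroup (GL ι F)} (hle : H ≤ subalgebraNormalizer K) {g : GL ι F} (hg : g ∈ H)
    {k : Matrix ι ι F} (hk : k ∈ K) : cj g k ∈ K := by
  rw [cj_apply]; exact (hle hg k).1 hk

theorem cj_isom {g : GL ι F} (hg : g ∈ isometryGroup F ⇑Q) (M : Matrix ι ι F) (u v : ι → F) :
    polar Q (cj g M *ᵥ (g : Matrix ι ι F) *ᵥ u) ((g : Matrix ι ι F) *ᵥ v) = polar Q (M *ᵥ u) v := by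
  rw [cj_mulVec, isom_polar hg]

/-- An irreducible group of isometries in odd prime dimension normalises no self-adjoint field of that degree. -/
theorem prime_field_false (hQ : (polarBilin Q).Nondegenerate) {H : Subgroup (GL ι F)}
    (hH : H ≤ isometryGroup F ⇑Q) (hirr : Irred H) (hodd : Odd (Fintype.card ι)) (hn : 2 ≤ Fintype.card ι)
    (hK : IsFieldSubalgebra (Fintype.card ι) K) (hsa : IsSelfAdjointFor (polar ⇑Q) K)
    (hle : H ≤ subalgebraNormalizer K) : False := by
  classical
  haveI : Nonempty ι := Fintype.card_pos_iff.1 (by omega)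
  obtain ⟨J, hG⟩ := exists_geom hQ
  obtain ⟨K₀, hK₀, hK₀0, hgen⟩ := exists_field_generator hK
  obtain ⟨v₀, hv₀⟩ := exists_ne (0 : ι → F)
  have hcent : ∀ M : Matrix ι ι F, (∀ k ∈ K, M * k = k * M) → M ∈ K := by
    intro M hM
    have hsurj : Function.Surjective (orbitMap K v₀) :=
      (LinearMap.injective_iff_surjective_of_finrank_eq_finrank (by
        rw [Module.finrank_fintype_fun_eq_card]; exact hK.finrank_eq)).1 (orbitMap_injective hK hv₀)
    obtain ⟨k, hk⟩ := hsurj (M *ᵥ v₀)
    have : M = k := Matrix.ext_of_mulVec_single fun i => by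
      obtain ⟨k', hk'⟩ := hsurj (Pi.single i 1)
      rw [← hk', orbitMap_apply, Matrix.mulVec_mulVec, Matrix.mulVec_mulVec, hM _ k'.2, hK.comm _ k.2 _ k'.2,
        ← Matrix.mulVec_mulVec, ← Matrix.mulVec_mulVec, ← orbitMap_apply k, hk]
    rw [this]; exact k.2
  -- commutators act trivially on the field and hence are trivial
  have hfix : ∀ g ∈ H, cj g K₀ = K₀ → (g : Matrix ι ι F) = 1 ∨ (g : Matrix ι ι F) = -1 := by
    intro g hg hgK
    have hcomm : ∀ k ∈ K, (g : Matrix ι ι F) * k = k * (g : Matrix ι ι F) := fun k hk => by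
      by_cases hk0 : k = 0
      · rw [hk0, mul_zero, zero_mul]
      · obtain ⟨i, rfl⟩ := hgen k hk hk0
        exact (cj_eq_self_iff g _).1 (by rw [map_pow, hgK])
    have hgK' := hcent _ hcomm
    have h1 : (g : Matrix ι ι F) * (g : Matrix ι ι F) = 1 := Matrix.ext_of_mulVec_single fun i => by
      generalize (Pi.single i (1 : F) : ι → F) = x
      rw [Matrix.one_mulVec, ← sub_eq_zero]
      refine hQ.1 _ fun y => ?_
      show polar Q (_ - x) y = 0
      rw [polar_sub_left, ← Matrix.mulVec_mulVec, hsa _ hgK', isom_polar (hH hg), sub_self]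
    have h2 : ((g : Matrix ι ι F) - 1) * ((g : Matrix ι ι F) + 1) = 0 := by
      rw [sub_mul, mul_add, one_mul, mul_one, h1]; abel
    by_contra hc
    rw [not_or] at hc
    obtain ⟨y, hy, hyg⟩ := hK.inv _ (K.sub_mem hgK' K.one_mem) (sub_ne_zero.2 hc.1)
    refine hc.2 (eq_neg_of_add_eq_zero_left ?_)
    calc (g : Matrix ι ι F) + 1 = y * ((g : Matrix ι ι F) - 1) * ((g : Matrix ι ι F) + 1) := by
          rw [hK.comm y hy _ (K.sub_mem hgK' K.one_mem), hyg, one_mul]
      _ = 0 := by rw [mul_assoc, h2, mul_zero]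
  have hdet : ∀ g ∈ H, (g : Matrix ι ι F).det * (g : Matrix ι ι F).det = 1 := fun g hg => by
    have h1 := congrArg Matrix.det ((hG.isSim_iff (g : Matrix ι ι F) 1).2 fun u v => by
      rw [one_mul]; exact isom_polar (hH hg) u v)
    rw [one_smul, Matrix.det_mul, Matrix.det_mul, Matrix.det_transpose,
      show ((g : Matrix ι ι F).map (RingEquiv.refl F)) = (g : Matrix ι ι F) from Matrix.map_id _] at h1
    have hJ0 : (J : Matrix ι ι F).det ≠ 0 := ((Matrix.isUnit_iff_isUnit_det _).1 J.isUnit).ne_zero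
    exact mul_left_cancel₀ hJ0 (by linear_combination h1)
  have habel : ∀ g ∈ H, ∀ h ∈ H, g * h = h * g := by
    intro g hg h hh
    have hpow : ∀ g ∈ H, ∃ a : ℕ, cj g K₀ = K₀ ^ a := fun g hg => by
      obtain ⟨a, ha⟩ := hgen (cj g K₀) (cj_mem_of_le hle hg hK₀)
        (fun e => hK₀0 ((cj g).injective (by rw [e, map_zero])))
      exact ⟨a, ha.symm⟩
    obtain ⟨a, ha⟩ := hpow g hg
    obtain ⟨b, hb⟩ := hpow h hh
    have h1 : cj (g * h) K₀ = cj (h * g) K₀ := by
      rw [← cj_cj, ← cj_cj, hb, ha, map_pow, map_pow, ha, hb, ← pow_mul, ← pow_mul, mul_comm]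
    have h2 : cj ((h * g)⁻¹ * (g * h)) K₀ = K₀ := by
      rw [← cj_cj, h1, cj_inv_cj]
    rcases hfix _ (H.mul_mem (H.inv_mem (H.mul_mem hh hg)) (H.mul_mem hg hh)) h2 with e | e
    · exact (inv_mul_eq_one.1 (Units.ext e : (h * g)⁻¹ * (g * h) = 1)).symm
    · exfalso
      have h3 := congrArg Matrix.det e
      have h4 : ∀ x : GL ι F, (x : Matrix ι ι F).det = ((Matrix.GeneralLinearGroup.det x : Fˣ) : F) := fun x => rfl
      rw [h4, map_mul, map_inv, map_mul, map_mul, mul_comm (Matrix.GeneralLinearGroup.det h), inv_mul_cancel,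
        Units.val_one, Matrix.det_neg, Matrix.det_one, mul_one, hodd.neg_one_pow] at h3
      obtain ⟨y, hy⟩ := exists_ne (0 : ι → F)
      obtain ⟨⟨x, hx⟩, -⟩ := polar_nondeg hQ y hy
      have : ((( h * g)⁻¹ * (g * h) : GL ι F) : Matrix ι ι F) = 1 := by
        rw [e, ← neg_one_smul F (1 : Matrix ι ι F), ← h3, one_smul]
      exact hx (by
        have h5 := this.symm.trans e
        have h6 := congrArg (fun M : Matrix ι ι F => polar Q (M *ᵥ x) y) h5
        simp only [Matrix.one_mulVec, Matrix.neg_mulVec, QuadraticMap.polar_neg_left] at h6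
        have h7 : (2 : F) = 0 := by linear_combination h3
        have h8 : polar Q x y * 2 = 0 := by linear_combination h6
        exact absurd h7 (fun h7 => by
          have hev := even_of_char_two h7 (W := (⊤ : Submodule F (ι → F))) (fun w _ hw0 => by
            obtain ⟨⟨p, hp⟩, q, hq⟩ := polar_nondeg hQ w hw0
            exact ⟨⟨p, trivial, hp⟩, q, trivial, hq⟩) (Q := Q)
          rw [finrank_top, Module.finrank_fintype_fun_eq_card] at hev
          exact Nat.not_even_iff_odd.2 hodd hev))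
  have hscalar : ∀ g ∈ H, ∃ c : F, (g : Matrix ι ι F) = c • 1 := by
    intro g hg
    set d := (g : Matrix ι ι F).det
    set D := ((g : Matrix ι ι F) - d • (1 : Matrix ι ι F)).det
    have hd := hdet g hg
    have hD : D = 0 := by
      have hsim := (hG.isSim_iff (g : Matrix ι ι F) 1).2 fun u v => by rw [one_mul]; exact isom_polar (hH hg) u v
      unfold AschbacherForm.IsSim at hsim
      rw [one_smul, show ((g : Matrix ι ι F).map (RingEquiv.refl F)) = (g : Matrix ι ι F) from Matrix.map_id _] at hsim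
      have e1 : (g : Matrix ι ι F)ᵀ * (J : Matrix ι ι F) * ((g : Matrix ι ι F) - d • (1 : Matrix ι ι F)) =
          (-d) • (((g : Matrix ι ι F) - d • (1 : Matrix ι ι F))ᵀ * (J : Matrix ι ι F)) := by
        rw [mul_sub, hsim, Matrix.mul_smul, mul_one, Matrix.transpose_sub, Matrix.transpose_smul, Matrix.transpose_one,
          sub_mul, smul_sub, Matrix.smul_mul, one_mul, smul_smul, neg_mul, hd, neg_one_smul, neg_smul]
        abel
      have e2 := congrArg Matrix.det e1
      rw [Matrix.det_mul, Matrix.det_mul, Matrix.det_smul, Matrix.det_mul, Matrix.det_transpose, Matrix.det_transpose,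
        hodd.neg_pow] at e2
      obtain ⟨k, hk⟩ := hodd
      have hdn : d ^ Fintype.card ι = d := by
        rw [hk, pow_succ, pow_mul, _root_.sq, hd, one_pow, one_mul]
      rw [hdn] at e2
      have hd0 : d ≠ 0 := fun e => by change d * d = 1 at hd; rw [e, mul_zero] at hd; exact zero_ne_one hd
      have hJ0 : (J : Matrix ι ι F).det ≠ 0 := ((Matrix.isUnit_iff_isUnit_det _).1 J.isUnit).ne_zero
      have h2 : (2 : F) ≠ 0 := fun h7 => by
        have hev := even_of_char_two h7 (W := (⊤ : Submodule F (ι → F))) (fun w _ hw0 => by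
          obtain ⟨⟨p, hp⟩, q, hq⟩ := polar_nondeg hQ w hw0
          exact ⟨⟨p, trivial, hp⟩, q, trivial, hq⟩) (Q := Q)
        rw [finrank_top, Module.finrank_fintype_fun_eq_card, hk] at hev
        exact Nat.not_even_iff_odd.2 ⟨k, rfl⟩ hev
      have e3 : (2 * (d * (J : Matrix ι ι F).det)) * D = 0 := by linear_combination e2
      exact (mul_eq_zero.1 e3).resolve_left (mul_ne_zero h2 (mul_ne_zero hd0 hJ0))
    obtain ⟨v, hv, hv'⟩ := Matrix.exists_mulVec_eq_zero_iff.2 hD
    let W : Submodule F (ι → F) := LinearMap.ker ((g : Matrix ι ι F) - d • (1 : Matrix ι ι F)).mulVecLin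
    have hW : H ≤ subspaceStabilizer W := fun h hh => AschbacherForm.mem_subspaceStabilizer fun w hw => by
      have hw' : ((g : Matrix ι ι F) - d • (1 : Matrix ι ι F)) *ᵥ w = 0 := hw
      show ((g : Matrix ι ι F) - d • (1 : Matrix ι ι F)) *ᵥ _ = 0
      have hc : (g : Matrix ι ι F) * (h : Matrix ι ι F) = (h : Matrix ι ι F) * (g : Matrix ι ι F) :=
        congrArg Units.val (habel g hg h hh)
      rw [Matrix.mulVec_mulVec, show ((g : Matrix ι ι F) - d • (1 : Matrix ι ι F)) * (h : Matrix ι ι F) =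
        (h : Matrix ι ι F) * ((g : Matrix ι ι F) - d • (1 : Matrix ι ι F)) by
          rw [sub_mul, mul_sub, hc, Matrix.smul_mul, Matrix.mul_smul, one_mul, mul_one],
        ← Matrix.mulVec_mulVec, hw', Matrix.mulVec_zero]
    rcases hirr W hW with h0 | h0
    · exact absurd ((Submodule.eq_bot_iff _).1 h0 v hv') hv
    · refine ⟨d, Matrix.ext_of_mulVec_single fun i => ?_⟩
      have h1 : ((g : Matrix ι ι F) - d • (1 : Matrix ι ι F)) *ᵥ Pi.single i 1 = 0 :=
        (h0 ▸ Submodule.mem_top : (Pi.single i (1 : F) : ι → F) ∈ W)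
      rwa [Matrix.sub_mulVec, sub_eq_zero] at h1
  obtain ⟨v, hv⟩ := exists_ne (0 : ι → F)
  rcases hirr (Submodule.span F {v}) (fun g hg => AschbacherForm.mem_subspaceStabilizer fun w hw => by
    obtain ⟨c, hc⟩ := hscalar g hg
    rw [hc, Matrix.smul_mulVec, Matrix.one_mulVec]
    exact Submodule.smul_mem _ c hw) with h0 | h0
  · exact hv (Submodule.span_singleton_eq_bot.1 h0)
  · have h1 := finrank_span_singleton (K := F) hv
    rw [h0, finrank_top, Module.finrank_fintype_fun_eq_card] at h1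
    omega

/-- A decomposition of an invariant non-degenerate subspace into invariant pieces. -/
theorem exists_pieces (hQ : (polarBilin Q).Nondegenerate) (hadj : IsAdjointClosedFor (polar ⇑Q) K) {d : ℕ}
    (hd : 0 < d) (Good : Submodule F (ι → F) → Prop)
    (hpiece : ∀ W : Submodule F (ι → F), IsNondegenerateOn (polar ⇑Q) W → (∀ k ∈ K, ∀ w ∈ W, k *ᵥ w ∈ W) → W ≠ ⊥ →
      ∃ P ≤ W, Good P ∧ IsNondegenerateOn (polar ⇑Q) P ∧ (∀ k ∈ K, ∀ w ∈ P, k *ᵥ w ∈ P) ∧
        Module.finrank F P = d) :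
    ∃ (t : ℕ) (D : Fin t → Submodule F (ι → F)), Pieces Q d D ∧ t * d = Fintype.card ι ∧ ∀ i, Good (D i) := by
  classical
  obtain ⟨J, hG⟩ := exists_geom hQ
  suffices h : ∀ (m : ℕ) (W : Submodule F (ι → F)), Module.finrank F W ≤ m → IsNondegenerateOn (polar ⇑Q) W →
      (∀ k ∈ K, ∀ w ∈ W, k *ᵥ w ∈ W) → ∃ (t : ℕ) (D : Fin t → Submodule F (ι → F)),
        Pieces Q d D ∧ t * d = Module.finrank F W ∧ (∀ i, D i ≤ W) ∧ ∀ i, Good (D i) by
    obtain ⟨t, D, hD, hc, -, hgood⟩ := h (Fintype.card ι) ⊤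
      (by rw [finrank_top, Module.finrank_fintype_fun_eq_card])
      (fun w _ hw0 => by
        obtain ⟨⟨p, hp⟩, q, hq⟩ := polar_nondeg hQ w hw0
        exact ⟨⟨p, trivial, hp⟩, q, trivial, hq⟩) (fun k _ w _ => trivial)
    exact ⟨t, D, hD, by rw [hc, finrank_top, Module.finrank_fintype_fun_eq_card], hgood⟩
  intro m
  induction m with
  | zero =>
    intro W hW _ _
    exact ⟨0, Fin.elim0, ⟨fun i => i.elim0, fun i => i.elim0, fun i => i.elim0⟩, by omega, fun i => i.elim0,
      fun i => i.elim0⟩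
  | succ m ih =>
    intro W hWm hW hWK
    by_cases h0 : W = ⊥
    · exact ih W (by rw [h0, finrank_bot]; omega) hW hWK
    obtain ⟨P, hPW, hPg, hP, hPK, hPd⟩ := hpiece W hW hWK h0
    obtain ⟨hc, -⟩ := hG.rform.isCompl_perp hP
    set W' := W ⊓ hG.rform.perp P with hW'
    have hsup : P ⊔ W' = W := le_antisymm (sup_le hPW inf_le_left) fun w hw => by
      obtain ⟨p, hp, q, hq, rfl⟩ := Submodule.mem_sup.1 (hc.sup_eq_top ▸ Submodule.mem_top : w ∈ P ⊔ hG.rform.perp P)
      exact Submodule.add_mem_sup hp ⟨(Submodule.add_mem_iff_right W (hPW hp)).1 hw, hq⟩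
    have ho : Orth Q P W' := fun u hu v hv => by rw [polar_comm]; exact hv.2 u hu
    have hdim : Module.finrank F P + Module.finrank F W' = Module.finrank F W := by
      rw [← finrank_sup_of_disjoint (disjoint_of_orth ho hP), hsup]
    have hW'n : IsNondegenerateOn (polar ⇑Q) W' := fun w hw hw0 => by
      obtain ⟨⟨x, hx, hne⟩, -⟩ := hW w hw.1 hw0
      obtain ⟨p, hp, q, hq, rfl⟩ := Submodule.mem_sup.1 (hsup.symm ▸ hx : x ∈ P ⊔ W')
      rw [polar_add_left, ho p hp w hw, zero_add] at hne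
      exact ⟨⟨q, hq, hne⟩, q, hq, by rwa [polar_comm]⟩
    have hW'K : ∀ k ∈ K, ∀ w ∈ W', k *ᵥ w ∈ W' := fun k hk w hw => ⟨hWK k hk w hw.1, fun p hp => by
      obtain ⟨k', hk', h'⟩ := hadj k hk
      rw [h']
      exact hw.2 _ (hPK k' hk' p hp)⟩
    obtain ⟨t, D, hD, hcard, hle, hgood⟩ := ih W' (by omega) hW'n hW'K
    refine ⟨t + 1, Fin.cons P D, ⟨Fin.cases hPd hD.finrank_eq, Fin.cases hP hD.nondeg, ?_⟩, ?_,
      Fin.cases hPW (fun i => (hle i).trans inf_le_left), Fin.cases hPg hgood⟩
    · intro i j hij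
      induction i using Fin.cases with
      | zero =>
        induction j using Fin.cases with
        | zero => exact absurd rfl hij
        | succ j => exact fun u hu v hv => ho u hu v (hle j hv)
      | succ i =>
        induction j using Fin.cases with
        | zero => exact fun u hu v hv => by rw [polar_comm]; exact ho v hv u (hle i hu)
        | succ j => exact hD.orth i j fun e => hij (by rw [e])
    · rw [Nat.succ_mul, hcard]; omega

/-- In characteristic two a self-adjoint field has even multiplicity. -/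
theorem two_mul_dvd_of_selfAdjoint (hQ : (polarBilin Q).Nondegenerate) (h2 : (2 : F) = 0)
    (hK : IsFieldSubalgebra r K) (hr : 0 < r) (hsa : IsSelfAdjointFor (polar ⇑Q) K) : 2 * r ∣ Fintype.card ι := by
  classical
  have hadj : IsAdjointClosedFor (polar ⇑Q) K := fun k hk => ⟨k, hk, hsa k hk⟩
  haveI : Finite (Matrix ι ι F) := inferInstanceAs (Finite (ι → ι → F))
  -- vectors are orthogonal to their orbits
  have hsing : ∀ (v : ι → F), ∀ k ∈ K, polar Q (k *ᵥ v) v = 0 := by
    intro v k hk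
    have hinj : Function.Injective fun c : K => c * c := fun a b e => by
      have e' : (a : Matrix ι ι F) * a = (b : Matrix ι ι F) * b := congrArg Subtype.val e
      by_contra hne
      have hd : (a : Matrix ι ι F) - b ≠ 0 := fun h0 => hne (Subtype.ext (sub_eq_zero.1 h0))
      obtain ⟨y, -, hy⟩ := hK.inv _ (K.sub_mem a.2 b.2) hd
      have h0 : ((a : Matrix ι ι F) - b) * ((a : Matrix ι ι F) - b) = 0 := by
        have h2' : ∀ M : Matrix ι ι F, M + M = 0 := fun M => by rw [← two_smul F M, h2, zero_smul]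
        rw [sub_mul, mul_sub, mul_sub, hK.comm _ b.2 _ a.2, e', sub_sub_eq_add_sub, sub_add_eq_add_sub, h2',
          zero_sub, ← neg_add', h2', neg_zero]
      exact hd (by
        calc (a : Matrix ι ι F) - b = ((a : Matrix ι ι F) - b) * (((a : Matrix ι ι F) - b) * y) := by rw [hy, mul_one]
          _ = 0 := by rw [← mul_assoc, h0, zero_mul])
    obtain ⟨c, hc⟩ := Finite.surjective_of_injective hinj ⟨k, hk⟩
    have hc' : (c : Matrix ι ι F) * c = k := congrArg Subtype.val hc
    rw [← hc', ← Matrix.mulVec_mulVec, hsa _ c.2, polar_self', h2, zero_mul]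
  obtain ⟨t, D, -, hcard, -⟩ := exists_pieces (K := K) hQ hadj (by omega : 0 < 2 * r) (fun _ => True)
    fun W hW hWK h0 => by
      obtain ⟨v, hv, hv0⟩ := Submodule.exists_mem_ne_zero_of_ne_bot h0
      obtain ⟨⟨w, hw, hwv⟩, -⟩ := hW v hv hv0
      have hker : Function.Injective ((orbitMap K v).coprod (orbitMap K w)) := by
        refine (injective_iff_map_eq_zero _).2 fun ⟨k, l⟩ hkl => ?_
        have e1 : (k : Matrix ι ι F) *ᵥ v + (l : Matrix ι ι F) *ᵥ w = 0 := hkl
        have hl : l = 0 := by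
          by_contra hl
          obtain ⟨y, hy, hly⟩ := hK.inv l l.2 fun e => hl (Subtype.ext e)
          have e2 := congrArg (fun z => polar Q z (y *ᵥ v)) e1
          simp only [polar_add_left, QuadraticMap.polar_zero_left] at e2
          rw [← hsa y hy, Matrix.mulVec_mulVec, hsing v _ (K.mul_mem hy k.2), zero_add,
            ← hsa y hy, Matrix.mulVec_mulVec, hK.comm y hy _ l.2, hly, Matrix.one_mulVec] at e2
          exact hwv e2
        subst hl
        rw [ZeroMemClass.coe_zero, Matrix.zero_mulVec, add_zero] at e1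
        exact Prod.ext (Subtype.ext (field_mulVec_eq_zero hK k.2 hv0 e1)) rfl
      refine ⟨LinearMap.range ((orbitMap K v).coprod (orbitMap K w)), ?_, trivial, ?_, ?_, ?_⟩
      · rintro _ ⟨⟨k, l⟩, rfl⟩
        exact W.add_mem (hWK _ k.2 _ hv) (hWK _ l.2 _ hw)
      · rintro _ ⟨⟨k, l⟩, rfl⟩ hz
        have hz' : (k : Matrix ι ι F) *ᵥ v + (l : Matrix ι ι F) *ᵥ w ≠ 0 := hz
        suffices h : ∃ x ∈ LinearMap.range ((orbitMap K v).coprod (orbitMap K w)),
            polar Q x ((k : Matrix ι ι F) *ᵥ v + (l : Matrix ι ι F) *ᵥ w) ≠ 0 by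
          obtain ⟨x, hx, hne⟩ := h
          exact ⟨⟨x, hx, hne⟩, x, hx, by rwa [polar_comm] at hne⟩
        by_cases hl : (l : Matrix ι ι F) = 0
        · have hk0 : (k : Matrix ι ι F) ≠ 0 := fun e => hz' (by simp [e, hl])
          obtain ⟨y, hy, hky⟩ := hK.inv k k.2 hk0
          refine ⟨y *ᵥ w, ⟨(0, ⟨y, hy⟩), by simp [orbitMap_apply]⟩, ?_⟩
          rw [hl, Matrix.zero_mulVec, add_zero, polar_comm, ← hsa y hy, Matrix.mulVec_mulVec,
            hK.comm y hy _ k.2, hky, Matrix.one_mulVec, polar_comm]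
          exact hwv
        · obtain ⟨y, hy, hly⟩ := hK.inv l l.2 hl
          refine ⟨y *ᵥ v, ⟨(⟨y, hy⟩, 0), by simp [orbitMap_apply]⟩, ?_⟩
          rw [polar_comm, polar_add_left, ← hsa y hy, ← hsa y hy, Matrix.mulVec_mulVec, Matrix.mulVec_mulVec,
            hsing v _ (K.mul_mem hy k.2), zero_add, hK.comm y hy _ l.2, hly, Matrix.one_mulVec]
          exact hwv
      · rintro m hm _ ⟨⟨k, l⟩, rfl⟩
        refine ⟨(⟨m, hm⟩ * k, ⟨m, hm⟩ * l), ?_⟩
        simp [orbitMap_apply, Matrix.mulVec_add, Matrix.mulVec_mulVec]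
      · rw [LinearMap.finrank_range_of_inj hker, Module.finrank_prod]
        show Module.finrank F K + Module.finrank F K = _
        rw [hK.finrank_eq]
        ring
  exact Dvd.intro_left t hcard

/-- Data of a field of degree two that is not self-adjoint. -/
theorem unitary_data (hQ : (polarBilin Q).Nondegenerate) [Nonempty ι] (hK : IsFieldSubalgebra 2 K)
    (hadj : IsAdjointClosedFor (polar ⇑Q) K) (hnsa : ¬ IsSelfAdjointFor (polar ⇑Q) K) :
    ∃ J : GL ι F, AschbacherForm.Geom (RingEquiv.refl F) (polar ⇑Q) J 1 ∧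
      (∀ k ∈ K, AschbacherForm.adj (RingEquiv.refl F) J k ∈ K) ∧
      (∀ y ∈ K, AschbacherForm.adj (RingEquiv.refl F) J y = y → ∃ c : F, y = c • 1) ∧
      ∃ x ∈ K, AschbacherForm.adj (RingEquiv.refl F) J x ≠ x := by
  classical
  obtain ⟨J, hG⟩ := exists_geom hQ
  refine ⟨J, hG, (hG.adjClosed_iff K).1 hadj, fun y hy hfix => ?_, ?_⟩
  · by_contra hc
    push Not at hc
    have hli : LinearIndependent F ![(1 : Matrix ι ι F), y] := LinearIndependent.pair_iff.2 fun a b hab => by
      by_cases hb : b = 0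
      · exact ⟨by simpa [hb] using hab, hb⟩
      · exact absurd (show y = (-a / b) • (1 : Matrix ι ι F) by
          rw [div_eq_inv_mul, mul_smul, neg_smul, ← eq_neg_of_add_eq_zero_right hab, smul_smul,
            inv_mul_cancel₀ hb, one_smul]) (hc _)
    have hspan : Submodule.span F (Set.range ![(1 : Matrix ι ι F), y]) = Subalgebra.toSubmodule K := by
      refine Submodule.eq_of_le_of_finrank_le (Submodule.span_le.2 ?_) ?_
      · rintro _ ⟨i, rfl⟩
        fin_cases i
        exacts [K.one_mem, hy]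
      · rw [finrank_span_eq_card hli, Fintype.card_fin]
        exact hK.finrank_eq.le
    refine hnsa ((hG.selfAdj_iff K).2 fun k hk => ?_)
    have hk' : k ∈ Submodule.span F (Set.range ![(1 : Matrix ι ι F), y]) := hspan.symm ▸ hk
    obtain ⟨c, rfl⟩ := Submodule.mem_span_range_iff_exists_fun F |>.1 hk'
    simp [Fin.sum_univ_two, AschbacherForm.adj_add, AschbacherForm.adj_smul, AschbacherForm.adj_one, hfix]
  · by_contra hc
    push Not at hc
    exact hnsa ((hG.selfAdj_iff K).2 hc)

/-- A field of degree two that is not self-adjoint consists of similitudes of the quadratic form. -/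
theorem unitary_norm (hQ : (polarBilin Q).Nondegenerate) {H : Subgroup (GL ι F)} (hH : H ≤ isometryGroup F ⇑Q)
    (hirr : Irred H) (hn : 2 ≤ Fintype.card ι) (hK : IsFieldSubalgebra 2 K)
    (hadj : IsAdjointClosedFor (polar ⇑Q) K) (hnsa : ¬ IsSelfAdjointFor (polar ⇑Q) K)
    (hle : H ≤ subalgebraNormalizer K) : ∀ k ∈ K, ∃ c : F, ∀ v : ι → F, Q (k *ᵥ v) = c * Q v := by
  classical
  haveI : Nonempty ι := Fintype.card_pos_iff.1 (by omega)
  obtain ⟨J, hG, hτ, hfix, x, hx, hxne⟩ := unitary_data hQ hK hadj hnsa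
  set τ := AschbacherForm.adj (RingEquiv.refl F) J
  have hnorm : ∀ k ∈ K, ∃ c : F, τ k * k = c • 1 := fun k hk => hfix _ (K.mul_mem (hτ k hk) hk) (by
    simp only [τ]
    rw [AschbacherForm.adj_mul, AschbacherForm.adj_adj hG])
  by_cases h2 : (2 : F) = 0
  swap
  · intro k hk
    obtain ⟨c, hc⟩ := hnorm k hk
    refine ⟨c, fun v => mul_left_cancel₀ h2 ?_⟩
    rw [← polar_self', hG.mulVec_left, Matrix.mulVec_mulVec, show AschbacherForm.adj (RingEquiv.refl F) J k * k = c • 1 from hc,
      Matrix.smul_mulVec, Matrix.one_mulVec, polar_smul_right', polar_self']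
    ring
  have hneg : ∀ M : Matrix ι ι F, -M = M := fun M => by
    rw [neg_eq_iff_add_eq_zero, ← two_smul F M, h2, zero_smul]
  obtain ⟨t, ht⟩ := hfix (x + τ x) (K.add_mem hx (hτ x hx)) (by
    simp only [τ]
    rw [AschbacherForm.adj_add, AschbacherForm.adj_adj hG, add_comm])
  have ht0 : t ≠ 0 := fun e => hxne (by
    rw [e, zero_smul] at ht
    rw [eq_neg_of_add_eq_zero_right ht, hneg])
  let Q' : (ι → F) → F := fun v => t⁻¹ * polar Q (x *ᵥ v) v
  have hQ'polar : ∀ u v, Q' (u + v) = Q' u + Q' v + polar Q u v := by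
    intro u v
    have e1 : polar Q (x *ᵥ v) u = polar Q (τ x *ᵥ u) v := by rw [hG.mulVec_left, polar_comm]
    have e2 : polar Q ((x + τ x) *ᵥ u) v = t * polar Q u v := by
      rw [ht, Matrix.smul_mulVec, Matrix.one_mulVec, polar_smul_left']
    rw [Matrix.add_mulVec, polar_add_left] at e2
    simp only [Q', Matrix.mulVec_add, polar_add_left, polar_add_right, e1]
    have e3 : t⁻¹ * (polar Q (x *ᵥ u) v + polar Q (τ x *ᵥ u) v) = polar Q u v := by
      rw [e2, inv_mul_cancel_left₀ ht0]
    linear_combination e3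
  have hQ'smul : ∀ (c : F) v, Q' (c • v) = c * c * Q' v := fun c v => by
    simp only [Q', Matrix.mulVec_smul, polar_smul_left', polar_smul_right']; ring
  have hQ'inv : ∀ g ∈ H, ∀ v, Q' ((g : Matrix ι ι F) *ᵥ v) = Q' v := by
    intro g hg v
    set k' := cj g⁻¹ x
    have hk' : k' ∈ K := cj_mem_of_le hle (H.inv_mem hg) hx
    have e1 : cj g k' = x := by rw [cj_cj, mul_inv_cancel, cj_one]
    have hsim : ∀ M, τ (cj g⁻¹ M) = cj g⁻¹ (τ M) := fun M => by
      refine hG.rform.adjoint_unique (f := polar ⇑Q) fun u w => ?_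
      rw [← hG.mulVec_left]
      have key : ∀ u w, polar Q (cj g⁻¹ M *ᵥ u) w = polar Q u (cj g⁻¹ (τ M) *ᵥ w) := fun u w => by
        have e2 := cj_isom (Q := Q) (hH hg) (cj g⁻¹ M) u w
        rw [cj_cj, mul_inv_cancel, cj_one] at e2
        rw [← e2, hG.mulVec_left]
        have e3 := cj_isom (Q := Q) (hH hg) (cj g⁻¹ (τ M)) w u
        rw [cj_cj, mul_inv_cancel, cj_one] at e3
        rw [polar_comm, e3, polar_comm]
      exact key u w
    have hs : τ (k' - x) = k' - x := by
      have h1 : k' + τ k' = x + τ x := by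
        rw [hsim, ← map_add, ht, map_smul, map_one]
      have h3 : τ (k' - x) = τ k' - τ x := eq_sub_of_add_eq (by
        simp only [τ]; rw [← AschbacherForm.adj_add, sub_add_cancel])
      rw [h3]
      have h4 : τ k' - τ x = x - k' := by linear_combination (norm := abel) h1
      rw [h4, ← neg_sub, hneg]
    obtain ⟨l, hl⟩ := hfix _ (K.sub_mem hk' hx) hs
    show t⁻¹ * _ = t⁻¹ * _
    congr 1
    have e2 := cj_isom (Q := Q) (hH hg) k' v v
    rw [e1] at e2
    rw [e2, show k' = x + l • (1 : Matrix ι ι F) by rw [← hl]; abel, Matrix.add_mulVec, polar_add_left,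
      Matrix.smul_mulVec, Matrix.one_mulVec, polar_smul_left', polar_self', h2]
    ring
  have hQeq : ∀ v, Q v = Q' v := fun v => by
    refine sub_eq_zero.1 (AschbacherForm.semilinear_vanishes h2 hn (AschbacherForm.actsIrred hirr)
      (fun v => Q v - Q' v) (fun a b => ?_) (fun c a => ?_) ?_ v)
    · rw [map_add', hQ'polar]; ring
    · rw [map_smul', hQ'smul]; ring
    · rintro _ ⟨g, hg, rfl⟩ w hw
      rw [isom_apply (hH hg), hQ'inv g hg]
      exact hw
  intro k hk
  obtain ⟨c, hc⟩ := hnorm k hk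
  refine ⟨c, fun v => ?_⟩
  rw [hQeq, hQeq v]
  show t⁻¹ * _ = c * (t⁻¹ * _)
  rw [Matrix.mulVec_mulVec, polar_comm, hG.mulVec_left, Matrix.mulVec_mulVec, hK.comm x hx k hk, ← mul_assoc,
    show AschbacherForm.adj (RingEquiv.refl F) J k * k = c • 1 from hc, Matrix.smul_mul, one_mul, Matrix.smul_mulVec,
    polar_smul_right', polar_comm]
  ring

/-- Type of a space with a field of degree two consisting of similitudes. -/
theorem unitary_type (hQ : (polarBilin Q).Nondegenerate) {m : ℕ} (hm : 2 ≤ m) (hn : Fintype.card ι = 2 * m)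
    (hK : IsFieldSubalgebra 2 K) (hadj : IsAdjointClosedFor (polar ⇑Q) K)
    (hnsa : ¬ IsSelfAdjointFor (polar ⇑Q) K) (hnorm : ∀ k ∈ K, ∃ c : F, ∀ v : ι → F, Q (k *ᵥ v) = c * Q v) :
    IsPlusTypeOn ⇑Q ⊤ ↔ Even m := by
  classical
  haveI : Nonempty ι := Fintype.card_pos_iff.1 (by omega)
  obtain ⟨t, D, hD, hcard, hminus⟩ := exists_pieces (K := K) hQ hadj two_pos
    (fun P => ¬ IsPlusTypeOn ⇑Q P) fun W hW hWK h0 => by
      obtain ⟨v, hv, hQv⟩ := exists_nonsingular_of hW h0
      have hv0 : v ≠ 0 := fun e => hQv (by rw [e, QuadraticMap.map_zero])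
      have haniso : ∀ k ∈ K, Q (k *ᵥ v) = 0 → k = 0 := by
        intro k hk hkv
        by_contra hk0
        obtain ⟨y, hy, hky⟩ := hK.inv k hk hk0
        obtain ⟨d, hd⟩ := hnorm y hy
        have h1 := hd (k *ᵥ v)
        rw [Matrix.mulVec_mulVec, hK.comm y hy k hk, hky, Matrix.one_mulVec, hkv, mul_zero] at h1
        exact hQv h1
      set P := LinearMap.range (orbitMap K v)
      have hPd : Module.finrank F P = 2 := finrank_orbit hK hv0
      refine ⟨P, ?_, ?_, ?_, ?_, hPd⟩
      · rintro _ ⟨k, rfl⟩; exact hWK _ k.2 v hv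
      · rintro ⟨U, hUP, hU, hUd⟩
        obtain ⟨u, hu, hu0⟩ := Submodule.exists_mem_ne_zero_of_ne_bot (show U ≠ ⊥ from fun h => by
          rw [h, finrank_bot, hPd] at hUd; exact absurd hUd (by norm_num))
        obtain ⟨k, rfl⟩ := hUP hu
        rw [orbitMap_apply] at hu0
        exact hu0 (by rw [haniso _ k.2 (hU _ hu), Matrix.zero_mulVec])
      · rintro _ ⟨k, rfl⟩ hz
        rw [orbitMap_apply] at hz ⊢
        suffices h : ∃ x ∈ P, polar Q x ((k : Matrix ι ι F) *ᵥ v) ≠ 0 by
          obtain ⟨x, hx, hne⟩ := h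
          exact ⟨⟨x, hx, hne⟩, x, hx, by rwa [polar_comm] at hne⟩
        by_contra hc
        push Not at hc
        by_cases h2 : (2 : F) = 0
        · -- the field contains an element with non-zero trace
          obtain ⟨J, hG, hτ, hfix, x, hx, hxne⟩ := unitary_data hQ hK hadj hnsa
          have hxv := hc ((x * (k : Matrix ι ι F)) *ᵥ v) ⟨⟨_, K.mul_mem hx k.2⟩, rfl⟩
          obtain ⟨c₁, hc₁⟩ := hnorm (x + 1) (K.add_mem hx K.one_mem)
          obtain ⟨c₀, hc₀⟩ := hnorm x hx
          have hkey : ∀ w, polar Q (x *ᵥ w) w = (c₁ - c₀ - 1) * Q w := fun w => by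
            have h1 := hc₁ w
            rw [Matrix.add_mulVec, Matrix.one_mulVec, map_add', hc₀ w] at h1
            linear_combination h1
          rw [← Matrix.mulVec_mulVec, hkey] at hxv
          rcases mul_eq_zero.1 hxv with h | h
          · refine hxne (hG.rform.adjoint_unique (f := polar ⇑Q) fun a b => ?_).symm
            rw [← hG.mulVec_left]
            have e1 := hkey (a + b)
            rw [Matrix.mulVec_add, polar_add_left, polar_add_right, polar_add_right, h, zero_mul] at e1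
            have e2 := hkey a
            have e3 := hkey b
            rw [h, zero_mul] at e2 e3
            rw [polar_comm Q a]
            linear_combination e1 - e2 - e3 - polar Q (x *ᵥ a) b * h2
          · exact hz (by rw [haniso _ k.2 h, Matrix.zero_mulVec])
        · have h1 := hc _ ⟨k, rfl⟩
          rw [orbitMap_apply, polar_self'] at h1
          exact hz (by rw [haniso _ k.2 ((mul_eq_zero.1 h1).resolve_left h2), Matrix.zero_mulVec])
      · rintro l hl _ ⟨k, rfl⟩
        exact ⟨⟨l, hl⟩ * k, by simp [orbitMap_apply, Matrix.mulVec_mulVec]⟩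
  have htm : t = m := by omega
  subst htm
  have hdec := hD.decomp hm two_pos hcard
  have hiso : ∀ i j, AreIsometricFor ⇑Q (D i) (D j) := fun i j =>
    isometric_of_type (m := 0) (hD.nondeg i) (hD.nondeg j) (hD.finrank_eq i) (hD.finrank_eq j)
      (iff_of_false (hminus i) (hminus j))
  obtain ⟨he, ho⟩ := type_even hQ hdec even_two hiso
  refine ⟨fun hp => ?_, he⟩
  by_contra hodd
  exact hminus ⟨0, by omega⟩ ((ho (Nat.not_even_iff_odd.1 hodd) _).1 hp)
where
  exists_nonsingular_of {W : Submodule F (ι → F)} (hW : IsNondegenerateOn (polar ⇑Q) W) (h0 : W ≠ ⊥) :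
      ∃ p ∈ W, Q p ≠ 0 := by
    by_contra hc
    push Not at hc
    obtain ⟨w, hw, hw0⟩ := Submodule.exists_mem_ne_zero_of_ne_bot h0
    obtain ⟨⟨x, hx, hne⟩, -⟩ := hW w hw hw0
    exact hne (polar_eq_zero_of_singular hc hx hw)

end CfsgLib.AschbacherOrth
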