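import Cfsg.Agent.Lib.AschbacherOrth.Field

/-!
# Self-adjoint fields of half the dimension

A group normalising a self-adjoint field of odd degree `r` on a space of dimension `2 * r` permutes two totally
singular subspaces or normalises a field of degree two that is not self-adjoint.
-/

set_option autoImplicit false
set_option linter.unusedSectionVars false
set_option linter.style.show false
set_option maxHeartbeats 800000

namespace CfsgLib.AschbacherOrth

open QuadraticMap Cfsg Cfsg.Geo CfsgLib.Geometry CfsgLib.Aschbacher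
open CfsgLib.AschbacherForm (Geom IsSim)
open scoped Matrix MatrixGroups

universe u
variable {F : Type u} [Field F] [Fintype F] {ι : Type} [Fintype ι] [DecidableEq ι]
variable {Q : QuadraticForm F (ι → F)} {r : ℕ} {K : Subalgebra F (Matrix ι ι F)}

/-- A monic quadratic with no root in the base has none in an extension of odd degree. -/
theorem quadratic_no_root {L : Type u} [Field L] [Algebra F L] [FiniteDimensional F L]
    (hodd : Odd (Module.finrank F L)) {a b : F} (h : ∀ x : F, x * x ≠ a * x + b) (y : L) :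
    y * y ≠ algebraMap F L a * y + algebraMap F L b := by
  intro hy
  have hint : IsIntegral F y := IsIntegral.of_finite F y
  let p : Polynomial F := Polynomial.X ^ 2 - (Polynomial.C a * Polynomial.X + Polynomial.C b)
  have hlt : (Polynomial.C a * Polynomial.X + Polynomial.C b).natDegree < 2 :=
    lt_of_le_of_lt Polynomial.natDegree_linear_le one_lt_two
  have hp : p.Monic := Polynomial.monic_X_pow_sub (lt_of_le_of_lt Polynomial.degree_linear_le (by norm_num))
  have hroot : Polynomial.aeval y p = 0 := by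
    simp only [p, map_sub, map_add, map_mul, map_pow, Polynomial.aeval_X, Polynomial.aeval_C]
    rw [_root_.sq, hy, sub_self]
  have h2 : (minpoly F y).natDegree ≤ 2 := by
    refine (Polynomial.natDegree_le_of_dvd (minpoly.dvd F y hroot) hp.ne_zero).trans ?_
    refine (Polynomial.natDegree_sub_le _ _).trans ?_
    rw [Polynomial.natDegree_X_pow]
    exact max_le le_rfl hlt.le
  have hdvd := minpoly.degree_dvd hint (K := F) (L := L)
  have hpos := minpoly.natDegree_pos hint
  have h1 : (minpoly F y).natDegree = 1 := by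
    rcases (show (minpoly F y).natDegree = 1 ∨ (minpoly F y).natDegree = 2 by omega) with e | e
    · exact e
    · rw [e] at hdvd
      exact absurd (even_iff_two_dvd.2 hdvd) (Nat.not_even_iff_odd.2 hodd)
  have h3 := (minpoly.monic hint).eq_X_add_C h1
  have h4 := minpoly.aeval F y
  rw [h3, map_add, Polynomial.aeval_X, Polynomial.aeval_C] at h4
  refine h (-(minpoly F y).coeff 0) ((algebraMap F L).injective ?_)
  rw [map_mul, map_add, map_mul, map_neg, ← eq_neg_of_add_eq_zero_left h4]
  exact hy

/-- The field as a type. -/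
theorem isField_of_subalgebra [Nonempty ι] (hK : IsFieldSubalgebra r K) : IsField K :=
  { exists_pair_ne := ⟨1, 0, fun h => one_ne_zero (congrArg Subtype.val h : (1 : Matrix ι ι F) = 0)⟩
    mul_comm := fun x y => Subtype.ext (hK.comm x x.2 y y.2)
    mul_inv_cancel := fun {a} ha => by
      obtain ⟨y, hy, e⟩ := hK.inv a a.2 (fun e => ha (Subtype.ext e))
      exact ⟨⟨y, hy⟩, Subtype.ext e⟩ }

/-- A nonzero functional induces a perfect pairing of the field. -/
theorem exists_functional (hK : IsFieldSubalgebra r K) {φ : K →ₗ[F] F} (hφ : φ ≠ 0) (ψ : K →ₗ[F] F) :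
    ∃ d : K, ∀ k : K, ψ k = φ (k * d) := by
  let Φ : K →ₗ[F] Module.Dual F K :=
    { toFun := fun d => φ.comp (LinearMap.mulRight F d)
      map_add' := fun a b => LinearMap.ext fun k => by simp [mul_add]
      map_smul' := fun c a => LinearMap.ext fun k => by simp }
  have hinj : Function.Injective Φ := (injective_iff_map_eq_zero Φ).2 fun d hd => by
    by_contra h0
    obtain ⟨y, hy, hdy⟩ := hK.inv d d.2 fun e => h0 (Subtype.ext e)
    refine hφ (LinearMap.ext fun k => ?_)
    have h1 : φ (k * ⟨y, hy⟩ * d) = 0 := LinearMap.congr_fun hd (k * ⟨y, hy⟩)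
    rwa [show k * ⟨y, hy⟩ * d = k from Subtype.ext (by
      show (k : Matrix ι ι F) * y * d = k
      rw [mul_assoc, hK.comm y hy d d.2, hdy, mul_one])] at h1
  obtain ⟨d, hd⟩ := (LinearMap.injective_iff_surjective_of_finrank_eq_finrank Subspace.dual_finrank_eq.symm).1 hinj ψ
  exact ⟨d, fun k => by rw [← hd]; rfl⟩

/-- A quadratic element spans a field of degree two. -/
theorem field_of_quadratic (hQ : (polarBilin Q).Nondegenerate) [Nonempty ι] {H : Subgroup (GL ι F)}
    {j : Matrix ι ι F} {a b : F} (hj : j * j = a • j + b • 1) (hab : ∀ x : F, x * x ≠ a * x + b)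
    (hadj : ∀ x y, polar Q (j *ᵥ x) y = polar Q x ((a • (1 : Matrix ι ι F) - j) *ᵥ y))
    (hne : j ≠ a • 1 - j) (hH : ∀ g ∈ H, cj g j = j ∨ cj g j = a • 1 - j) :
    ∃ L : Subalgebra F (Matrix ι ι F), IsFieldSubalgebra 2 L ∧ IsAdjointClosedFor (polar ⇑Q) L ∧
      ¬ IsSelfAdjointFor (polar ⇑Q) L ∧ H ≤ subalgebraNormalizer L := by
  classical
  have hsc : ∀ c : F, j ≠ c • 1 := fun c hc => by
    refine hab c ?_
    rw [hc, Matrix.smul_mul, one_mul, smul_smul, smul_smul, ← add_smul] at hj
    have := congrFun (congrFun hj (Classical.arbitrary ι)) (Classical.arbitrary ι)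
    simpa using this
  have hli : LinearIndependent F ![(1 : Matrix ι ι F), j] := LinearIndependent.pair_iff.2 fun s t hst => by
    by_cases ht : t = 0
    · exact ⟨by simpa [ht] using hst, ht⟩
    · refine absurd ?_ (hsc (-s / t))
      rw [div_eq_inv_mul, mul_smul, neg_smul, ← eq_neg_of_add_eq_zero_right hst, smul_smul, inv_mul_cancel₀ ht, one_smul]
  let p : Submodule F (Matrix ι ι F) := Submodule.span F (Set.range ![(1 : Matrix ι ι F), j])
  have hmem : ∀ {x : Matrix ι ι F}, x ∈ p ↔ ∃ s t : F, x = s • 1 + t • j := fun {x} => by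
    rw [Submodule.mem_span_range_iff_exists_fun]
    constructor
    · rintro ⟨f, rfl⟩; exact ⟨f 0, f 1, by rw [Fin.sum_univ_two]; rfl⟩
    · rintro ⟨s, t, rfl⟩; exact ⟨![s, t], by rw [Fin.sum_univ_two]; rfl⟩
  let L : Subalgebra F (Matrix ι ι F) := p.toSubalgebra (hmem.2 ⟨1, 0, by simp⟩) (by
    intro x y hx hy
    obtain ⟨s, t, rfl⟩ := hmem.1 hx
    obtain ⟨s', t', rfl⟩ := hmem.1 hy
    refine hmem.2 ⟨s * s' + t * t' * b, s * t' + t * s' + t * t' * a, ?_⟩
    simp only [add_mul, mul_add, Matrix.smul_mul, Matrix.mul_smul, one_mul, mul_one, hj, smul_add, smul_smul,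
      add_smul]
    module)
  have hmemL : ∀ {x : Matrix ι ι F}, x ∈ L ↔ ∃ s t : F, x = s • 1 + t • j := fun {x} =>
    Submodule.mem_toSubalgebra.trans hmem
  refine ⟨L, ⟨fun x hx y hy => ?_, fun x hx hx0 => ?_, ?_⟩, fun k hk => ?_, fun hsa => ?_, le_subalgebraNormalizer fun g hg x hx => ?_⟩
  · obtain ⟨s, t, rfl⟩ := hmemL.1 hx
    obtain ⟨s', t', rfl⟩ := hmemL.1 hy
    simp only [add_mul, mul_add, Matrix.smul_mul, Matrix.mul_smul, one_mul, mul_one, smul_smul]
    module
  · obtain ⟨s, t, rfl⟩ := hmemL.1 hx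
    have hN : s * s + a * s * t - b * t * t ≠ 0 := fun h0 => by
      by_cases ht : t = 0
      · exact hx0 (by
          rw [ht, mul_zero, mul_zero, add_zero, sub_zero] at h0
          rw [mul_self_eq_zero.1 h0, ht, zero_smul, zero_smul, add_zero])
      · exact hab (-s / t) (by field_simp; linear_combination h0)
    refine ⟨(s * s + a * s * t - b * t * t)⁻¹ • ((s + a * t) • 1 + (-t) • j), L.smul_mem (hmemL.2 ⟨_, _, rfl⟩) _, ?_⟩
    rw [Matrix.mul_smul, inv_smul_eq_iff₀ hN]
    simp only [add_mul, mul_add, Matrix.smul_mul, Matrix.mul_smul, one_mul, mul_one, hj, smul_add, smul_smul]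
    module
  · show Module.finrank F (Subalgebra.toSubmodule L) = 2
    rw [Submodule.toSubalgebra_toSubmodule, finrank_span_eq_card hli, Fintype.card_fin]
  · obtain ⟨s, t, rfl⟩ := hmemL.1 hk
    refine ⟨(s + t * a) • 1 + (-t) • j, hmemL.2 ⟨_, _, rfl⟩, fun x y => ?_⟩
    simp only [Matrix.add_mulVec, Matrix.smul_mulVec, Matrix.one_mulVec, polar_add_left, polar_add_right,
      polar_smul_left', polar_smul_right', hadj, Matrix.sub_mulVec, polar_sub_right]
    ring
  · refine hne (Matrix.toLin'.injective (LinearMap.ext fun y => ?_))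
    rw [Matrix.toLin'_apply, Matrix.toLin'_apply, ← sub_eq_zero]
    refine hQ.1 _ fun x => ?_
    rw [polarBilin_apply_apply, polar_sub_left, sub_eq_zero, polar_comm,
      ← hsa j (hmemL.2 ⟨0, 1, by simp⟩) x y, hadj, polar_comm]
  · obtain ⟨s, t, rfl⟩ := hmemL.1 hx
    rw [map_add, map_smul, map_smul, map_one]
    rcases hH g hg with e | e <;> rw [e]
    · exact hmemL.2 ⟨_, _, rfl⟩
    · exact hmemL.2 ⟨s + t * a, -t, by module⟩

section setup

variable (K)

/-- A linear map commuting with the field. -/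
def Commutes (M : Matrix ι ι F) : Prop := ∀ k ∈ K, M * k = k * M

/-- Coordinates over the field. -/
noncomputable def twoOrbit (v w : ι → F) : (K × K) →ₗ[F] (ι → F) := (orbitMap K v).coprod (orbitMap K w)

variable {K}

theorem twoOrbit_apply (v w : ι → F) (a b : K) :
    twoOrbit K v w (a, b) = (a : Matrix ι ι F) *ᵥ v + (b : Matrix ι ι F) *ᵥ w := rfl

theorem twoOrbit_injective (hK : IsFieldSubalgebra r K) {v w : ι → F} (hv : v ≠ 0)
    (hw : w ∉ LinearMap.range (orbitMap K v)) : Function.Injective (twoOrbit K v w) := by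
  refine (injective_iff_map_eq_zero _).2 fun ⟨a, b⟩ hab => ?_
  rw [twoOrbit_apply] at hab
  have hb : b = 0 := by
    by_contra hb
    obtain ⟨y, hy, hby⟩ := hK.inv b b.2 fun e => hb (Subtype.ext e)
    refine hw ⟨-(⟨y, hy⟩ * a), ?_⟩
    have h1 := congrArg (y *ᵥ ·) (eq_neg_of_add_eq_zero_right hab)
    simp only [Matrix.mulVec_mulVec, Matrix.mulVec_neg, hK.comm y hy b b.2, hby, Matrix.one_mulVec] at h1
    rw [orbitMap_apply, h1]
    simp [Matrix.neg_mulVec]
  subst hb
  rw [ZeroMemClass.coe_zero, Matrix.zero_mulVec, add_zero] at hab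
  exact Prod.ext (Subtype.ext (field_mulVec_eq_zero hK a.2 hv hab)) rfl

theorem twoOrbit_surjective (hK : IsFieldSubalgebra r K) (hn : Fintype.card ι = 2 * r) {v w : ι → F}
    (h : Function.Injective (twoOrbit K v w)) : Function.Surjective (twoOrbit K v w) :=
  (LinearMap.injective_iff_surjective_of_finrank_eq_finrank (by
    rw [Module.finrank_prod, Module.finrank_fintype_fun_eq_card, hn]
    show Module.finrank F K + Module.finrank F K = _
    rw [hK.finrank_eq]
    ring)).1 h

/-- The map with given values on a basis over the field. -/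
theorem exists_commutes (hK : IsFieldSubalgebra r K) (hn : Fintype.card ι = 2 * r) {v w : ι → F}
    (hinj : Function.Injective (twoOrbit K v w)) (p₁ q₁ p₂ q₂ : K) :
    ∃ M : Matrix ι ι F, Commutes K M ∧ M *ᵥ v = twoOrbit K v w (p₁, q₁) ∧ M *ᵥ w = twoOrbit K v w (p₂, q₂) := by
  let T : (K × K) →ₗ[F] (K × K) :=
    { toFun := fun z => (z.1 * p₁ + z.2 * p₂, z.1 * q₁ + z.2 * q₂)
      map_add' := fun x y => by simp only [Prod.fst_add, Prod.snd_add, Prod.mk_add_mk, add_mul]; abel_nf
      map_smul' := fun c x => by simp [smul_add] }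
  let E := LinearEquiv.ofBijective (twoOrbit K v w) ⟨hinj, twoOrbit_surjective hK hn hinj⟩
  refine ⟨LinearMap.toMatrix' (E.toLinearMap.comp (T.comp E.symm.toLinearMap)), fun k hk => ?_, ?_, ?_⟩
  · refine Matrix.toLin'.injective (LinearMap.ext fun z => ?_)
    obtain ⟨⟨a, b⟩, rfl⟩ := E.surjective z
    simp only [Matrix.toLin'_mul, Matrix.toLin'_toMatrix', LinearMap.comp_apply, LinearEquiv.coe_coe,
      LinearEquiv.symm_apply_apply]
    have e1 : ∀ a b : K, Matrix.toLin' k (E (a, b)) = E (⟨k, hk⟩ * a, ⟨k, hk⟩ * b) := fun a b => by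
      show k *ᵥ twoOrbit K v w (a, b) = twoOrbit K v w (_, _)
      simp only [twoOrbit_apply, Subalgebra.coe_mul, Matrix.mulVec_add, Matrix.mulVec_mulVec]
    rw [e1, LinearEquiv.symm_apply_apply]
    show E (⟨k, hk⟩ * a * p₁ + ⟨k, hk⟩ * b * p₂, ⟨k, hk⟩ * a * q₁ + ⟨k, hk⟩ * b * q₂) = Matrix.toLin' k (E (_, _))
    rw [e1]
    simp only [mul_add, mul_assoc]
  all_goals rw [← Matrix.toLin'_apply, Matrix.toLin'_toMatrix']
  · have e : E.symm v = (1, 0) := E.injective (by
      rw [LinearEquiv.apply_symm_apply]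
      show v = twoOrbit K v w (1, 0)
      simp [twoOrbit_apply])
    show E (T (E.symm v)) = twoOrbit K v w _
    rw [e]
    show twoOrbit K v w _ = twoOrbit K v w _
    simp [T]
  · have e : E.symm w = (0, 1) := E.injective (by
      rw [LinearEquiv.apply_symm_apply]
      show w = twoOrbit K v w (0, 1)
      simp [twoOrbit_apply])
    show E (T (E.symm w)) = twoOrbit K v w _
    rw [e]
    show twoOrbit K v w _ = twoOrbit K v w _
    simp [T]

theorem commutes_ext (hK : IsFieldSubalgebra r K) (hn : Fintype.card ι = 2 * r) {v w : ι → F}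
    (hinj : Function.Injective (twoOrbit K v w)) {M N : Matrix ι ι F} (hM : Commutes K M) (hN : Commutes K N)
    (h1 : M *ᵥ v = N *ᵥ v) (h2 : M *ᵥ w = N *ᵥ w) : M = N := by
  refine Matrix.toLin'.injective (LinearMap.ext fun z => ?_)
  obtain ⟨⟨a, b⟩, rfl⟩ := twoOrbit_surjective hK hn hinj z
  simp only [Matrix.toLin'_apply, twoOrbit_apply, Matrix.mulVec_add, Matrix.mulVec_mulVec, hM _ a.2, hM _ b.2,
    hN _ a.2, hN _ b.2]
  simp only [← Matrix.mulVec_mulVec, h1, h2]

theorem cj_commutes {H : Subgroup (GL ι F)} (hle : H ≤ subalgebraNormalizer K) {g : GL ι F} (hg : g ∈ H)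
    {M : Matrix ι ι F} (hM : Commutes K M) : Commutes K (cj g M) := fun k hk => by
  have h1 := hM _ (cj_mem_of_le hle (H.inv_mem hg) hk)
  have h2 := congrArg (cj g) h1
  rwa [map_mul, map_mul, cj_cj, mul_inv_cancel, cj_one] at h2

end setup

/-- A self-adjoint field of odd degree equal to half of the dimension. -/
theorem field_half (hQ : (polarBilin Q).Nondegenerate) {H : Subgroup (GL ι F)} (hH : H ≤ isometryGroup F ⇑Q)
    (hirr : Irred H) (hr : Odd r) (hn : Fintype.card ι = 2 * r) (hK : IsFieldSubalgebra r K)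
    (hsa : IsSelfAdjointFor (polar ⇑Q) K) (hle : H ≤ subalgebraNormalizer K) :
    (∃ D : Fin 2 → Submodule F (ι → F), IsMDecomposition r D ∧ (∀ i, IsTotallySingularQuad ⇑Q (D i)) ∧
      H ≤ decompositionStabilizer D) ∨
    ∃ L : Subalgebra F (Matrix ι ι F), IsFieldSubalgebra 2 L ∧ IsAdjointClosedFor (polar ⇑Q) L ∧
      ¬ IsSelfAdjointFor (polar ⇑Q) L ∧ H ≤ subalgebraNormalizer L := by
  classical
  haveI : Nonempty ι := Fintype.card_pos_iff.1 (by have := hr.pos; omega)
  letI : Field K := (isField_of_subalgebra hK).toField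
  haveI : Finite (Matrix ι ι F) := inferInstanceAs (Finite (ι → ι → F))
  haveI : Fintype K := Fintype.ofFinite K
  have hfK : Module.finrank F K = r := hK.finrank_eq
  have hodd : Odd (Module.finrank F K) := hfK.symm ▸ hr
  have halg : ∀ c : F, ((algebraMap F K c : K) : Matrix ι ι F) = c • 1 := fun c => Algebra.algebraMap_eq_smul_one c
  have hmove : ∀ (k : K) (x y : ι → F), polar Q ((k : Matrix ι ι F) *ᵥ x) y = polar Q x ((k : Matrix ι ι F) *ᵥ y) :=
    fun k => hsa k k.2
  let fn : (ι → F) → (ι → F) → (K →ₗ[F] F) := fun x y => ((polarBilin Q).flip y).comp (orbitMap K x)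
  have hfn : ∀ x y (k : K), fn x y k = polar Q ((k : Matrix ι ι F) *ᵥ x) y := fun x y k => rfl
  by_cases hS : ∃ v, v ≠ 0 ∧ ∀ k ∈ K, Q (k *ᵥ v) = 0
  · -- two singular lines over the field
    obtain ⟨v, hv0, hv⟩ := hS
    let L := LinearMap.range (orbitMap K v)
    by_cases hS2 : ∀ w, (∀ k ∈ K, Q (k *ᵥ w) = 0) → w ∈ L
    · exfalso
      have hinv : H ≤ subspaceStabilizer L := le_stab_of_map_le fun g hg => by
        rintro _ ⟨_, ⟨k, rfl⟩, rfl⟩
        refine hS2 _ fun l hl => ?_
        rw [Matrix.toLin'_apply, orbitMap_apply, ← cj_inv_cj g⁻¹ l, inv_inv, cj_mulVec, isom_apply (hH hg),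
          Matrix.mulVec_mulVec]
        exact hv _ (K.mul_mem (cj_mem_of_le hle (H.inv_mem hg) hl) k.2)
      have hd : Module.finrank F L = r := finrank_orbit hK hv0
      rcases hirr L hinv with e | e
      · rw [e, finrank_bot] at hd
        exact hr.pos.ne hd
      · rw [e, finrank_top, Module.finrank_fintype_fun_eq_card] at hd
        have := hr.pos
        omega
    push Not at hS2
    obtain ⟨w, hw, hwL⟩ := hS2
    left
    have hinj := twoOrbit_injective hK hv0 hwL
    have hw0 : w ≠ 0 := fun e => hwL (e ▸ L.zero_mem)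
    let M := LinearMap.range (orbitMap K w)
    have hsurj := twoOrbit_surjective hK hn hinj
    have hφ : fn v w ≠ 0 := fun h0 => by
      refine hv0 (hQ.1 v fun z => ?_)
      obtain ⟨⟨a, b⟩, rfl⟩ := hsurj z
      rw [polarBilin_apply_apply, twoOrbit_apply, polar_add_right, ← hmove, ← hmove]
      rw [show polar Q ((b : Matrix ι ι F) *ᵥ v) w = fn v w b from rfl, h0, LinearMap.zero_apply, add_zero]
      by_cases h2 : (2 : F) = 0
      · rw [show (a : Matrix ι ι F) *ᵥ v = (a : Matrix ι ι F) *ᵥ v + 0 by rw [add_zero], polar_add_left,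
          QuadraticMap.polar_zero_left, add_zero]
        exact polar_eq_zero_of_singular (W := LinearMap.range (orbitMap K v))
          (by rintro _ ⟨k, rfl⟩; exact hv _ k.2) ⟨a, rfl⟩ ⟨1, by simp [orbitMap_apply]⟩
      · exact polar_eq_zero_of_singular (W := LinearMap.range (orbitMap K v))
          (by rintro _ ⟨k, rfl⟩; exact hv _ k.2) ⟨a, rfl⟩ ⟨1, by simp [orbitMap_apply]⟩
    have key : ∀ z, (∀ k ∈ K, Q (k *ᵥ z) = 0) → z ∈ L ∨ z ∈ M := by
      intro z hz
      obtain ⟨⟨a, b⟩, rfl⟩ := hsurj z
      by_cases ha : a = 0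
      · exact Or.inr ⟨b, by simp [twoOrbit_apply, ha, orbitMap_apply]⟩
      by_cases hb : b = 0
      · exact Or.inl ⟨a, by simp [twoOrbit_apply, hb, orbitMap_apply]⟩
      exfalso
      have h1 : ∀ k : K, fn v w (k * k * (a * b)) = 0 := fun k => by
        have h := hz k k.2
        rw [twoOrbit_apply, Matrix.mulVec_add, map_add', Matrix.mulVec_mulVec, Matrix.mulVec_mulVec,
          hv _ (K.mul_mem k.2 a.2), hw _ (K.mul_mem k.2 b.2), zero_add, zero_add] at h
        rw [← h, hfn]
        rw [← hsa _ (K.mul_mem k.2 b.2), Matrix.mulVec_mulVec]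
        simp only [Subalgebra.coe_mul]
        congr 2
        have hcm : ∀ x y : K, (x : Matrix ι ι F) * y = (y : Matrix ι ι F) * x := fun x y => hK.comm _ x.2 _ y.2
        rw [mul_assoc (k : Matrix ι ι F), ← mul_assoc (k : Matrix ι ι F) (a : Matrix ι ι F),
          hcm (k * a) b |> fun e => (by simpa [Subalgebra.coe_mul] using e : (k : Matrix ι ι F) * a * b = b * ((k : Matrix ι ι F) * a))]
        simp only [mul_assoc]
      have h2' : ∀ k : K, fn v w (k * (a * b)) = 0 := fun k => by
        by_cases h2 : (2 : F) = 0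
        · haveI : CharP K 2 := CharTwo.of_one_ne_zero_of_two_eq_zero one_ne_zero (by
            rw [show (2 : K) = algebraMap F K 2 by rw [map_ofNat], h2, map_zero])
          obtain ⟨s, rfl⟩ := FiniteField.isSquare_of_char_two (ringChar.eq K 2) k
          exact h1 s
        · have e := h1 (k + 1)
          rw [show (k + 1) * (k + 1) * (a * b) = k * k * (a * b) + (k * (a * b) + k * (a * b)) + 1 * 1 * (a * b) by ring,
            map_add, map_add, map_add, h1, h1, zero_add, add_zero, ← two_mul] at e
          exact (mul_eq_zero.1 e).resolve_left h2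
      exact hφ (LinearMap.ext fun k => by
        have := h2' (k / (a * b))
        rwa [div_mul_cancel₀ _ (mul_ne_zero ha hb)] at this)
    let D : Fin 2 → Submodule F (ι → F) := ![L, M]
    have hdM : Disjoint L M := Submodule.disjoint_def.2 fun z hzL hzM => by
      obtain ⟨a, rfl⟩ := hzL
      obtain ⟨b, hb⟩ := hzM
      have : twoOrbit K v w (a, 0) = twoOrbit K v w (0, b) := by
        simp only [twoOrbit_apply, ZeroMemClass.coe_zero, Matrix.zero_mulVec, add_zero, zero_add]
        exact hb.symm
      rw [show a = 0 from congrArg Prod.fst (hinj this), map_zero]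
    refine ⟨D, ⟨le_rfl, hr.pos, fun i => by fin_cases i <;> exact finrank_orbit hK (by assumption), ?_, ?_⟩, ?_, ?_⟩
    · rw [iSupIndep_def]
      intro i
      fin_cases i
      · refine hdM.mono_right (iSup₂_le fun l hl => ?_)
        fin_cases l
        · exact absurd rfl hl
        · exact le_rfl
      · refine hdM.symm.mono_right (iSup₂_le fun l hl => ?_)
        fin_cases l
        · exact le_rfl
        · exact absurd rfl hl
    · refine eq_top_iff.2 fun z _ => ?_
      obtain ⟨⟨a, b⟩, rfl⟩ := hsurj z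
      rw [twoOrbit_apply]
      exact add_mem (Submodule.mem_iSup_of_mem (p := D) 0 ⟨a, rfl⟩) (Submodule.mem_iSup_of_mem (p := D) 1 ⟨b, rfl⟩)
    · intro i z hz
      fin_cases i <;> obtain ⟨k, rfl⟩ := hz
      · exact hv _ k.2
      · exact hw _ k.2
    · intro g hg
      have hginj : Function.Injective (Matrix.toLin' (g : Matrix ι ι F)) := fun u x hux => by
        have := congrArg ((↑g⁻¹ : Matrix ι ι F) *ᵥ ·) hux
        simpa [Matrix.toLin'_apply, Matrix.mulVec_mulVec] using this
      have himg : ∀ (u : ι → F), (∀ k ∈ K, Q (k *ᵥ u) = 0) → u ≠ 0 →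
          ∃ i, (LinearMap.range (orbitMap K u)).map (Matrix.toLin' (g : Matrix ι ι F)) = D i := by
        intro u hu hu0
        have hgu : ∀ k ∈ K, Q (k *ᵥ (g : Matrix ι ι F) *ᵥ u) = 0 := fun k hk => by
          rw [← cj_inv_cj g⁻¹ k, inv_inv, cj_mulVec, isom_apply (hH hg)]
          exact hu _ (cj_mem_of_le hle (H.inv_mem hg) hk)
        obtain ⟨i, hi⟩ : ∃ i, (g : Matrix ι ι F) *ᵥ u ∈ D i := by
          rcases key _ hgu with h | h
          exacts [⟨0, h⟩, ⟨1, h⟩]
        refine ⟨i, Submodule.eq_of_le_of_finrank_eq ?_ ?_⟩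
        · rintro _ ⟨_, ⟨k, rfl⟩, rfl⟩
          rw [Matrix.toLin'_apply, orbitMap_apply, Matrix.mulVec_mulVec,
            show (g : Matrix ι ι F) * (k : Matrix ι ι F) = cj g k * (g : Matrix ι ι F) by
              rw [cj_apply, mul_assoc, Units.inv_mul, mul_one], ← Matrix.mulVec_mulVec]
          fin_cases i <;> obtain ⟨l, hl⟩ := hi <;>
            exact ⟨⟨_, cj_mem_of_le hle hg k.2⟩ * l, by
              rw [orbitMap_apply, Subalgebra.coe_mul, ← Matrix.mulVec_mulVec]; rw [orbitMap_apply] at hl; rw [hl]⟩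
        · rw [← (Submodule.equivMapOfInjective _ hginj _).finrank_eq, finrank_orbit hK hu0]
          fin_cases i <;> exact (finrank_orbit hK (by assumption)).symm
      choose f hf using fun i : Fin 2 => himg (![v, w] i) (by fin_cases i <;> assumption) (by fin_cases i <;> assumption)
      have hD : ∀ i, D i = LinearMap.range (orbitMap K (![v, w] i)) := fun i => by fin_cases i <;> rfl
      have hfinj : Function.Injective f := fun i l hil => by
        by_contra hne
        have : D i = D l := by
          refine Submodule.map_injective_of_injective hginj ?_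
          rw [hD, hD, hf, hf, hil]
        have hLM : L = M := by
          fin_cases i <;> fin_cases l
          exacts [absurd rfl hne, this, this.symm, absurd rfl hne]
        exact hw0 (Submodule.disjoint_def.1 hdM w (hLM ▸ ⟨1, by simp [orbitMap_apply]⟩) ⟨1, by simp [orbitMap_apply]⟩)
      exact ⟨Equiv.ofBijective f (Finite.injective_iff_bijective.1 hfinj), fun i => by rw [hD, hf]; rfl⟩
  -- the anisotropic case
  push Not at hS
  right
  obtain ⟨v, hv0⟩ := exists_ne (0 : ι → F)
  by_cases h2 : (2 : F) = 0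
  · -- characteristic two
    obtain ⟨w, hwL⟩ : ∃ w, w ∉ LinearMap.range (orbitMap K v) := by
      by_contra hc
      push Not at hc
      have h1 := finrank_orbit hK hv0
      rw [Submodule.eq_top_iff'.2 hc, finrank_top, Module.finrank_fintype_fun_eq_card] at h1
      have := hr.pos
      omega
    have hinj := twoOrbit_injective hK hv0 hwL
    have hsurj := twoOrbit_surjective hK hn hinj
    have hK2 : (2 : K) = 0 := by rw [show (2 : K) = algebraMap F K 2 by rw [map_ofNat], h2, map_zero]
    haveI : CharP K 2 := CharTwo.of_one_ne_zero_of_two_eq_zero one_ne_zero hK2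
    haveI : CharP F 2 := CharTwo.of_one_ne_zero_of_two_eq_zero one_ne_zero h2
    have hsq : ∀ k : K, IsSquare k := fun k => FiniteField.isSquare_of_char_two (ringChar.eq K 2) k
    have hzero : ∀ (z : ι → F) (k : K), polar Q ((k : Matrix ι ι F) *ᵥ z) z = 0 := fun z k => by
      obtain ⟨s, rfl⟩ := hsq k
      rw [Subalgebra.coe_mul, ← Matrix.mulVec_mulVec, hmove, polar_self', h2, zero_mul]
    have hφ : fn v w ≠ 0 := fun h0 => by
      refine hv0 (hQ.1 v fun z => ?_)
      obtain ⟨⟨a, b⟩, rfl⟩ := hsurj z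
      rw [polarBilin_apply_apply, twoOrbit_apply, polar_add_right, ← hmove, ← hmove, hzero,
        ← hfn v w b, h0, LinearMap.zero_apply, add_zero]
    have hh : ∀ z, ∃ h : K, ∀ k : K, Q ((k : Matrix ι ι F) *ᵥ z) = fn v w (k * k * h) := by
      intro z
      choose s hs using hsq
      have hinj2 : ∀ x y : K, x * x = y * y → x = y := fun x y e => by
        rcases mul_self_eq_mul_self_iff.1 e with h | h
        · exact h
        · rw [h, CharTwo.neg_eq]
      have hs' : ∀ x y : K, x * x = y → s y = x := fun x y e => hinj2 _ _ ((hs y).symm.trans e.symm)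
      let ψ : K →ₗ[F] F :=
        { toFun := fun k => Q ((s k : Matrix ι ι F) *ᵥ z)
          map_add' := fun x y => by
            rw [hs' (s x + s y) (x + y) (by rw [CharTwo.add_mul_self, ← hs, ← hs]), Subalgebra.coe_add,
              Matrix.add_mulVec, map_add', hmove, Matrix.mulVec_mulVec, ← Subalgebra.coe_mul, polar_comm, hzero,
              add_zero]
          map_smul' := fun c x => by
            obtain ⟨d, hd⟩ : IsSquare c := FiniteField.isSquare_of_char_two (ringChar.eq F 2) c
            rw [hs' (d • s x) (c • x) (by rw [smul_mul_smul_comm, ← hs, ← hd]), RingHom.id_apply, smul_eq_mul, hd]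
            show Q ((d • (s x : Matrix ι ι F)) *ᵥ z) = _
            rw [Matrix.smul_mulVec, map_smul'] }
      obtain ⟨h, hh⟩ := exists_functional hK hφ ψ
      exact ⟨h, fun k => by rw [← hh]; show _ = Q ((s (k * k) : Matrix ι ι F) *ᵥ z); rw [hs' k (k * k) rfl]⟩
    obtain ⟨A, hA⟩ := hh v
    obtain ⟨C, hC⟩ := hh w
    have hQexp : ∀ a b : K, Q (twoOrbit K v w (a, b)) = fn v w (a * a * A + a * b + b * b * C) := fun a b => by
      rw [twoOrbit_apply, map_add', hA, hC, map_add, map_add, ← hmove, Matrix.mulVec_mulVec, ← Subalgebra.coe_mul,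
        mul_comm b a, ← hfn v w (a * b)]
      ring
    have hA0 : A ≠ 0 := fun e => by
      obtain ⟨k, hk, hne⟩ := hS v hv0
      exact hne (by rw [show k = ((⟨k, hk⟩ : K) : Matrix ι ι F) from rfl, hA, e, mul_zero, map_zero])
    have hAC : ∀ s : K, s * s + s ≠ A * C := fun s hs => by
      set z := twoOrbit K v w (s, A)
      have hz0 : z ≠ 0 := fun e => hA0 (congrArg Prod.snd (hinj (e.trans (map_zero _).symm)))
      obtain ⟨k, hk, hne⟩ := hS z hz0
      refine hne ?_
      rw [show k *ᵥ z = twoOrbit K v w (⟨k, hk⟩ * s, ⟨k, hk⟩ * A) by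
        simp only [z, twoOrbit_apply, Subalgebra.coe_mul, Matrix.mulVec_add, Matrix.mulVec_mulVec]]
      rw [hQexp, show (⟨k, hk⟩ : K) * s * (⟨k, hk⟩ * s) * A + ⟨k, hk⟩ * s * (⟨k, hk⟩ * A) +
        ⟨k, hk⟩ * A * (⟨k, hk⟩ * A) * C = ⟨k, hk⟩ * ⟨k, hk⟩ * A * (s * s + s + A * C) by ring, hs,
        CharTwo.add_self_eq_zero, mul_zero, map_zero]
    obtain ⟨e, he⟩ : ∃ e : F, ∀ x : F, x * x + x ≠ e := by
      by_contra hc
      push Not at hc
      have hinjF := Finite.injective_iff_surjective.2 (show Function.Surjective fun x : F => x * x + x from hc)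
      exact one_ne_zero (hinjF (a₁ := (1 : F)) (a₂ := 0) (by linear_combination h2))
    have he' : ∀ s : K, s * s + s ≠ algebraMap F K e := fun s hs => by
      refine quadratic_no_root (L := K) hodd (a := 1) (b := e) (fun x hx => he x ?_) s ?_
      · linear_combination hx + x * h2
      · rw [map_one, one_mul]; linear_combination hs - s * hK2
    -- the Artin–Schreier image has index two
    obtain ⟨α, hα⟩ : ∃ α : K, α * α + α = A * C + algebraMap F K e := by
      let P : K →+ K := AddMonoidHom.mk' (fun x => x * x + x) fun x y => by linear_combination x * y * hK2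
      by_contra hc
      push Not at hc
      have hker : Nat.card P.ker = 2 := by
        have : (P.ker : Set K) = {0, 1} := by
          ext x
          simp only [SetLike.mem_coe, AddMonoidHom.mem_ker, Set.mem_insert_iff, Set.mem_singleton_iff]
          show x * x + x = 0 ↔ _
          refine ⟨fun h => ?_, ?_⟩
          · rcases mul_eq_zero.1 (show x * (x + 1) = 0 by linear_combination h) with h | h
            · exact Or.inl h
            · exact Or.inr (by rw [← CharTwo.add_eq_zero]; exact h)
          · rintro (rfl | rfl)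
            · ring
            · linear_combination hK2
        rw [← SetLike.coe_sort_coe, this, Nat.card_coe_set_eq, Set.ncard_pair zero_ne_one]
      have hidx : P.range.index = 2 := by
        have h1 := P.range.card_mul_index
        have h3 := AddSubgroup.card_eq_card_quotient_mul_card_addSubgroup P.ker
        rw [Nat.card_congr (QuotientAddGroup.quotientKerEquivRange P).toEquiv, hker] at h3
        rw [h3] at h1
        exact Nat.eq_of_mul_eq_mul_left Nat.card_pos h1
      obtain ⟨α, hα⟩ : A * C + algebraMap F K e ∈ P.range :=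
        (AddSubgroup.add_mem_iff_of_index_two hidx).2 (iff_of_false (fun ⟨s, hs⟩ => hAC s hs) fun ⟨s, hs⟩ => he' s hs)
      exact hc α hα
    obtain ⟨j, hjc, hjv, hjw⟩ := exists_commutes hK hn hinj α A C (1 + α)
    have hjval : ∀ a b : K, j *ᵥ twoOrbit K v w (a, b) = twoOrbit K v w (a * α + b * C, a * A + b * (1 + α)) := by
      intro a b
      rw [twoOrbit_apply, Matrix.mulVec_add, Matrix.mulVec_mulVec, Matrix.mulVec_mulVec, hjc _ a.2, hjc _ b.2,
        ← Matrix.mulVec_mulVec, ← Matrix.mulVec_mulVec, hjv, hjw]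
      simp only [twoOrbit_apply, Subalgebra.coe_add, Subalgebra.coe_mul, Matrix.mulVec_add, Matrix.mulVec_mulVec,
        mul_add, Matrix.add_mulVec]
      abel
    have hpolar : ∀ a b a' b' : K, polar Q (twoOrbit K v w (a, b)) (twoOrbit K v w (a', b')) = fn v w (a * b' + b * a') := by
      intro a b a' b'
      rw [QuadraticMap.polar, ← map_add, Prod.mk_add_mk, hQexp, hQexp, hQexp, ← map_sub, ← map_sub]
      congr 1
      linear_combination (a * a' * A + b * b' * C) * hK2
    have hjq : ∀ z, Q z = polar Q (j *ᵥ z) z := fun z => by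
      obtain ⟨⟨a, b⟩, rfl⟩ := hsurj z
      rw [hjval, hpolar, hQexp]
      congr 1
      linear_combination (-(α * (a * b))) * hK2
    have hjj : j * j = j + e • 1 := by
      refine commutes_ext hK hn hinj (fun k hk => by rw [mul_assoc, hjc k hk, ← mul_assoc, hjc k hk, mul_assoc]) ?_ ?_ ?_
      · intro k hk
        rw [add_mul, mul_add, hjc k hk, Matrix.smul_mul, Matrix.mul_smul, one_mul, mul_one]
      · have ev : v = twoOrbit K v w (1, 0) := by simp [twoOrbit_apply]
        have hs : (e • (1 : Matrix ι ι F)) *ᵥ twoOrbit K v w (1, 0) = twoOrbit K v w (algebraMap F K e, 0) := by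
          simp [twoOrbit_apply, Matrix.smul_mulVec, Algebra.algebraMap_eq_smul_one]
        conv_lhs => rw [ev]
        conv_rhs => rw [ev]
        rw [← Matrix.mulVec_mulVec, hjval, hjval, Matrix.add_mulVec, hjval, hs, ← map_add]
        congr 1
        refine Prod.ext ?_ ?_ <;> simp
        · linear_combination hα + (A * C - α) * hK2
        · linear_combination (A * α) * hK2
      · have ev : w = twoOrbit K v w (0, 1) := by simp [twoOrbit_apply]
        have hs : (e • (1 : Matrix ι ι F)) *ᵥ twoOrbit K v w (0, 1) = twoOrbit K v w (0, algebraMap F K e) := by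
          simp [twoOrbit_apply, Matrix.smul_mulVec, Algebra.algebraMap_eq_smul_one]
        conv_lhs => rw [ev]
        conv_rhs => rw [ev]
        rw [← Matrix.mulVec_mulVec, hjval, hjval, Matrix.add_mulVec, hjval, hs, ← map_add]
        congr 1
        refine Prod.ext ?_ ?_ <;> simp
        · linear_combination (C * α) * hK2
        · linear_combination hα + (A * C) * hK2
    have hneg : ∀ M : Matrix ι ι F, -M = M := fun M => by
      rw [neg_eq_iff_add_eq_zero, ← two_smul F M, h2, zero_smul]
    refine field_of_quadratic hQ (a := 1) (b := e) (by rw [one_smul]; exact hjj)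
      (fun x hx => he x (by linear_combination hx + x * h2)) (fun x y => ?_) (fun hh' => ?_) fun g hg => ?_
    · have h1 := hjq (x + y)
      rw [map_add', hjq x, hjq y, Matrix.mulVec_add, polar_add_left, polar_add_right, polar_add_right] at h1
      rw [one_smul, Matrix.sub_mulVec, Matrix.one_mulVec, polar_sub_right, polar_comm Q x (j *ᵥ y)]
      linear_combination -h1
    · rw [one_smul, sub_eq_add_neg, hneg, eq_comm, add_eq_right] at hh'
      exact one_ne_zero hh'
    · have hcm := cj_commutes hle hg hjc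
      have hDz : ∀ z, polar Q ((cj g j - j) *ᵥ z) z = 0 := fun z => by
        obtain ⟨u, rfl⟩ : ∃ u, z = (g : Matrix ι ι F) *ᵥ u :=
          ⟨(↑g⁻¹ : Matrix ι ι F) *ᵥ z, by rw [Matrix.mulVec_mulVec, Units.mul_inv, Matrix.one_mulVec]⟩
        rw [Matrix.sub_mulVec, polar_sub_left, cj_isom (hH hg), ← hjq, ← hjq, isom_apply (hH hg), sub_self]
      set D := cj g j - j with hDdef
      have hDc : Commutes K D := fun k hk => by rw [hDdef, sub_mul, mul_sub, hcm k hk, hjc k hk]
      obtain ⟨⟨p, q⟩, hpq⟩ := hsurj (D *ᵥ v)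
      obtain ⟨⟨p', q'⟩, hpq'⟩ := hsurj (D *ᵥ w)
      have hDab : ∀ a b : K, D *ᵥ twoOrbit K v w (a, b) = twoOrbit K v w (a * p + b * p', a * q + b * q') := fun a b => by
        rw [twoOrbit_apply, Matrix.mulVec_add, Matrix.mulVec_mulVec, Matrix.mulVec_mulVec, hDc _ a.2, hDc _ b.2,
          ← Matrix.mulVec_mulVec, ← Matrix.mulVec_mulVec, ← hpq, ← hpq']
        simp only [twoOrbit_apply, Subalgebra.coe_add, Subalgebra.coe_mul, Matrix.mulVec_add, Matrix.mulVec_mulVec,
          Matrix.add_mulVec]
        abel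
      have hsol : ∀ a b : K, ∀ k : K, fn v w (k * k * (a * a * q + a * b * (p + q') + b * b * p')) = 0 := fun a b k => by
        have h := hDz (twoOrbit K v w (k * a, k * b))
        rw [hDab, hpolar] at h
        rw [← h]
        congr 1
        ring
      have hzero' : ∀ x : K, (∀ k : K, fn v w (k * k * x) = 0) → x = 0 := fun x hx => by
        by_contra hx0
        refine hφ (LinearMap.ext fun k => ?_)
        obtain ⟨s, hs⟩ := hsq (k / x)
        have := hx s
        rwa [← hs, div_mul_cancel₀ _ hx0] at this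
      have hq : q = 0 := by have := hzero' _ (hsol 1 0); linear_combination this
      have hp' : p' = 0 := by have := hzero' _ (hsol 0 1); linear_combination this
      have hpq2 : q' = p := by
        have := hzero' _ (hsol 1 1)
        rw [hq, hp'] at this
        linear_combination this - p * hK2
      have hD : D = (p : Matrix ι ι F) := by
        refine commutes_ext hK hn hinj hDc (fun k hk => hK.comm _ p.2 k hk) ?_ ?_
        · rw [← hpq, hq]; simp [twoOrbit_apply]
        · rw [← hpq', hp', hpq2]; simp [twoOrbit_apply]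
      have h1 := congrArg (cj g) hjj
      rw [map_mul, map_add, map_smul, map_one] at h1
      have he1 : cj g j = j + D := by rw [hDdef]; abel
      rw [he1, hD, add_mul, mul_add, mul_add, hjc p p.2, hjj] at h1
      have h3 : (p : Matrix ι ι F) * p = p := by
        have h4 : ((p : Matrix ι ι F) * j + (p : Matrix ι ι F) * j) = 0 := by
          rw [← two_smul F, h2, zero_smul]
        linear_combination (norm := abel) h1 - h4
      have hp01 : p = 0 ∨ p = 1 := by
        have h4 : p * p = p := Subtype.ext h3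
        rcases mul_eq_zero.1 (show p * (p - 1) = 0 by linear_combination h4) with h | h
        exacts [Or.inl h, Or.inr (sub_eq_zero.1 h)]
      rcases hp01 with h | h
      · exact Or.inl (by rw [he1, hD, h]; simp)
      · exact Or.inr (by rw [he1, hD, h, one_smul, sub_eq_add_neg, hneg]; simp [add_comm])
  -- odd characteristic
  have hK2 : (2 : K) ≠ 0 := by
    rw [show (2 : K) = algebraMap F K 2 by rw [map_ofNat]]
    exact (map_ne_zero_iff _ (algebraMap F K).injective).2 h2
  have hφv : ∀ z : ι → F, z ≠ 0 → fn z z ≠ 0 := fun z hz h0 => by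
    obtain ⟨k, hk, hne⟩ := hS z hz
    refine hne ((mul_eq_zero.1 (show (2 : F) * Q (k *ᵥ z) = 0 from ?_)).resolve_left h2)
    rw [← polar_self', ← hsa k hk, Matrix.mulVec_mulVec]
    exact LinearMap.congr_fun h0 ⟨k * k, K.mul_mem hk hk⟩
  let Lp : Submodule F (ι → F) :=
    { carrier := {z | fn v z = 0}
      add_mem' := fun {a b} ha hb => LinearMap.ext fun k => by
        rw [hfn, polar_add_right, ← hfn, ← hfn, ha, hb]; simp
      zero_mem' := LinearMap.ext fun k => by rw [hfn, QuadraticMap.polar_zero_right]; rfl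
      smul_mem' := fun c a ha => LinearMap.ext fun k => by rw [hfn, polar_smul_right', ← hfn, ha]; simp }
  obtain ⟨w, hw, hw0⟩ : ∃ w ∈ Lp, w ≠ 0 := by
    let Θ : (ι → F) →ₗ[F] Module.Dual F K :=
      { toFun := fun z => fn v z
        map_add' := fun a b => LinearMap.ext fun k => by rw [hfn, polar_add_right]; rfl
        map_smul' := fun c a => LinearMap.ext fun k => by rw [hfn, polar_smul_right']; rfl }
    by_contra hc
    push Not at hc
    have h1 := LinearMap.finrank_le_finrank_of_injective ((injective_iff_map_eq_zero Θ).2 fun z hz => hc z hz)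
    rw [Subspace.dual_finrank_eq, hfK, Module.finrank_fintype_fun_eq_card, hn] at h1
    have := hr.pos
    omega
  have hperp : ∀ k : K, polar Q ((k : Matrix ι ι F) *ᵥ v) w = 0 := fun k => LinearMap.congr_fun hw k
  have hwL : w ∉ LinearMap.range (orbitMap K v) := fun ⟨k, hk⟩ => by
    refine hφv w hw0 (LinearMap.ext fun l => ?_)
    rw [hfn]
    conv_lhs => arg 2; rw [← hk, orbitMap_apply, Matrix.mulVec_mulVec]
    exact hperp (l * k)
  have hinj := twoOrbit_injective hK hv0 hwL
  have hsurj := twoOrbit_surjective hK hn hinj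
  obtain ⟨d, hd⟩ := exists_functional hK (hφv v hv0) (-(fn w w))
  have hd' : ∀ k : K, fn w w k = -fn v v (k * d) := fun k => by
    rw [← hd, LinearMap.neg_apply, neg_neg]
  have hd0 : d ≠ 0 := fun e => hφv w hw0 (LinearMap.ext fun k => by rw [hd', e, mul_zero, map_zero, neg_zero]; rfl)
  have hexp : ∀ a b a' b' : K,
      polar Q (twoOrbit K v w (a, b)) (twoOrbit K v w (a', b')) = fn v v (a * a' - b * b' * d) := by
    intro a b a' b'
    have hcm : ∀ x y : K, (x : Matrix ι ι F) * y = (y : Matrix ι ι F) * x := fun x y => hK.comm _ x.2 _ y.2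
    have e : ∀ (x y : K) (z z' : ι → F),
        polar Q ((x : Matrix ι ι F) *ᵥ z) ((y : Matrix ι ι F) *ᵥ z') = fn z z' (x * y) := fun x y z z' => by
      rw [← hmove y, Matrix.mulVec_mulVec, hcm y x, hfn, Subalgebra.coe_mul]
    rw [twoOrbit_apply, twoOrbit_apply, polar_add_left, polar_add_right, polar_add_right, e, e,
      polar_comm Q _ ((a' : Matrix ι ι F) *ᵥ v), e, e, hfn v w, hfn v w, hperp, hperp, hd', map_sub]
    ring
  have hdns : ¬ IsSquare d := fun ⟨s, hs⟩ => by
    have hz0 : twoOrbit K v w (s, 1) ≠ 0 := fun e =>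
      one_ne_zero (congrArg Prod.snd (hinj (e.trans (map_zero _).symm)) : (1 : K) = 0)
    refine hφv _ hz0 (LinearMap.ext fun k => ?_)
    have e : (k : Matrix ι ι F) *ᵥ twoOrbit K v w (s, 1) = twoOrbit K v w (k * s, k * 1) := by
      simp only [twoOrbit_apply, Subalgebra.coe_mul, Matrix.mulVec_add, Matrix.mulVec_mulVec]
    rw [hfn, e, hexp, hs, show k * s * s - k * 1 * 1 * (s * s) = (0 : K) by ring, map_zero, LinearMap.zero_apply]
  have hchar : ringChar F ≠ 2 := fun hc => h2 (by
    have := ringChar.Nat.cast_ringChar (R := F)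
    rw [hc] at this
    exact_mod_cast this)
  obtain ⟨e, he⟩ := FiniteField.exists_nonsquare (F := F) hchar
  have he' : ¬ IsSquare (algebraMap F K e) := fun ⟨y, hy⟩ => by
    refine quadratic_no_root (L := K) hodd (a := 0) (b := e) (fun x hx => he ⟨x, ?_⟩) y ?_
    · rw [hx, zero_mul, zero_add]
    · rw [map_zero, zero_mul, zero_add]; exact hy.symm
  obtain ⟨c, hc⟩ : ∃ c : K, c * c * d = algebraMap F K e := by
    obtain ⟨s, hs⟩ := CfsgLib.Geometry.isSquare_mul_of_not he' hdns
    exact ⟨s / d, by field_simp; rw [_root_.sq, ← hs]; ring⟩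
  obtain ⟨j, hjc, hjv, hjw⟩ := exists_commutes hK hn hinj 0 c (c * d) 0
  have hval : ∀ (M : Matrix ι ι F), Commutes K M → ∀ p q p' q' : K, M *ᵥ v = twoOrbit K v w (p, q) →
      M *ᵥ w = twoOrbit K v w (p', q') → ∀ a b : K,
        M *ᵥ twoOrbit K v w (a, b) = twoOrbit K v w (a * p + b * p', a * q + b * q') := by
    intro M hM p q p' q' hv' hw' a b
    rw [twoOrbit_apply, Matrix.mulVec_add, Matrix.mulVec_mulVec, Matrix.mulVec_mulVec, hM _ a.2, hM _ b.2,
      ← Matrix.mulVec_mulVec, ← Matrix.mulVec_mulVec, hv', hw']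
    simp only [twoOrbit_apply, Subalgebra.coe_add, Subalgebra.coe_mul, Matrix.mulVec_add, Matrix.mulVec_mulVec,
      Matrix.add_mulVec]
    abel
  have hjval := hval j hjc _ _ _ _ hjv hjw
  have hv1 : v = twoOrbit K v w (1, 0) := by simp [twoOrbit_apply]
  have hw1 : w = twoOrbit K v w (0, 1) := by simp [twoOrbit_apply]
  have hscal : ∀ a b : K, (e • (1 : Matrix ι ι F)) *ᵥ twoOrbit K v w (a, b)
      = twoOrbit K v w (algebraMap F K e * a, algebraMap F K e * b) := fun a b => by
    rw [Matrix.smul_mulVec, Matrix.one_mulVec, ← map_smul, Prod.smul_mk, Algebra.smul_def, Algebra.smul_def]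
  have hjj : j * j = e • 1 := by
    refine commutes_ext hK hn hinj (fun k hk => by rw [mul_assoc, hjc k hk, ← mul_assoc, hjc k hk, mul_assoc])
      (fun k hk => by rw [Matrix.smul_mul, Matrix.mul_smul, one_mul, mul_one]) ?_ ?_
    · conv_lhs => rw [hv1]
      conv_rhs => rw [hv1]
      rw [← Matrix.mulVec_mulVec, hjval, hjval, hscal]
      congr 1
      refine Prod.ext ?_ ?_ <;> simp only
      · linear_combination hc
      · ring
    · conv_lhs => rw [hw1]
      conv_rhs => rw [hw1]
      rw [← Matrix.mulVec_mulVec, hjval, hjval, hscal]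
      congr 1
      refine Prod.ext ?_ ?_ <;> simp only
      · ring
      · linear_combination hc
  have hskew : ∀ x y, polar Q (j *ᵥ x) y = -polar Q x (j *ᵥ y) := fun x y => by
    obtain ⟨⟨a, b⟩, rfl⟩ := hsurj x
    obtain ⟨⟨a', b'⟩, rfl⟩ := hsurj y
    rw [hjval, hjval, hexp, hexp, ← map_neg]
    congr 1
    ring
  refine field_of_quadratic hQ (a := 0) (b := e) (by rw [hjj, zero_smul, zero_add])
    (fun x hx => he ⟨x, by rw [hx, zero_mul, zero_add]⟩) (fun x y => ?_) (fun hh => ?_) fun g hg => ?_
  · rw [zero_smul, zero_sub, Matrix.neg_mulVec, QuadraticMap.polar_neg_right, hskew]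
  · rw [zero_smul, zero_sub, eq_neg_iff_add_eq_zero, ← two_smul F, smul_eq_zero] at hh
    have hj0 := hh.resolve_left h2
    rw [hj0, mul_zero] at hjj
    refine he ⟨0, ?_⟩
    rcases smul_eq_zero.1 hjj.symm with h | h
    · rw [h, mul_zero]
    · exact absurd h one_ne_zero
  · have hDc : Commutes K (cj g j) := cj_commutes hle hg hjc
    have hDskew : ∀ x y, polar Q (cj g j *ᵥ x) y = -polar Q x (cj g j *ᵥ y) := by
      have hsur : ∀ z : ι → F, ∃ u, z = (g : Matrix ι ι F) *ᵥ u := fun z =>
        ⟨(↑g⁻¹ : Matrix ι ι F) *ᵥ z, by rw [Matrix.mulVec_mulVec, Units.mul_inv, Matrix.one_mulVec]⟩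
      intro x y
      obtain ⟨x, rfl⟩ := hsur x
      obtain ⟨y, rfl⟩ := hsur y
      rw [cj_isom (hH hg), polar_comm Q ((g : Matrix ι ι F) *ᵥ x), cj_isom (hH hg), hskew, polar_comm]
    have hDD := congrArg (cj g) hjj
    rw [map_mul, map_smul, map_one] at hDD
    obtain ⟨⟨p, q⟩, hpq⟩ := hsurj (cj g j *ᵥ v)
    obtain ⟨⟨p', q'⟩, hpq'⟩ := hsurj (cj g j *ᵥ w)
    have hDab := hval _ hDc _ _ _ _ hpq.symm hpq'.symm
    have hsep : ∀ x : K, (∀ k : K, fn v v (k * x) = 0) → x = 0 := fun x hx => by
      by_contra hx0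
      refine hφv v hv0 (LinearMap.ext fun k => ?_)
      have := hx (k / x)
      rwa [div_mul_cancel₀ _ hx0] at this
    have hsk : ∀ a b a' b' : K, fn v v ((a * p + b * p') * a' - (a * q + b * q') * b' * d
        + (a * (a' * p + b' * p') - b * (a' * q + b' * q') * d)) = 0 := fun a b a' b' => by
      have h := hDskew (twoOrbit K v w (a, b)) (twoOrbit K v w (a', b'))
      rw [hDab, hDab, hexp, hexp, ← add_eq_zero_iff_eq_neg, ← map_add] at h
      exact h
    have hp : p = 0 := by
      refine (mul_eq_zero.1 (show (2 : K) * p = 0 from hsep _ fun k => ?_)).resolve_left hK2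
      rw [← hsk k 0 1 0]
      congr 1
      ring
    have hq' : q' = 0 := by
      refine (mul_eq_zero.1 (show (2 : K) * d * q' = 0 from hsep _ fun k => ?_)).resolve_left (mul_ne_zero hK2 hd0)
      rw [← neg_eq_zero, ← map_neg, ← hsk 0 k 0 1]
      congr 1
      ring
    have hp'q : p' = q * d := by
      refine sub_eq_zero.1 (hsep _ fun k => ?_)
      rw [← hsk k 0 0 1]
      congr 1
      ring
    have hqq : q * q * d = c * c * d := by
      rw [hc]
      have h := congrArg (· *ᵥ twoOrbit K v w (1, 0)) hDD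
      rw [← Matrix.mulVec_mulVec, hDab, hDab, hscal] at h
      have h1 := congrArg Prod.fst (hinj h)
      rw [hp, hp'q] at h1
      linear_combination h1
    rcases mul_self_eq_mul_self_iff.1 (mul_right_cancel₀ hd0 hqq) with hqc | hqc
    · refine Or.inl (commutes_ext hK hn hinj hDc hjc ?_ ?_)
      · rw [← hpq, hjv, hp, hqc]
      · rw [← hpq', hjw, hp'q, hq', hqc]
    · refine Or.inr ?_
      rw [zero_smul, zero_sub]
      refine commutes_ext hK hn hinj hDc (fun k hk => by rw [neg_mul, mul_neg, hjc k hk]) ?_ ?_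
      · rw [← hpq, Matrix.neg_mulVec, hjv, ← map_neg, hp, hqc]; simp
      · rw [← hpq', Matrix.neg_mulVec, hjw, ← map_neg, hp'q, hq', hqc]; simp

end CfsgLib.AschbacherOrth
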