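import Cfsg.Agent.Lib.Aschbacher.Tensor
import Cfsg.Agent.Lib.AschbacherForm.Kron

/-!
# Isometries of determinant one of the determinant form on two by two matrices

They are the Kronecker products of two matrices.
-/

set_option autoImplicit false
set_option linter.unusedSectionVars false
set_option linter.style.show false
set_option linter.flexible false

namespace CfsgLib.AschbacherOrth

open Cfsg Cfsg.Geo CfsgLib.Aschbacher
open scoped Matrix MatrixGroups Kronecker

universe u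
variable {F : Type u} [Field F]

/-- A two by two matrix as a vector. -/
def vec2 (X : Matrix (Fin 2) (Fin 2) F) : Fin 2 × Fin 2 → F := fun p => X p.1 p.2

/-- A vector as a two by two matrix. -/
def mat2 (v : Fin 2 × Fin 2 → F) : Matrix (Fin 2) (Fin 2) F := Matrix.of fun i j => v (i, j)

theorem mat2_vec2 (X : Matrix (Fin 2) (Fin 2) F) : mat2 (vec2 X) = X := rfl

theorem vec2_mat2 (v : Fin 2 × Fin 2 → F) : vec2 (mat2 v) = v := rfl

theorem kron_vec2 (A B X : Matrix (Fin 2) (Fin 2) F) : (A ⊗ₖ B) *ᵥ vec2 X = vec2 (A * X * Bᵀ) := by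
  funext ⟨i, j⟩
  simp [vec2, Matrix.mulVec, dotProduct, Fintype.sum_prod_type, Fin.sum_univ_two, Matrix.mul_apply]
  ring

theorem det_kron2 (A B : Matrix (Fin 2) (Fin 2) F) : (A ⊗ₖ B).det = (A.det * B.det) ^ 2 := by
  rw [Matrix.det_kronecker, Fintype.card_fin, mul_pow]

/-- The determinant as a quadratic form on vectors. -/
def det2 (v : Fin 2 × Fin 2 → F) : F := (mat2 v).det

theorem det2_form (v : Fin 2 × Fin 2 → F) :
    formOfGram (RingEquiv.refl F) (omega2 F ⊗ₖ omega2 F) v v = 2 * det2 v := by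
  simp [formOfGram, det2, mat2, omega2, Matrix.det_fin_two, Fintype.sum_prod_type, Fin.sum_univ_two]
  ring

/-- The vectors of a map fixing the identity and an idempotent. -/
theorem four_normal (h2 : (2 : F) ≠ 0) (M : Matrix (Fin 2 × Fin 2) (Fin 2 × Fin 2) F)
    (hM : ∀ v, det2 (M *ᵥ v) = det2 v) (hdet : M.det = 1) (h1 : M *ᵥ vec2 1 = vec2 1)
    (hE : M *ᵥ vec2 !![1, 0; 0, 0] = vec2 !![1, 0; 0, 0]) :
    ∃ b c : F, b * c = 1 ∧ ∀ X : Matrix (Fin 2) (Fin 2) F,
      M *ᵥ vec2 X = vec2 (!![b, 0; 0, 1] * X * !![c, 0; 0, 1]) := by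
  set e := vec2 (!![0, 1; 0, 0] : Matrix (Fin 2) (Fin 2) F) with he
  set f := vec2 (!![0, 0; 1, 0] : Matrix (Fin 2) (Fin 2) F) with hf
  set d := vec2 (!![1, 0; 0, 0] : Matrix (Fin 2) (Fin 2) F) with hd
  have hdecomp : ∀ v : Fin 2 × Fin 2 → F,
      v = (v (0, 0) - v (1, 1)) • d + v (0, 1) • e + v (1, 0) • f + v (1, 1) • vec2 1 := fun v => by
    funext ⟨i, j⟩
    fin_cases i <;> fin_cases j <;> simp [d, e, f, vec2, Matrix.one_apply]
  have hlin : ∀ v : Fin 2 × Fin 2 → F,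
      M *ᵥ v = (v (0, 0) - v (1, 1)) • d + v (0, 1) • (M *ᵥ e) + v (1, 0) • (M *ᵥ f) + v (1, 1) • vec2 1 := fun v => by
    conv_lhs => rw [hdecomp v]
    simp only [Matrix.mulVec_add, Matrix.mulVec_smul, h1, hE, d]
  have he0 : det2 (M *ᵥ e) = 0 := by rw [hM]; simp [e, det2, mat2, vec2, Matrix.det_fin_two]
  have hf0 : det2 (M *ᵥ f) = 0 := by rw [hM]; simp [f, det2, mat2, vec2, Matrix.det_fin_two]
  have hed : det2 (M *ᵥ e + d) = 0 := by
    rw [← hE, ← Matrix.mulVec_add, hM]; simp [e, d, det2, mat2, vec2, Matrix.det_fin_two]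
  have hfd : det2 (M *ᵥ f + d) = 0 := by
    rw [← hE, ← Matrix.mulVec_add, hM]; simp [f, d, det2, mat2, vec2, Matrix.det_fin_two]
  have he1 : det2 (M *ᵥ e + vec2 1) = 1 := by
    rw [← h1, ← Matrix.mulVec_add, hM]; simp [e, det2, mat2, vec2, Matrix.det_fin_two]
  have hf1 : det2 (M *ᵥ f + vec2 1) = 1 := by
    rw [← h1, ← Matrix.mulVec_add, hM]; simp [f, det2, mat2, vec2, Matrix.det_fin_two]
  have hef : det2 (M *ᵥ e + M *ᵥ f) = -1 := by
    rw [← Matrix.mulVec_add, hM]; simp [e, f, det2, mat2, vec2, Matrix.det_fin_two]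
  set N := M *ᵥ e
  set R := M *ᵥ f
  simp [det2, mat2, vec2, d, Matrix.det_fin_two] at he0 hf0 hed hfd he1 hf1 hef
  have hN11 : N (1, 1) = 0 := by linear_combination hed - he0
  have hR11 : R (1, 1) = 0 := by linear_combination hfd - hf0
  have hN00 : N (0, 0) = 0 := by linear_combination he1 - he0 - hN11
  have hR00 : R (0, 0) = 0 := by linear_combination hf1 - hf0 - hR11
  rw [hN00, hR00, hN11, hR11] at hef
  rw [hN00, hN11] at he0
  rw [hR00, hR11] at hf0
  have hN : N (0, 1) * N (1, 0) = 0 := by linear_combination -he0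
  have hR : R (0, 1) * R (1, 0) = 0 := by linear_combination -hf0
  rcases mul_eq_zero.1 hN with hN0 | hN0
  · -- the transpose type has determinant minus one
    exfalso
    have hR0 : R (1, 0) = 0 := by
      rcases mul_eq_zero.1 hR with h | h
      · exfalso
        rw [hN0, h] at hef
        exact one_ne_zero (α := F) (by linear_combination hef)
      · exact h
    have hbc : R (0, 1) * N (1, 0) = 1 := by rw [hN0, hR0] at hef; linear_combination -hef
    have hMv : M = Matrix.diagonal (fun p : Fin 2 × Fin 2 => if p = (0, 1) then R (0, 1) else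
          if p = (1, 0) then N (1, 0) else 1) *
        ((Equiv.prodComm (Fin 2) (Fin 2)).toPEquiv.toMatrix : Matrix (Fin 2 × Fin 2) (Fin 2 × Fin 2) F) := by
      refine Matrix.ext_of_mulVec_single fun p => ?_
      rw [hlin, ← Matrix.mulVec_mulVec]
      funext ⟨i, j⟩
      obtain ⟨k, l⟩ := p
      fin_cases i <;> fin_cases j <;> fin_cases k <;> fin_cases l <;>
        simp [d, vec2, Matrix.mulVec, dotProduct, Fintype.sum_prod_type, Fin.sum_univ_two, PEquiv.toMatrix_apply,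
          hN00, hN11, hR00, hR11, hN0, hR0]
    rw [hMv, Matrix.det_mul, Matrix.det_diagonal, Matrix.det_permutation,
      show Equiv.Perm.sign (Equiv.prodComm (Fin 2) (Fin 2)) = -1 by decide] at hdet
    simp [Fintype.prod_prod_type, Fin.prod_univ_two, hbc] at hdet
    exact h2 (by linear_combination -hdet)
  · have hR0 : R (0, 1) = 0 := by
      rcases mul_eq_zero.1 hR with h | h
      · exact h
      · exfalso
        rw [hN0, h] at hef
        exact one_ne_zero (α := F) (by linear_combination hef)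
    have hbc : N (0, 1) * R (1, 0) = 1 := by rw [hN0, hR0] at hef; linear_combination -hef
    refine ⟨N (0, 1), R (1, 0), hbc, fun X => ?_⟩
    rw [hlin]
    funext ⟨i, j⟩
    have hX00 : X 0 0 = N (0, 1) * X 0 0 * R (1, 0) := by linear_combination (-(X 0 0)) * hbc
    fin_cases i <;> fin_cases j <;>
      simp [d, vec2, Matrix.mul_apply, Fin.sum_univ_two, Matrix.vecMul, dotProduct, hN00, hN11, hR00, hR11, hN0, hR0]
    · linear_combination hX00
    all_goals ring

/-- An isometry of determinant one is a Kronecker product. -/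
theorem four_square (h2 : (2 : F) ≠ 0) (B : Matrix (Fin 2 × Fin 2) (Fin 2 × Fin 2) F)
    (hB : Bᵀ * (omega2 F ⊗ₖ omega2 F) * B = omega2 F ⊗ₖ omega2 F) (hdet : B.det = 1) :
    ∃ A₁ A₂ : GL (Fin 2) F, B = (A₁ : Matrix (Fin 2) (Fin 2) F) ⊗ₖ (A₂ : Matrix (Fin 2) (Fin 2) F) := by
  have hM : ∀ v, det2 (B *ᵥ v) = det2 v := fun v => by
    refine mul_left_cancel₀ h2 ?_
    rw [← det2_form, ← det2_form, formOfGram_mulVec,
      show B.map (RingEquiv.refl F) = B from Matrix.map_id _, hB]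
  set U := mat2 (B *ᵥ vec2 1) with hUdef
  have hU : U.det = 1 := by
    rw [show U.det = det2 (B *ᵥ vec2 1) from rfl, hM, det2, mat2_vec2, Matrix.det_one]
  set M₁ := (U.adjugate ⊗ₖ (1 : Matrix (Fin 2) (Fin 2) F)) * B with hM₁
  have hadj : U.adjugate.det = 1 := by rw [Matrix.det_adjugate, hU, one_pow]
  have h11 : M₁ *ᵥ vec2 1 = vec2 1 := by
    rw [hM₁, ← Matrix.mulVec_mulVec, ← vec2_mat2 (B *ᵥ vec2 1), kron_vec2, Matrix.transpose_one, mul_one, ← hUdef,
      Matrix.adjugate_mul, hU, one_smul]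
  have hkey : ∀ (A C : Matrix (Fin 2) (Fin 2) F), A.det * C.det = 1 → ∀ v, det2 ((A ⊗ₖ C) *ᵥ v) = det2 v :=
    fun A C hAC v => by
      rw [← vec2_mat2 v, kron_vec2]
      simp only [det2, mat2_vec2, Matrix.det_mul, Matrix.det_transpose]
      linear_combination (mat2 v).det * hAC
  have hM₁' : ∀ v, det2 (M₁ *ᵥ v) = det2 v := fun v => by
    rw [hM₁, ← Matrix.mulVec_mulVec, hkey _ _ (by rw [hadj, Matrix.det_one, mul_one]), hM]
  -- the image of an idempotent
  set E := mat2 (M₁ *ᵥ vec2 !![1, 0; 0, 0]) with hEdef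
  have hEd : E.det = 0 := by
    rw [show E.det = det2 (M₁ *ᵥ vec2 !![1, 0; 0, 0]) from rfl, hM₁']
    simp [det2, mat2_vec2, Matrix.det_fin_two]
  have hEt : E 0 0 + E 1 1 = 1 := by
    have h := hM₁' (vec2 !![1, 0; 0, 0] + vec2 1)
    rw [Matrix.mulVec_add, h11] at h
    have hEd' := hEd
    simp only [hEdef, det2, mat2, vec2, Matrix.det_fin_two, Matrix.of_apply, Pi.add_apply] at h hEd' ⊢
    simp [Matrix.one_apply] at h hEd' ⊢
    linear_combination h - hEd'
  have hEd2 : E 0 0 * E 1 1 - E 0 1 * E 1 0 = 0 := by rw [← Matrix.det_fin_two]; exact hEd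
  have hEE : E * E = E := by
    ext i j
    fin_cases i <;> fin_cases j <;> simp [Matrix.mul_apply, Fin.sum_univ_two]
    · linear_combination (E 0 0) * hEt - hEd2
    · linear_combination (E 0 1) * hEt
    · linear_combination (E 1 0) * hEt
    · linear_combination (E 1 1) * hEt - hEd2
  obtain ⟨j, hj⟩ : ∃ j, E *ᵥ Pi.single j 1 ≠ 0 := by
    by_contra hc
    push Not at hc
    have h0 : E = 0 := Matrix.ext_of_mulVec_single fun j => by rw [hc j, Matrix.zero_mulVec]
    rw [h0] at hEt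
    simp at hEt
  obtain ⟨l, hl⟩ : ∃ l, (1 - E) *ᵥ Pi.single l 1 ≠ 0 := by
    by_contra hc
    push Not at hc
    have h0 : E = 1 := (sub_eq_zero.1 (Matrix.ext_of_mulVec_single fun l => by rw [hc l, Matrix.zero_mulVec])).symm
    rw [h0] at hEd
    simp at hEd
  set v := E *ᵥ Pi.single j 1 with hv
  set w := (1 - E) *ᵥ Pi.single l 1 with hw
  have hEv : E *ᵥ v = v := by rw [hv, Matrix.mulVec_mulVec, hEE]
  have hEw : E *ᵥ w = 0 := by rw [hw, Matrix.mulVec_mulVec, mul_sub, mul_one, hEE, sub_self, Matrix.zero_mulVec]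
  obtain ⟨P, hP⟩ : ∃ P : Matrix (Fin 2) (Fin 2) F, P = !![v 0, w 0; v 1, w 1] := ⟨_, rfl⟩
  have hPz : ∀ z : Fin 2 → F, P *ᵥ z = z 0 • v + z 1 • w := fun z => by
    funext i
    fin_cases i <;> simp [hP, Matrix.mulVec, dotProduct, Fin.sum_univ_two] <;> ring
  have hPdet : P.det ≠ 0 := fun h0 => by
    obtain ⟨z, hz0, hz⟩ := Matrix.exists_mulVec_eq_zero_iff.2 h0
    rw [hPz] at hz
    have h1 := congrArg (E *ᵥ ·) hz
    simp only [Matrix.mulVec_add, Matrix.mulVec_smul, hEv, hEw, smul_zero, add_zero, Matrix.mulVec_zero] at h1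
    rw [h1, zero_add] at hz
    refine hz0 (funext fun i => ?_)
    fin_cases i
    exacts [(smul_eq_zero.1 h1).resolve_right hj, (smul_eq_zero.1 hz).resolve_right hl]
  have hEP : E * P = P * !![1, 0; 0, 0] := Matrix.ext_of_mulVec_single fun i => by
    rw [← Matrix.mulVec_mulVec, ← Matrix.mulVec_mulVec, hPz, hPz]
    fin_cases i <;> simp [Matrix.mulVec_add, Matrix.mulVec_smul, hEv, hEw]
  obtain ⟨P, rfl⟩ : ∃ g : GL (Fin 2) F, (g : Matrix (Fin 2) (Fin 2) F) = P :=
    ⟨((Matrix.isUnit_iff_isUnit_det _).2 (Ne.isUnit hPdet)).unit, rfl⟩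
  set M₂ := ((↑P⁻¹ : Matrix (Fin 2) (Fin 2) F) ⊗ₖ ((P : Matrix (Fin 2) (Fin 2) F))ᵀ) * M₁ *
    ((1 : Matrix (Fin 2) (Fin 2) F) ⊗ₖ (1 : Matrix (Fin 2) (Fin 2) F)) with hM₂
  have hPP : (↑P⁻¹ : Matrix (Fin 2) (Fin 2) F).det * (P : Matrix (Fin 2) (Fin 2) F).det = 1 := by
    rw [← Matrix.det_mul, Units.inv_mul, Matrix.det_one]
  have hM₂' : ∀ z, M₂ *ᵥ z = vec2 ((↑P⁻¹ : Matrix (Fin 2) (Fin 2) F) * mat2 (M₁ *ᵥ z) * (P : Matrix (Fin 2) (Fin 2) F)) := fun z => by
    rw [hM₂, Matrix.one_kronecker_one, mul_one, ← Matrix.mulVec_mulVec, ← vec2_mat2 (M₁ *ᵥ z), kron_vec2,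
      Matrix.transpose_transpose, vec2_mat2]
  obtain ⟨b, c, hbc, hX⟩ := four_normal h2 M₂ (fun z => by
      rw [hM₂, Matrix.one_kronecker_one, mul_one, ← Matrix.mulVec_mulVec,
        hkey _ _ (by rw [Matrix.det_transpose]; exact hPP), hM₁'])
    (by
      rw [hM₂, Matrix.one_kronecker_one, mul_one, Matrix.det_mul, det_kron2, Matrix.det_transpose, hPP, hM₁,
        Matrix.det_mul, det_kron2, hadj, Matrix.det_one, hdet]
      norm_num)
    (by rw [hM₂', h11, mat2_vec2, mul_one, Units.inv_mul])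
    (by rw [hM₂', ← hEdef, mul_assoc, hEP, ← mul_assoc, Units.inv_mul, one_mul])
  set L : Matrix (Fin 2) (Fin 2) F := U * (P : Matrix (Fin 2) (Fin 2) F) * !![b, 0; 0, 1]
  set R : Matrix (Fin 2) (Fin 2) F := !![c, 0; 0, 1] * (↑P⁻¹ : Matrix (Fin 2) (Fin 2) F)
  have hL : L.det ≠ 0 := by
    simp only [L, Matrix.det_mul, hU, one_mul]
    refine mul_ne_zero hPdet ?_
    simp [Matrix.det_fin_two, left_ne_zero_of_mul_eq_one hbc]
  have hR : Rᵀ.det ≠ 0 := by
    rw [Matrix.det_transpose]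
    simp only [R, Matrix.det_mul]
    refine mul_ne_zero ?_ (left_ne_zero_of_mul_eq_one hPP)
    simp [Matrix.det_fin_two, right_ne_zero_of_mul_eq_one hbc]
  refine ⟨((Matrix.isUnit_iff_isUnit_det _).2 (Ne.isUnit hL)).unit,
    ((Matrix.isUnit_iff_isUnit_det _).2 (Ne.isUnit hR)).unit, ?_⟩
  refine Matrix.ext_of_mulVec_single fun p => ?_
  generalize (Pi.single p (1 : F) : Fin 2 × Fin 2 → F) = z
  simp only [IsUnit.unit_spec]
  have h := congrArg mat2 ((hM₂' z).symm.trans (vec2_mat2 z ▸ hX (mat2 z)))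
  rw [mat2_vec2, mat2_vec2, hM₁, ← Matrix.mulVec_mulVec, ← vec2_mat2 (B *ᵥ z), kron_vec2, mat2_vec2,
    Matrix.transpose_one, mul_one] at h
  have h' := congrArg (fun X => U * (P : Matrix (Fin 2) (Fin 2) F) * X * (↑P⁻¹ : Matrix (Fin 2) (Fin 2) F)) h
  simp only [mul_assoc, Units.mul_inv, mul_one, Units.mul_inv_cancel_left] at h'
  rw [← mul_assoc U U.adjugate, Matrix.mul_adjugate, hU, one_smul, one_mul] at h'
  obtain ⟨Z, rfl⟩ : ∃ Z, z = vec2 Z := ⟨mat2 z, (vec2_mat2 z).symm⟩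
  rw [← vec2_mat2 (B *ᵥ vec2 Z), kron_vec2, Matrix.transpose_transpose, h', mat2_vec2]
  simp only [L, R, mul_assoc]

end CfsgLib.AschbacherOrth
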