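import Cfsg.Agent.Lib.AschbacherForm.SympMain
import Cfsg.Agent.Lib.AschbacherOrth.Classes
import Cfsg.Agent.Lib.AschbacherOrth.Halves
import Cfsg.Agent.Lib.Geometry.FormTypes

/-!
# The almost simple case and subfield structures for orthogonal groups
-/

set_option autoImplicit false
set_option linter.unusedSectionVars false
set_option linter.style.haveILetI false
set_option linter.unusedSimpArgs false
set_option linter.style.show false

namespace CfsgLib.AschbacherOrth

open QuadraticMap Cfsg Cfsg.Geo CfsgLib.Geometry CfsgLib.Aschbacher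
open CfsgLib.AschbacherForm (SimpleData Rat' IsSim)
open scoped Matrix MatrixGroups

universe u
variable {F : Type u} [Field F] [Fintype F] {ι : Type} [Fintype ι] [DecidableEq ι]
variable {Q : QuadraticForm F (ι → F)}

/-- A subfield of prime index, with a rational multiple of the form, containing the group up to scalars. -/
def SubfieldCase (Q : QuadraticForm F (ι → F)) (H : Subgroup (GL ι F)) : Prop :=
  ∃ (F₁ : Subfield F) (r : ℕ) (B : GL ι F) (ζ : F), r.Prime ∧ Fintype.card F = Nat.card F₁ ^ r ∧ ζ ≠ 0 ∧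
    IsQuadFormRationalStructure (fun v : ι → F => ζ * Q v) F₁ B ∧ H ≤ subfieldSubgroup F₁ B

theorem rat_mulVec {F₁ : Subfield F} {M : Matrix ι ι F} (hM : Rat' F₁ M) {u : ι → F} (hu : ∀ i, u i ∈ F₁) :
    ∀ i, (M *ᵥ u) i ∈ F₁ := fun i =>
  F₁.sum_mem fun j _ => F₁.mul_mem (hM i j) (hu j)

/-- In characteristic two the values of a rational form are rational as soon as its polar form is. -/
theorem rational_values (h2 : (2 : F) = 0) (hι : 2 ≤ Fintype.card ι) {P : Subgroup (GL ι F)}
    (hP : ActsIrreducibly (matrixSet P)) (hPQ : P ≤ isometryGroup F ⇑Q) {F₁ : Subfield F} {B : GL ι F} {ζ : F}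
    (hrat : ∀ x ∈ P, Rat' F₁ (((B⁻¹ * x * B : GL ι F)) : Matrix ι ι F))
    (hpol : ∀ u v : ι → F, (∀ i, u i ∈ F₁) → (∀ i, v i ∈ F₁) →
      ζ * polar Q ((B : Matrix ι ι F) *ᵥ u) ((B : Matrix ι ι F) *ᵥ v) ∈ F₁) :
    IsQuadFormRationalStructure (fun v : ι → F => ζ * Q v) F₁ B := by
  classical
  intro u hu
  show ζ * Q ((B : Matrix ι ι F) *ᵥ u) ∈ F₁
  have h21 : (2 : F₁) = 0 := Subtype.ext h2
  let emb : (ι → F₁) →ₗ[F₁] (ι → F) :=
    { toFun := fun w i => (w i : F)
      map_add' := fun _ _ => rfl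
      map_smul' := fun _ _ => rfl }
  obtain ⟨π, hπ⟩ := (Algebra.linearMap F₁ F).exists_leftInverse_of_injective
    (LinearMap.ker_eq_bot.2 (algebraMap F₁ F).injective)
  have hπ1 : ∀ y : F₁, π (y : F) = y := fun y => LinearMap.congr_fun hπ y
  let q : (ι → F₁) → F := fun w => ζ * Q ((B : Matrix ι ι F) *ᵥ emb w)
  have hqsmul : ∀ (c : F₁) w, q (c • w) = ((c * c : F₁) : F) * q w := fun c w => by
    show ζ * Q ((B : Matrix ι ι F) *ᵥ emb (c • w)) = _
    rw [map_smul, show c • emb w = (c : F) • emb w from rfl, Matrix.mulVec_smul, map_smul', Subfield.coe_mul]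
    ring
  -- a linear functional killing the subfield is zero on the values
  let S : Set (Matrix ι ι F₁) := {s | ∃ x ∈ P, s.map F₁.subtype = (((B⁻¹ * x * B : GL ι F)) : Matrix ι ι F)}
  have hS : ActsIrreducibly S := by
    intro W hW
    let W' : Submodule F (ι → F) := Submodule.span F ((fun w => (B : Matrix ι ι F) *ᵥ emb w) '' (W : Set (ι → F₁)))
    have hinv : ∀ x ∈ P, ∀ v ∈ W', (x : Matrix ι ι F) *ᵥ v ∈ W' := by
      intro x hx v hv
      induction hv using Submodule.span_induction with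
      | mem v hv =>
        obtain ⟨w, hw, rfl⟩ := hv
        refine Submodule.subset_span ⟨(show Matrix ι ι F₁ from fun i j => ⟨_, hrat x hx i j⟩) *ᵥ w, ?_, ?_⟩
        · exact hW _ ⟨x, hx, rfl⟩ ⟨w, hw, rfl⟩
        · show (B : Matrix ι ι F) *ᵥ emb _ = _
          rw [show emb ((show Matrix ι ι F₁ from fun i j => ⟨_, hrat x hx i j⟩) *ᵥ w) =
            ((B⁻¹ * x * B : GL ι F) : Matrix ι ι F) *ᵥ emb w from funext fun i => by
              show ((∑ j, _ : F₁) : F) = _
              rw [AddSubmonoidClass.coe_finsetSum]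
              rfl]
          rw [Matrix.mulVec_mulVec, Matrix.mulVec_mulVec, ← Units.val_mul, ← Units.val_mul,
            show B * (B⁻¹ * x * B) = x * B by group]
      | zero => rw [Matrix.mulVec_zero]; exact zero_mem _
      | add a b _ _ ha hb => rw [Matrix.mulVec_add]; exact add_mem ha hb
      | smul c a _ ha => rw [Matrix.mulVec_smul]; exact Submodule.smul_mem _ c ha
    rcases irred_out hP W' (fun s hs v hv => by obtain ⟨x, hx, rfl⟩ := hs; exact hinv x hx v hv) with h0 | h0
    · left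
      refine (Submodule.eq_bot_iff _).2 fun w hw => ?_
      have h1 : (B : Matrix ι ι F) *ᵥ emb w ∈ W' := Submodule.subset_span ⟨w, hw, rfl⟩
      rw [h0, Submodule.mem_bot] at h1
      have h3 := congrArg ((↑B⁻¹ : Matrix ι ι F) *ᵥ ·) h1
      simp only [Matrix.mulVec_mulVec, Units.inv_mul, Matrix.one_mulVec, Matrix.mulVec_zero] at h3
      exact funext fun i => Subtype.ext (congrFun h3 i)
    · right
      refine Submodule.eq_top_of_finrank_eq (le_antisymm (Submodule.finrank_le _) ?_)
      let b := Module.finBasis F₁ W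
      have hle : W' ≤ Submodule.span F (Set.range fun i => (B : Matrix ι ι F) *ᵥ emb (b i : ι → F₁)) :=
        Submodule.span_le.2 (by
          rintro _ ⟨w, hw, rfl⟩
          have e1 : emb w = ∑ i, (b.repr ⟨w, hw⟩ i) • emb (b i : ι → F₁) := by
            conv_lhs => rw [show w = ((⟨w, hw⟩ : W) : ι → F₁) from rfl, ← b.sum_repr ⟨w, hw⟩]
            rw [Submodule.coe_sum, map_sum]
            exact Finset.sum_congr rfl fun i _ => by rw [Submodule.coe_smul, map_smul]
          simp only [SetLike.mem_coe, e1, Matrix.mulVec_sum]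
          refine Submodule.sum_mem _ fun i _ => ?_
          rw [show (b.repr ⟨w, hw⟩ i) • emb (b i : ι → F₁) = ((b.repr ⟨w, hw⟩ i : F₁) : F) • emb (b i : ι → F₁) from rfl,
            Matrix.mulVec_smul]
          exact Submodule.smul_mem _ _ (Submodule.subset_span ⟨i, rfl⟩))
      have h1 := Submodule.finrank_mono hle
      have h3 := finrank_range_le_card (R := F) fun i => (B : Matrix ι ι F) *ᵥ emb (b i : ι → F₁)
      rw [h0, finrank_top, Module.finrank_fintype_fun_eq_card] at h1
      rw [Module.finrank_fintype_fun_eq_card]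
      simp only [Set.finrank, Fintype.card_fin] at h3
      omega
  have hD : ∀ l : F →ₗ[F₁] F₁, (∀ y : F₁, l (y : F) = 0) → ∀ w, l (q w) = 0 := by
    intro l hl w
    refine AschbacherForm.semilinear_vanishes h21 hι hS (fun w => l (q w)) (fun a b => ?_) (fun c a => ?_) ?_ w
    · have e1 : q (a + b) = q a + q b + ζ * polar Q ((B : Matrix ι ι F) *ᵥ emb a) ((B : Matrix ι ι F) *ᵥ emb b) := by
        show ζ * Q ((B : Matrix ι ι F) *ᵥ emb (a + b)) = _
        rw [map_add, Matrix.mulVec_add, map_add']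
        ring
      have e2 := hl ⟨_, hpol (emb a) (emb b) (fun i => (a i).2) fun i => (b i).2⟩
      rw [e1, map_add, map_add, e2, add_zero]
    · rw [hqsmul, show ((c * c : F₁) : F) * q a = (c * c : F₁) • q a from rfl, map_smul, smul_eq_mul]
    · rintro s ⟨x, hx, hs⟩ v hv
      rw [← hv]
      congr 1
      show ζ * Q ((B : Matrix ι ι F) *ᵥ emb (s *ᵥ v)) = ζ * Q ((B : Matrix ι ι F) *ᵥ emb v)
      rw [show emb (s *ᵥ v) = (s.map F₁.subtype) *ᵥ emb v from funext fun i => by
        show ((∑ j, _ : F₁) : F) = _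
        rw [AddSubmonoidClass.coe_finsetSum]
        rfl, hs, Matrix.mulVec_mulVec, ← Units.val_mul, show B * (B⁻¹ * x * B) = x * B by group, Units.val_mul,
        ← Matrix.mulVec_mulVec, isom_apply (hPQ hx)]
  -- project away from the subfield
  let κ : F →ₗ[F₁] F := LinearMap.id - (Algebra.linearMap F₁ F).comp π
  set w0 : ι → F₁ := fun i => ⟨u i, hu i⟩
  set y := ζ * Q ((B : Matrix ι ι F) *ᵥ u)
  have hy : q w0 = y := rfl
  have hκ : κ y = 0 := by
    refine Module.Basis.ext_elem (Module.finBasis F₁ F) fun i => ?_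
    rw [map_zero, Finsupp.coe_zero, Pi.zero_apply]
    have := hD (((Module.finBasis F₁ F).coord i).comp κ) (fun z => by
      rw [LinearMap.comp_apply, show κ (z : F) = 0 from sub_eq_zero.2 (congrArg Subtype.val (hπ1 z)).symm, map_zero]) w0
    rw [hy] at this
    exact this
  have : y = ((π y : F₁) : F) := sub_eq_zero.1 hκ
  rw [this]
  exact (π y).2

/-- An absolutely irreducible normal subgroup realisable over a subfield gives the fifth class. -/
theorem subfield_case (hι : 2 ≤ Fintype.card ι) (hQ : (polarBilin Q).Nondegenerate) {G P : Subgroup (GL ι F)}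
    (hP : ActsAbsolutelyIrreducibly (matrixSet P)) (hPQ : P ≤ isometryGroup F ⇑Q)
    (hG : ∀ g ∈ G, ∀ x ∈ P, g * x * g⁻¹ ∈ P) {F₀ : Subfield F} (hF : F₀ ≠ ⊤)
    (hr : RealisableOver F₀ (matrixSet P)) : SubfieldCase Q G := by
  classical
  haveI : Nonempty ι := Fintype.card_pos_iff.1 (by omega)
  obtain ⟨J, hJ⟩ := exists_geom hQ
  have hμ : ∀ x ∈ P, ∃ μ ∈ F₀, IsSim (RingEquiv.refl F) (J : Matrix ι ι F) (x : Matrix ι ι F) μ := fun x hx =>
    ⟨1, F₀.one_mem, (hJ.isSim_iff _ _).2 fun u v => by rw [one_mul]; exact isom_polar (hPQ hx) u v⟩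
  obtain ⟨F₁, r, B, ζ, hr', hcard, hζ, hle, hrat, hPrat⟩ :=
    AschbacherForm.subfield_data hP hG (RingEquiv.refl F) J hF hr hμ
  have hform := AschbacherForm.formRational_of_rat hJ hrat
  refine ⟨F₁, r, B, ζ, hr', by rw [← Nat.card_eq_fintype_card]; exact hcard, hζ, ?_, hle⟩
  by_cases h2 : (2 : F) = 0
  · exact rational_values h2 hι hP.1 hPQ hPrat fun u v hu hv => hform u v hu hv
  · intro u hu
    have h1 := hform u u hu hu
    rw [polar_self'] at h1
    have h3 : (2 : F) ∈ F₁ := by rw [← one_add_one_eq_two]; exact F₁.add_mem F₁.one_mem F₁.one_mem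
    have h4 := F₁.mul_mem (F₁.inv_mem h3) h1
    rwa [show (2 : F)⁻¹ * (ζ * (2 * Q ((B : Matrix ι ι F) *ᵥ u))) = ζ * Q ((B : Matrix ι ι F) *ᵥ u) by
      field_simp] at h4

/-- The almost simple case. -/
theorem simple_case (hι : 2 ≤ Fintype.card ι) (hQ : (polarBilin Q).Nondegenerate) {H P : Subgroup (GL ι F)}
    (hH : H ≤ isometryGroup F ⇑Q) (h : SimpleData (H ⊔ scalars ι F) P) :
    InOrthogonalResidualClass H ∨ SubfieldCase Q H := by
  classical
  haveI : Nonempty ι := Fintype.card_pos_iff.1 (by omega)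
  obtain ⟨J, hJ⟩ := exists_geom hQ
  have hPQ : P ≤ isometryGroup F ⇑Q := h.le'.trans hH
  have hnorm : ∀ g ∈ H, ∀ x ∈ P, g * x * g⁻¹ ∈ P := fun g hg => h.normal g (Subgroup.mem_sup_left hg)
  by_cases hsub : ∃ F₀ : Subfield F, F₀ ≠ ⊤ ∧ RealisableOver F₀ (matrixSet P)
  · obtain ⟨F₀, hF₀, hreal⟩ := hsub
    exact Or.inr (subfield_case hι hQ h.absIrred hPQ hnorm hF₀ hreal)
  push Not at hsub
  refine Or.inl ⟨P, h.core hsub, ?_⟩
  rintro ⟨σ, g, hg, hfix⟩
  have he := unitary_eq_gram hg
  have hU := isUnit_of_nondeg σ (he ▸ hg.nondegenerate)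
  refine hsub _ (AschbacherForm.fixField_ne_top hg.ne_refl)
    (AschbacherForm.realisable_of_two_forms h.absIrred hg.ne_refl hg.involutive J hU.unit
      (fun x hx => ?_) fun x hx => ?_)
  · have := (hJ.isSim_iff _ 1).2 fun u v => by rw [one_mul]; exact isom_polar (hPQ hx) u v
    rw [IsSim, one_smul] at this
    exact this
  · rw [IsUnit.unit_spec]
    refine gram_inj σ fun u v => ?_
    rw [← formOfGram_mulVec, ← he]
    exact hfix _ (val_mem_matrixSet hx) u v

theorem subfieldSubgroup_scale (F₁ : Subfield F) (B : GL ι F) (c : Fˣ) :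
    subfieldSubgroup F₁ (B * sc c) = subfieldSubgroup F₁ B := by
  have h1 : (MulAut.conj (B * sc c) : GL ι F ≃* GL ι F).toMonoidHom = (MulAut.conj B).toMonoidHom := by
    ext g : 1
    show B * sc c * g * (B * sc c)⁻¹ = B * g * B⁻¹
    rw [mul_inv_rev, mul_assoc B (sc c) g, sc_comm c g]
    group
  unfold subfieldSubgroup
  rw [h1]

/-- In odd dimension the multiplier of a subfield structure can be removed. -/
theorem SubfieldCase.strong {H : Subgroup (GL ι F)} (h : SubfieldCase Q H) (_h2 : (2 : F) ≠ 0)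
    (hodd : Odd (Fintype.card ι)) (hQ : (polarBilin Q).Nondegenerate)
    (hstd : ∀ (F₁ : Subfield F) (u : ι → F), (∀ i, u i ∈ F₁) → Q u ∈ F₁) :
    ∃ (F₁ : Subfield F) (r : ℕ) (B : GL ι F), r.Prime ∧ Fintype.card F = Nat.card F₁ ^ r ∧
      IsQuadFormRationalStructure ⇑Q F₁ B ∧ H ≤ subfieldSubgroup F₁ B := by
  classical
  obtain ⟨F₁, r, B, ζ, hr, hcard, hζ, hrat, hle⟩ := h
  obtain ⟨k, hk⟩ := hodd
  obtain ⟨J, hJ⟩ := exists_geom hQ
  have hJrat : Rat' F₁ (J : Matrix ι ι F) := fun i j => by
    have he : (J : Matrix ι ι F) i j = polar Q (Pi.single i 1) (Pi.single j 1) := by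
      rw [hJ.eq_gram, formOfGram_single]
    have hs : ∀ i : ι, ∀ l, (Pi.single i (1 : F) : ι → F) l ∈ F₁ := fun i l => by
      rw [Pi.single_apply]; split_ifs
      exacts [F₁.one_mem, F₁.zero_mem]
    rw [he, QuadraticMap.polar]
    exact F₁.sub_mem (F₁.sub_mem (hstd F₁ _ fun l => by rw [Pi.add_apply]; exact F₁.add_mem (hs i l) (hs j l))
      (hstd F₁ _ (hs i))) (hstd F₁ _ (hs j))
  have hGrat : Rat' F₁ (ζ • ((B : Matrix ι ι F)ᵀ * (J : Matrix ι ι F) * (B : Matrix ι ι F))) := fun i j => by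
    have hs : ∀ i : ι, ∀ l, (Pi.single i (1 : F) : ι → F) l ∈ F₁ := fun i l => by
      rw [Pi.single_apply]; split_ifs
      exacts [F₁.one_mem, F₁.zero_mem]
    have h1 : ζ * polar Q ((B : Matrix ι ι F) *ᵥ Pi.single i 1) ((B : Matrix ι ι F) *ᵥ Pi.single j 1) ∈ F₁ := by
      rw [QuadraticMap.polar, ← Matrix.mulVec_add, mul_sub, mul_sub]
      exact F₁.sub_mem (F₁.sub_mem (hrat _ fun l => by rw [Pi.add_apply]; exact F₁.add_mem (hs i l) (hs j l))
        (hrat _ (hs i))) (hrat _ (hs j))
    rw [hJ.eq_gram, formOfGram_mulVec, formOfGram_single] at h1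
    show ζ * (((B : Matrix ι ι F)ᵀ * (J : Matrix ι ι F) * (B : Matrix ι ι F)) i j) ∈ F₁
    convert h1 using 3
    try simp
  have hdet : ∀ M : Matrix ι ι F, Rat' F₁ M → M.det ∈ F₁ := fun M hM => by
    rw [Matrix.det_apply']
    exact F₁.sum_mem fun σ _ => F₁.mul_mem (intCast_mem F₁ _) (F₁.prod_mem fun i _ => hM _ _)
  have hd := hdet _ hGrat
  rw [Matrix.det_smul, Matrix.det_mul, Matrix.det_mul, Matrix.det_transpose] at hd
  have hJ0 : (J : Matrix ι ι F).det ≠ 0 := ((Matrix.isUnit_iff_isUnit_det _).1 J.isUnit).ne_zero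
  have hB0 : (B : Matrix ι ι F).det ≠ 0 := ((Matrix.isUnit_iff_isUnit_det _).1 B.isUnit).ne_zero
  set w := ζ ^ k * (B : Matrix ι ι F).det
  have hw : w ≠ 0 := mul_ne_zero (pow_ne_zero _ hζ) hB0
  set z := ζ * (w * w)
  have hz : z ∈ F₁ := by
    have := F₁.mul_mem hd (F₁.inv_mem (hdet _ hJrat))
    convert this using 1
    simp only [z, w, hk]
    rw [pow_succ, pow_mul]
    field_simp
    ring
  have hz0 : z ≠ 0 := mul_ne_zero hζ (mul_ne_zero hw hw)
  refine ⟨F₁, r, B * sc (Units.mk0 w hw)⁻¹, hr, hcard, fun u hu => ?_, (subfieldSubgroup_scale F₁ B _).symm ▸ hle⟩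
  have h1 := F₁.mul_mem (hrat u hu) (F₁.inv_mem hz)
  rw [Units.val_mul, sc_val, Units.val_inv_eq_inv_val, Units.val_mk0, Matrix.mul_smul, mul_one, Matrix.smul_mulVec,
    map_smul']
  convert h1 using 1
  simp only [z]
  field_simp

theorem isSquare_quadratic_extension {F₁ : Subfield F} (hcard : Fintype.card F = Nat.card F₁ ^ 2)
    (h2 : (2 : F) ≠ 0) {x : F} (hx : x ∈ F₁) : IsSquare x := by
  rcases eq_or_ne x 0 with rfl | hx0
  · exact IsSquare.zero
  have hch : ringChar F ≠ 2 := fun h => h2 (by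
    haveI := ringChar.of_eq h
    exact CharP.cast_eq_zero F 2)
  rw [FiniteField.isSquare_iff hch hx0, hcard]
  have hq1 : 1 < Nat.card F₁ := Finite.one_lt_card
  have hpow : x ^ (Nat.card F₁ - 1) = 1 := by
    have h := (AschbacherForm.mem_subfield_iff F₁).1 hx
    refine mul_left_cancel₀ hx0 ?_
    rw [← pow_succ', Nat.sub_add_cancel hq1.le, h, mul_one]
  have hodd : Odd (Nat.card F₁) := by
    have hF : Fintype.card F % 2 = 1 := FiniteField.odd_card_of_char_ne_two hch
    rw [hcard] at hF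
    exact (Nat.odd_pow_iff two_ne_zero).1 (Nat.odd_iff.2 hF)
  obtain ⟨c, hc⟩ := hodd
  have : Nat.card F₁ ^ 2 / 2 = (Nat.card F₁ - 1) * (c + 1) := by
    rw [hc, Nat.add_sub_cancel]
    have : (2 * c + 1) ^ 2 = 2 * (2 * c * (c + 1)) + 1 := by ring
    omega
  rw [this, pow_mul, hpow, one_pow]

/-- A binary form over a subfield of index two has a root. -/
theorem exists_root_quadratic_extension {F₁ : Subfield F} (hcard : Fintype.card F = Nat.card F₁ ^ 2) {a b : F}
    (ha : a ∈ F₁) (hb : b ∈ F₁) : ∃ t : F, t * t + a * t + b = 0 := by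
  classical
  let K := AlgebraicClosure F
  let ι' := algebraMap F K
  obtain ⟨θ, hθ⟩ : ∃ θ : K, θ * θ + ι' a * θ + ι' b = 0 := by
    obtain ⟨θ, hθ⟩ := IsAlgClosed.exists_root (k := K) (Polynomial.X ^ 2 + Polynomial.C (ι' a) * Polynomial.X + Polynomial.C (ι' b)) (by
      rw [add_assoc, Polynomial.degree_add_eq_left_of_degree_lt] <;> rw [Polynomial.degree_X_pow]
      · exact two_ne_zero
      · exact lt_of_le_of_lt (Polynomial.degree_add_le _ _) (max_lt
          (lt_of_le_of_lt (Polynomial.degree_C_mul_X_le _) (by norm_num)) (lt_of_le_of_lt Polynomial.degree_C_le (by norm_num))))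
    exact ⟨θ, by simpa [Polynomial.IsRoot, pow_two] using hθ⟩
  obtain ⟨p, hp⟩ := CharP.exists F
  haveI : Fact p.Prime := ⟨CharP.char_is_prime F p⟩
  haveI : CharP K p := charP_of_injective_algebraMap ι'.injective p
  haveI := Fintype.ofFinite F₁
  haveI : CharP F₁ p := charP_of_injective_algebraMap (R := F₁) (A := F) (algebraMap F₁ F).injective p |> fun _ =>
    (RingHom.charP F₁.subtype F₁.subtype.injective p)
  obtain ⟨e, -, he⟩ := FiniteField.card F₁ p
  set q₁ := Nat.card F₁
  have hq₁ : q₁ = p ^ (e : ℕ) := by rw [← he, ← Nat.card_eq_fintype_card]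
  have hfrob : ∀ x y : K, (x + y) ^ q₁ = x ^ q₁ + y ^ q₁ := fun x y => by rw [hq₁]; exact add_pow_char_pow x y p _
  have hfix : ∀ x ∈ F₁, ι' x ^ q₁ = ι' x := fun x hx => by
    rw [← map_pow, (AschbacherForm.mem_subfield_iff F₁).1 hx]
  have hθ' : θ ^ q₁ * θ ^ q₁ + ι' a * θ ^ q₁ + ι' b = 0 := by
    have := congrArg (· ^ q₁) hθ
    simp only [hfrob, mul_pow, hfix a ha, hfix b hb] at this
    rw [this, zero_pow Nat.card_pos.ne']
  have hθ2 : θ ^ (Fintype.card F) = θ := by
    rw [hcard, pow_two, pow_mul]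
    rcases mul_eq_zero.1 (show (θ ^ q₁ - θ) * (θ ^ q₁ + θ + ι' a) = 0 by linear_combination hθ' - hθ) with h | h
    · rw [sub_eq_zero.1 h, sub_eq_zero.1 h]
    · have h1 : θ ^ q₁ = (-1) * θ + (-1) * ι' a := by linear_combination h
      have hneg : ((-1 : K)) ^ q₁ = -1 := by
        have h0 := hfix (-1) (F₁.neg_mem F₁.one_mem)
        rwa [map_neg, map_one] at h0
      rw [h1, hfrob, mul_pow, mul_pow, hneg, hfix a ha, h1]
      ring
  obtain ⟨t, ht⟩ : ∃ t : F, ι' t = θ := by
    by_contra hc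
    push Not at hc
    have hP : (Polynomial.X ^ Fintype.card F - Polynomial.X : Polynomial K) ≠ 0 :=
      FiniteField.X_pow_card_sub_X_ne_zero K Fintype.one_lt_card
    have hsub : insert θ (Finset.univ.image ι') ⊆ (Polynomial.X ^ Fintype.card F - Polynomial.X : Polynomial K).roots.toFinset := by
      intro x hx
      rw [Multiset.mem_toFinset, Polynomial.mem_roots hP]
      simp only [Polynomial.IsRoot, Polynomial.eval_sub, Polynomial.eval_pow, Polynomial.eval_X, sub_eq_zero]
      rcases Finset.mem_insert.1 hx with rfl | hx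
      · exact hθ2
      · obtain ⟨y, -, rfl⟩ := Finset.mem_image.1 hx
        rw [← map_pow, FiniteField.pow_card]
    have h1 := (Finset.card_le_card hsub).trans ((Multiset.toFinset_card_le _).trans (Polynomial.card_roots' _))
    rw [Finset.card_insert_of_notMem (by simp [hc]), Finset.card_image_of_injective _ ι'.injective, Finset.card_univ,
      FiniteField.X_pow_card_sub_X_natDegree_eq K Fintype.one_lt_card] at h1
    omega
  refine ⟨t, ι'.injective ?_⟩
  rw [map_add, map_add, map_mul, map_mul, map_zero, ht]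
  exact hθ

/-- A form with a structure over a subfield of index two is of plus type. -/
theorem plus_of_rational_two (hQ : (polarBilin Q).Nondegenerate) {m : ℕ} (hn : Fintype.card ι = 2 * (m + 1))
    {F₁ : Subfield F} (hcard : Fintype.card F = Nat.card F₁ ^ 2) {B : GL ι F} {ζ : F} (hζ : ζ ≠ 0)
    (hrat : IsQuadFormRationalStructure (fun v : ι → F => ζ * Q v) F₁ B) : IsPlusTypeOn ⇑Q ⊤ := by
  classical
  have hpol : ∀ u v : ι → F, (∀ i, u i ∈ F₁) → (∀ i, v i ∈ F₁) →
      ζ * polar Q ((B : Matrix ι ι F) *ᵥ u) ((B : Matrix ι ι F) *ᵥ v) ∈ F₁ := fun u v hu hv => by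
    rw [QuadraticMap.polar, ← Matrix.mulVec_add, mul_sub, mul_sub]
    exact F₁.sub_mem (F₁.sub_mem (hrat _ fun i => by rw [Pi.add_apply]; exact F₁.add_mem (hu i) (hv i))
      (hrat _ hu)) (hrat _ hv)
  by_cases h2 : (2 : F) = 0
  swap
  · let b : Module.Basis ι F (⊤ : Submodule F (ι → F)) := ((Pi.basisFun F ι).map
      (Matrix.GeneralLinearGroup.toLin B).toLinearEquiv).map Submodule.topEquiv.symm
    have htop : IsNondegenerateOn (polar ⇑Q) (⊤ : Submodule F (ι → F)) := fun w _ hw => by
      obtain ⟨⟨x, hx⟩, y, hy⟩ := polar_nondeg hQ w hw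
      exact ⟨⟨x, trivial, hx⟩, y, trivial, hy⟩
    rw [plus_iff_gram h2 htop b (m := m + 1) hn]
    set G := gram Q fun i => (b i : ι → F)
    have hG : ∀ i j, ζ * G i j ∈ F₁ := fun i j => by
      have hb : ∀ i, (b i : ι → F) = (B : Matrix ι ι F) *ᵥ Pi.single i 1 := fun i => by
        simp [b, Matrix.GeneralLinearGroup.toLin]
      have hs : ∀ i : ι, ∀ l, (Pi.single i (1 : F) : ι → F) l ∈ F₁ := fun i l => by
        rw [Pi.single_apply]; split_ifs
        exacts [F₁.one_mem, F₁.zero_mem]
      simp only [G, gram, Matrix.of_apply, hb]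
      exact hpol _ _ (hs i) (hs j)
    have hd : (ζ • G).det ∈ F₁ := by
      rw [Matrix.det_apply']
      exact F₁.sum_mem fun σ _ => F₁.mul_mem (intCast_mem F₁ _) (F₁.prod_mem fun i _ => by
        rw [Matrix.smul_apply, smul_eq_mul]; exact hG _ _)
    have hsq := isSquare_quadratic_extension hcard h2
      (F₁.mul_mem (F₁.pow_mem (F₁.neg_mem F₁.one_mem) (m + 1)) hd)
    rw [Matrix.det_smul, hn] at hsq
    obtain ⟨s, hs⟩ := hsq
    refine ⟨s / ζ ^ (m + 1), ?_⟩
    field_simp
    rw [two_mul, pow_add] at hs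
    linear_combination hs
  -- characteristic two
  let emb : (ι → F₁) → (ι → F) := fun w i => (w i : F)
  have hemb : ∀ w : ι → F₁, ∀ i, emb w i ∈ F₁ := fun w i => (w i).2
  let q : (ι → F₁) → F₁ := fun w => ⟨_, hrat (emb w) (hemb w)⟩
  have hqp : ∀ x y, ((polar q x y : F₁) : F) = ζ * polar Q ((B : Matrix ι ι F) *ᵥ emb x) ((B : Matrix ι ι F) *ᵥ emb y) := by
    intro x y
    simp only [QuadraticMap.polar, q, AddSubgroupClass.coe_sub]
    rw [← Matrix.mulVec_add, show emb (x + y) = emb x + emb y from rfl, mul_sub, mul_sub]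
  let Q₀ : QuadraticForm F₁ (ι → F₁) := QuadraticMap.ofPolar q
    (fun c v => Subtype.ext (by
      show ζ * Q ((B : Matrix ι ι F) *ᵥ emb (c • v)) = _
      rw [show emb (c • v) = (c : F) • emb v from rfl, Matrix.mulVec_smul, map_smul', smul_eq_mul]
      simp only [q, Subfield.coe_mul]
      ring))
    (fun x x' y => Subtype.ext (by
      rw [Subfield.coe_add, hqp, hqp, hqp, show emb (x + x') = emb x + emb x' from rfl, Matrix.mulVec_add,
        polar_add_left]
      ring))
    (fun c x y => Subtype.ext (by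
      rw [smul_eq_mul, Subfield.coe_mul, hqp, hqp, show emb (c • x) = (c : F) • emb x from rfl, Matrix.mulVec_smul,
        polar_smul_left']
      ring))
  have hl : ∀ x, (∀ y, polar Q₀ x y = 0) → x = 0 := by
    intro x hx
    have h0 : ∀ v : ι → F, polar Q ((B : Matrix ι ι F) *ᵥ emb x) v = 0 := by
      intro v
      have hv : v = (B : Matrix ι ι F) *ᵥ ((↑B⁻¹ : Matrix ι ι F) *ᵥ v) := by
        rw [Matrix.mulVec_mulVec, Units.mul_inv, Matrix.one_mulVec]
      have hlin : (polarBilin Q ((B : Matrix ι ι F) *ᵥ emb x)).comp (Matrix.toLin' (B : Matrix ι ι F)) = 0 := by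
        refine (Pi.basisFun F ι).ext fun i => ?_
        have h := congrArg (fun y : F₁ => (y : F)) (hx (Pi.single i 1))
        simp only [show polar Q₀ x (Pi.single i 1) = polar q x (Pi.single i 1) from rfl, hqp, ZeroMemClass.coe_zero] at h
        have he : emb (Pi.single i 1) = Pi.single i 1 := by
          funext l; simp only [emb, Pi.single_apply]; split_ifs <;> simp
        rw [he] at h
        simpa [hζ] using h
      rw [hv]
      exact LinearMap.congr_fun hlin _
    have h1 := hQ.1 _ h0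
    have h2 := congrArg ((↑B⁻¹ : Matrix ι ι F) *ᵥ ·) h1
    simp only [Matrix.mulVec_mulVec, Units.inv_mul, Matrix.one_mulVec, Matrix.mulVec_zero] at h2
    exact funext fun i => Subtype.ext (congrFun h2 i)
  have hQ₀ : (polarBilin Q₀).Nondegenerate :=
    ⟨fun x hx => hl x hx, fun y hy => hl y fun x => by rw [polar_comm]; exact hy x⟩
  -- the basis of a standard model
  have hbasis : ∀ {κ : Type} [Fintype κ] [DecidableEq κ] (E : (κ → F₁) ≃ₗ[F₁] (ι → F₁)),
      LinearIndependent F fun j : κ => (B : Matrix ι ι F) *ᵥ emb (E (Pi.single j 1)) := by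
    intro κ _ _ E
    have h1 : LinearIndependent F₁ fun j : κ => E (Pi.single j 1) :=
      (Pi.linearIndependent_single_one κ F₁).map' E.toLinearMap E.ker
    refine Fintype.linearIndependent_iff.2 fun c hc => ?_
    have h3 : (∑ j, c j • emb (E (Pi.single j 1))) = 0 := by
      have := congrArg ((↑B⁻¹ : Matrix ι ι F) *ᵥ ·) hc
      simpa [Matrix.mulVec_sum, Matrix.mulVec_smul, Matrix.mulVec_mulVec] using this
    obtain ⟨π, hπ⟩ := (Algebra.linearMap F₁ F).exists_leftInverse_of_injective
      (LinearMap.ker_eq_bot.2 (algebraMap F₁ F).injective)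
    intro j
    refine Module.Basis.ext_elem (Module.finBasis F₁ F) fun i => ?_
    rw [map_zero, Finsupp.coe_zero, Pi.zero_apply]
    refine Fintype.linearIndependent_iff.1 h1 (fun j => (Module.finBasis F₁ F).repr (c j) i) (funext fun l => ?_) j
    have h4 := congrArg (fun y => (Module.finBasis F₁ F).repr y i) (congrFun h3 l)
    simp only [Finset.sum_apply, Pi.smul_apply, smul_eq_mul, map_sum, Finsupp.coe_finsetSum, Pi.zero_apply,
      map_zero, Finsupp.coe_zero] at h4 ⊢
    refine Eq.trans (Finset.sum_congr rfl fun j _ => ?_) h4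
    rw [show c j * emb (E (Pi.single j 1)) l = (E (Pi.single j 1) l) • c j from mul_comm _ _, map_smul,
      Finsupp.smul_apply, smul_eq_mul, mul_comm]
  have hfam : ∀ {μ : Type} [Fintype μ] (v : μ → ι → F), LinearIndependent F v → Fintype.card μ = m + 1 →
      (∀ i, Q (v i) = 0) → (∀ i j, i ≠ j → polar Q (v i) (v j) = 0) → IsPlusTypeOn ⇑Q ⊤ := by
    intro μ _ v hv hc h0 h1
    refine ⟨Submodule.span F (Set.range v), le_top, fun x hx => ?_, ?_⟩
    · have hp : ∀ i j, polar Q (v i) (v j) = 0 := fun i j => by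
        by_cases hij : i = j
        · rw [hij, polar_self', h0, mul_zero]
        · exact h1 i j hij
      have h3 : ∀ x ∈ Submodule.span F (Set.range v), ∀ i, polar Q x (v i) = 0 := fun x hx i => by
        induction hx using Submodule.span_induction with
        | mem x hx => obtain ⟨j, rfl⟩ := hx; exact hp j i
        | zero => exact QuadraticMap.polar_zero_left _ _
        | add a b _ _ ha hb => rw [polar_add_left, ha, hb, add_zero]
        | smul c a _ ha => rw [polar_smul_left', ha, mul_zero]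
      induction hx using Submodule.span_induction with
      | mem x hx => obtain ⟨j, rfl⟩ := hx; exact h0 j
      | zero => exact QuadraticMap.map_zero Q
      | add a b ha' hb' ha hb =>
        have h4 : polar Q a b = 0 := by
          clear hb
          induction hb' using Submodule.span_induction with
          | mem x hx => obtain ⟨j, rfl⟩ := hx; exact h3 a ha' j
          | zero => exact QuadraticMap.polar_zero_right _ _
          | add c d _ _ hc hd => rw [polar_add_right, hc, hd, add_zero]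
          | smul c d _ hd => rw [polar_smul_right', hd, mul_zero]
        rw [map_add', ha, hb, h4, add_zero, add_zero]
      | smul c a _ ha => rw [map_smul', ha, mul_zero]
    · rw [finrank_span_eq_card hv, finrank_top, Module.finrank_fintype_fun_eq_card, hn, hc]
  have hval : ∀ {κ : Type} [Fintype κ] [DecidableEq κ] (E : (κ → F₁) ≃ₗ[F₁] (ι → F₁)) (c : F₁) (R : (κ → F₁) → F₁),
      (∀ v, Q₀ (E v) = c * R v) → ∀ x y,
      ζ * Q ((B : Matrix ι ι F) *ᵥ emb (E x)) = ((c * R x : F₁) : F) ∧
      ζ * polar Q ((B : Matrix ι ι F) *ᵥ emb (E x)) ((B : Matrix ι ι F) *ᵥ emb (E y)) =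
        ((c * polar R x y : F₁) : F) := by
    intro κ _ _ E c R hR x y
    refine ⟨congrArg Subtype.val (hR x), ?_⟩
    rw [← hqp]
    congr 1
    show polar Q₀ (E x) (E y) = _
    simp only [QuadraticMap.polar, ← map_add, hR]
    ring
  rcases isSimTo_even Q₀ hQ₀ (m := m) hn with ⟨E, c, -, hE⟩ | ⟨a, b, -, E, c, -, hE⟩
  · refine hfam (fun i : Fin (m + 1) => (B : Matrix ι ι F) *ᵥ emb (E (Pi.single (Sum.inl i) 1)))
      ((hbasis E).comp Sum.inl Sum.inl_injective) (by simp) (fun i => ?_) fun i j hij => ?_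
    · have h := (hval E c _ hE (Pi.single (Sum.inl i) 1) 0).1
      simpa [hζ, Cfsg.quadFormPlus, Pi.single_apply] using h
    · have h := (hval E c _ hE (Pi.single (Sum.inl i) 1) (Pi.single (Sum.inl j) 1)).2
      simpa [hζ, QuadraticMap.polar, Cfsg.quadFormPlus, Pi.single_apply] using h
  · obtain ⟨t, ht⟩ := exists_root_quadratic_extension hcard a.2 b.2
    set L : (Fin m ⊕ Fin m) ⊕ Fin 2 → ι → F := fun j => (B : Matrix ι ι F) *ᵥ emb (E (Pi.single j 1))
    have hv := fun x y => hval E c _ hE (Pi.single x 1) (Pi.single y 1)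
    have hli := hbasis E
    refine hfam (Sum.elim (fun i : Fin m => L (.inl (.inl i))) (fun _ : Unit => t • L (.inr 0) + L (.inr 1)))
      ?_ (by simp) ?_ ?_
    · refine Fintype.linearIndependent_iff.2 fun g hg => ?_
      let g' : (Fin m ⊕ Fin m) ⊕ Fin 2 → F :=
        Sum.elim (Sum.elim (fun i => g (.inl i)) fun _ => 0) ![g (.inr ()) * t, g (.inr ())]
      have h := Fintype.linearIndependent_iff.1 hli g' (by
        simp only [Fintype.sum_sum_type, Sum.elim_inl, Sum.elim_inr, Finset.univ_unique, Finset.sum_singleton,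
          PUnit.default_eq_unit, smul_add, smul_smul] at hg
        simp only [g', Fintype.sum_sum_type, Fin.sum_univ_two, Sum.elim_inl, Sum.elim_inr, zero_smul,
          Finset.sum_const_zero, add_zero, Matrix.cons_val_zero, Matrix.cons_val_one]
        exact hg)
      rintro (i | u)
      · exact h (.inl (.inl i))
      · exact h (.inr 1)
    · rintro (i | -)
      · have h := (hv (.inl (.inl i)) (.inr 0)).1
        simpa [hζ, L, Cfsg.quadFormMinus, Pi.single_apply] using h
      · have h00 := (hv (.inr 0) (.inr 0)).1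
        have h11 := (hv (.inr 1) (.inr 1)).1
        have h01 := (hv (.inr 0) (.inr 1)).2
        simp [QuadraticMap.polar, Cfsg.quadFormMinus, Pi.single_apply] at h00 h11 h01
        show Q (t • L (.inr 0) + L (.inr 1)) = 0
        rw [map_add', map_smul', polar_smul_left']
        refine (mul_eq_zero.1 (show ζ * (t * t * Q (L (.inr 0)) + Q (L (.inr 1)) + t * polar Q (L (.inr 0)) (L (.inr 1))) = 0 from ?_)).resolve_left hζ
        simp only [L, QuadraticMap.polar]
        linear_combination t * t * h00 + h11 + t * h01 + (c : F) * ht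
    · have hpz : ∀ (i : Fin m) (j : (Fin m ⊕ Fin m) ⊕ Fin 2), j ≠ .inl (.inr i) → j ≠ .inl (.inl i) →
          polar Q (L (.inl (.inl i))) (L j) = 0 := fun i j hj hj' => by
        have h := (hv (.inl (.inl i)) j).2
        rcases j with (j | j) | j
        · simpa [hζ, L, QuadraticMap.polar, Cfsg.quadFormMinus, Pi.single_apply] using h
        · have hne : j ≠ i := fun e => hj (by rw [e])
          simpa [hζ, L, QuadraticMap.polar, Cfsg.quadFormMinus, Pi.single_apply, hne, Ne.symm hne] using h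
        · fin_cases j <;> simpa [hζ, L, QuadraticMap.polar, Cfsg.quadFormMinus, Pi.single_apply] using h
      rintro (i | u₁) (j | u₂) hij
      · exact hpz i (.inl (.inl j)) (by simp) (fun e => hij (by simp at e; rw [e]))
      · show polar Q (L (.inl (.inl i))) (t • L (.inr 0) + L (.inr 1)) = 0
        rw [polar_add_right, polar_smul_right', hpz i (.inr 0) (by simp) (by simp), hpz i (.inr 1) (by simp) (by simp)]
        ring
      · show polar Q (t • L (.inr 0) + L (.inr 1)) (L (.inl (.inl j))) = 0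
        rw [polar_comm, polar_add_right, polar_smul_right', hpz j (.inr 0) (by simp) (by simp), hpz j (.inr 1) (by simp) (by simp)]
        ring
      · exact absurd rfl hij

end CfsgLib.AschbacherOrth
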