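import Cfsg.Agent.Lib.AschbacherOrth.Decomp
import Cfsg.Agent.Lib.AschbacherOrth.Residual

/-!
# Refining orthogonal decompositions; decompositions into lines
-/

set_option autoImplicit false
set_option linter.unusedSectionVars false
set_option linter.style.haveILetI false
set_option linter.unusedSimpArgs false
set_option linter.style.show false

namespace CfsgLib.AschbacherOrth

open QuadraticMap Cfsg Cfsg.Geo CfsgLib.Geometry CfsgLib.Aschbacher
open scoped Matrix MatrixGroups

universe u
variable {F : Type u} [Field F] [Fintype F] {ι : Type} [Fintype ι] [DecidableEq ι]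
variable {Q : QuadraticForm F (ι → F)}

theorem isometric_refl (A : Submodule F (ι → F)) : AreIsometricFor ⇑Q A A :=
  ⟨LinearEquiv.refl F _, fun _ => rfl⟩

theorem isometric_polar {A B : Submodule F (ι → F)} (e : A ≃ₗ[F] B) (he : ∀ w : A, Q (e w : ι → F) = Q (w : ι → F))
    (x y : A) : polar Q (e x : ι → F) (e y : ι → F) = polar Q (x : ι → F) (y : ι → F) := by
  simp only [QuadraticMap.polar]
  rw [← Submodule.coe_add, ← map_add, he, he, he]
  rfl

theorem mem_map_gl {g : GL ι F} {A B : Submodule F (ι → F)}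
    (h : A.map (Matrix.toLin' (g : Matrix ι ι F)) = B) {v : ι → F} (hv : v ∈ A) : (g : Matrix ι ι F) *ᵥ v ∈ B :=
  h ▸ ⟨v, hv, rfl⟩

theorem nondeg_of_isometric {A B : Submodule F (ι → F)} (h : AreIsometricFor ⇑Q A B)
    (hA : IsNondegenerateOn (polar ⇑Q) A) : IsNondegenerateOn (polar ⇑Q) B := by
  obtain ⟨e, he⟩ := h
  intro w hw hw0
  obtain ⟨a, ha⟩ := e.surjective ⟨w, hw⟩
  obtain rfl : (e a : ι → F) = w := congrArg Subtype.val ha
  obtain ⟨⟨x, hx, h1⟩, y, hy, h2⟩ := hA _ a.2 fun h0 => hw0 (by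
    rw [show a = 0 from Subtype.ext h0, map_zero]; rfl)
  exact ⟨⟨_, (e ⟨x, hx⟩).2, by rwa [isometric_polar e he ⟨x, hx⟩ a]⟩,
    _, (e ⟨y, hy⟩).2, by rwa [isometric_polar e he a ⟨y, hy⟩]⟩

/-- A decomposition refines along an isometry-invariant property characterising pieces of one part. -/
theorem refine_decomp {H : Subgroup (GL ι F)} (hH : H ≤ isometryGroup F ⇑Q) {t k : ℕ}
    {D : Fin t → Submodule F (ι → F)} (hD : IsOrthogonalMDecomposition ⇑Q k D) (hle : H ≤ decompositionStabilizer D)
    (i₀ : Fin t) {s k' : ℕ} (hk' : 0 < k') (hs : s * k' = k) (E₀ : Fin s → Submodule F (ι → F))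
    (hEle : ∀ j, E₀ j ≤ D i₀) (hE : Pieces Q k' E₀) (hiso : ∀ j j', AreIsometricFor ⇑Q (E₀ j) (E₀ j'))
    (P : Submodule F (ι → F) → Prop) (hP : ∀ A B, AreIsometricFor ⇑Q A B → P A → P B) (hP₀ : ∀ j, P (E₀ j))
    (hchar : ∀ W, W ≤ D i₀ → P W → ∃ j, W = E₀ j) :
    ∃ D' : Fin (t * s) → Submodule F (ι → F), IsOrthogonalMDecomposition ⇑Q k' D' ∧
      (∀ l, P (D' l)) ∧ H ≤ decompositionStabilizer D' := by
  classical
  choose e he using fun i => hD.isometric i₀ i
  let T : ∀ i, D i₀ →ₗ[F] (ι → F) := fun i => (D i).subtype.comp (e i).toLinearMap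
  have hTinj : ∀ i, Function.Injective (T i) := fun i => Subtype.val_injective.comp (e i).injective
  let E : Fin t → Fin s → Submodule F (ι → F) := fun i j => ((E₀ j).comap (D i₀).subtype).map (T i)
  have hEi : ∀ i j, AreIsometricFor ⇑Q (E₀ j) (E i j) := fun i j => by
    refine ⟨(Submodule.comapSubtypeEquivOfLe (hEle j)).symm.trans (Submodule.equivMapOfInjective _ (hTinj i) _),
      fun w => ?_⟩
    rw [LinearEquiv.trans_apply, Submodule.coe_equivMapOfInjective_apply]
    exact he i _
  have hEle' : ∀ i j, E i j ≤ D i := fun i j => by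
    rintro _ ⟨w, -, rfl⟩; exact (e i w).2
  have hEP : ∀ i j, P (E i j) := fun i j => hP _ _ (hEi i j) (hP₀ j)
  have hEchar : ∀ i W, W ≤ D i → P W → ∃ j, W = E i j := by
    intro i W hW hPW
    let T' : D i →ₗ[F] (ι → F) := (D i₀).subtype.comp (e i).symm.toLinearMap
    have hT' : Function.Injective T' := Subtype.val_injective.comp (e i).symm.injective
    obtain ⟨j, hj⟩ := hchar ((W.comap (D i).subtype).map T') (by rintro _ ⟨w, -, rfl⟩; exact ((e i).symm w).2)
      (hP _ _ ⟨(Submodule.comapSubtypeEquivOfLe hW).symm.trans (Submodule.equivMapOfInjective _ hT' _), fun w => by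
        rw [LinearEquiv.trans_apply, Submodule.coe_equivMapOfInjective_apply]
        show Q (((e i).symm _ : D i₀) : ι → F) = _
        have := he i ((e i).symm ((Submodule.comapSubtypeEquivOfLe hW).symm w))
        rw [LinearEquiv.apply_symm_apply] at this
        exact this.symm⟩ hPW)
    refine ⟨j, le_antisymm (fun w hw => ?_) ?_⟩
    · refine ⟨(e i).symm ⟨w, hW hw⟩, ?_, ?_⟩
      · show (((e i).symm ⟨w, hW hw⟩ : D i₀) : ι → F) ∈ E₀ j
        rw [← hj]
        exact ⟨⟨w, hW hw⟩, hw, rfl⟩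
      · show (((e i) ((e i).symm ⟨w, hW hw⟩) : D i) : ι → F) = w
        rw [LinearEquiv.apply_symm_apply]
    · rintro _ ⟨a, ha, rfl⟩
      have ha' : (a : ι → F) ∈ (W.comap (D i).subtype).map T' := hj ▸ ha
      obtain ⟨b, hb, hba⟩ := ha'
      have hba' : (e i).symm b = a := Subtype.ext hba
      show ((e i a : D i) : ι → F) ∈ W
      rw [← hba', LinearEquiv.apply_symm_apply]
      exact hb
  let D' : Fin (t * s) → Submodule F (ι → F) := fun l => E (finProdFinEquiv.symm l).1 (finProdFinEquiv.symm l).2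
  have hpieces : Pieces Q k' D' := by
    refine ⟨fun l => ?_, fun l => nondeg_of_isometric (hEi _ _) (hE.nondeg _), fun l l' hne => ?_⟩
    · obtain ⟨f, -⟩ := hEi (finProdFinEquiv.symm l).1 (finProdFinEquiv.symm l).2
      show Module.finrank F (E _ _) = k'
      rw [← f.finrank_eq, hE.finrank_eq]
    · show Orth Q (E _ _) (E _ _)
      have hne' := finProdFinEquiv.symm.injective.ne hne
      generalize finProdFinEquiv.symm l = p, finProdFinEquiv.symm l' = p' at hne' ⊢
      by_cases hp : p.1 = p'.1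
      · rw [← hp]
        have hj : p.2 ≠ p'.2 := fun e => hne' (Prod.ext hp e)
        rintro _ ⟨a, ha, rfl⟩ _ ⟨b, hb, rfl⟩
        show polar Q ((e p.1 a : D p.1) : ι → F) ((e p.1 b : D p.1) : ι → F) = 0
        rw [isometric_polar (e p.1) (he p.1)]
        exact hE.orth _ _ hj _ ha _ hb
      · exact fun u hu v hv => hD.decomp.orthogonal _ _ hp u (hEle' _ _ hu) v (hEle' _ _ hv)
  have hs0 : 0 < s := Nat.pos_of_ne_zero fun h => by
    rw [h, zero_mul] at hs
    exact hD.decomp.decomp.pos.ne hs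
  have ht2 : 2 ≤ t * s := hD.decomp.decomp.two_le.trans (Nat.le_mul_of_pos_right t hs0)
  have hdec : IsNondegenerateMDecomposition (polar ⇑Q) k' D' :=
    hpieces.decomp ht2 hk' (by rw [mul_assoc, hs, decomp_card hD.decomp])
  refine ⟨D', ⟨hdec, fun l l' => isometric_trans (isometric_symm (hEi _ _))
    (isometric_trans (hiso _ _) (hEi _ _))⟩, fun l => hEP _ _, fun g hg => ?_⟩
  obtain ⟨σ, hσ⟩ := hle hg
  have hmap : ∀ l, ∃ l', (D' l).map (Matrix.toLin' (g : Matrix ι ι F)) = D' l' := fun l => by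
    obtain ⟨j, hj⟩ := hEchar (σ (finProdFinEquiv.symm l).1) _
      ((Submodule.map_mono (hEle' _ _)).trans (hσ _).le)
      (hP _ _ (isometric_map (hH hg) (D' l)) (hEP _ _))
    exact ⟨finProdFinEquiv ((σ (finProdFinEquiv.symm l).1), j), by simp only [D', Equiv.symm_apply_apply, hj]⟩
  choose f hf using hmap
  have hfinj : Function.Injective f := fun l l' hll => by
    by_contra hne
    have h1 : D' l = D' l' := Submodule.map_injective_of_injective
      (show Function.Injective (Matrix.toLin' (g : Matrix ι ι F)) by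
        rw [Matrix.toLin'_apply']; exact Matrix.mulVec_injective_of_isUnit g.isUnit)
      (by rw [hf, hf, hll])
    have h2 := hpieces.indep.pairwiseDisjoint hne
    rw [Function.onFun, h1, disjoint_self] at h2
    have := hpieces.finrank_eq l'
    rw [h2, finrank_bot] at this
    omega
  exact ⟨Equiv.ofBijective f (Finite.injective_iff_bijective.1 hfinj), hf⟩

/-- The predicate of a line with a vector of given value. -/
def LineVal (Q : QuadraticForm F (ι → F)) (c : F) (W : Submodule F (ι → F)) : Prop :=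
  Module.finrank F W = 1 ∧ ∃ w ∈ W, Q w = c

theorem lineVal_invariant {c : F} (A B : Submodule F (ι → F)) (h : AreIsometricFor ⇑Q A B) (hA : LineVal Q c A) :
    LineVal Q c B := by
  obtain ⟨e, he⟩ := h
  obtain ⟨h1, w, hw, hwc⟩ := hA
  exact ⟨by rw [← e.finrank_eq, h1], _, (e ⟨w, hw⟩).2, by rw [he]; exact hwc⟩

theorem nondeg_line (h2 : (2 : F) ≠ 0) {b : ι → F} (hb : Q b ≠ 0) :
    IsNondegenerateOn (polar ⇑Q) (Submodule.span F {b}) := by
  intro w hw hw0
  obtain ⟨a, rfl⟩ := Submodule.mem_span_singleton.1 hw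
  have ha : a ≠ 0 := fun e => hw0 (by rw [e, zero_smul])
  exact ⟨⟨b, Submodule.mem_span_singleton_self b, by
      rw [polar_smul_right', polar_self']; exact mul_ne_zero ha (mul_ne_zero h2 hb)⟩,
    b, Submodule.mem_span_singleton_self b, by
      rw [polar_smul_left', polar_self']; exact mul_ne_zero ha (mul_ne_zero h2 hb)⟩

/-- Refinement into lines. -/
theorem refine_lines {H : Subgroup (GL ι F)} (hH : H ≤ isometryGroup F ⇑Q) (h2 : (2 : F) ≠ 0) {t k : ℕ}
    {D : Fin t → Submodule F (ι → F)} (hD : IsOrthogonalMDecomposition ⇑Q k D) (hle : H ≤ decompositionStabilizer D)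
    (i₀ : Fin t) {c : F} (hc : c ≠ 0) (b : Fin k → ι → F) (hb : ∀ j, b j ∈ D i₀) (hbc : ∀ j, Q (b j) = c)
    (hbo : ∀ i j, i ≠ j → polar Q (b i) (b j) = 0)
    (huniq : ∀ v ∈ D i₀, Q v = c → ∃ j, v = b j ∨ v = -b j) :
    ∃ D' : Fin (t * k) → Submodule F (ι → F), IsOrthogonalMDecomposition ⇑Q 1 D' ∧
      H ≤ decompositionStabilizer D' := by
  have hb0 : ∀ j, b j ≠ 0 := fun j e => hc (by rw [← hbc j, e, QuadraticMap.map_zero])
  obtain ⟨D', h1, -, h3⟩ := refine_decomp hH hD hle i₀ Nat.one_pos (mul_one k) (fun j => Submodule.span F {b j})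
    (fun j => (Submodule.span_singleton_le_iff_mem _ _).2 (hb j))
    ⟨fun j => finrank_span_singleton (hb0 j), fun j => nondeg_line h2 (by rw [hbc]; exact hc),
      fun i j hij u hu v hv => by
        obtain ⟨a, rfl⟩ := Submodule.mem_span_singleton.1 hu
        obtain ⟨a', rfl⟩ := Submodule.mem_span_singleton.1 hv
        rw [polar_smul_left', polar_smul_right', hbo i j hij, mul_zero, mul_zero]⟩
    (fun i j => by
      refine ⟨(LinearEquiv.toSpanNonzeroSingleton F _ (b i) (hb0 i)).symm.trans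
        (LinearEquiv.toSpanNonzeroSingleton F _ (b j) (hb0 j)), fun w => ?_⟩
      obtain ⟨a, rfl⟩ := (LinearEquiv.toSpanNonzeroSingleton F _ (b i) (hb0 i)).surjective w
      rw [LinearEquiv.trans_apply, LinearEquiv.symm_apply_apply]
      show Q (a • b j) = Q (a • b i)
      rw [map_smul', map_smul', hbc, hbc])
    (LineVal Q c) lineVal_invariant
    (fun j => ⟨finrank_span_singleton (hb0 j), b j, Submodule.mem_span_singleton_self _, hbc j⟩)
    (fun W hW hval => by
      obtain ⟨h1, w, hw, hwc⟩ := hval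
      obtain ⟨j, hj⟩ := huniq w (hW hw) hwc
      refine ⟨j, (Submodule.eq_of_le_of_finrank_le ((Submodule.span_singleton_le_iff_mem _ _).2 ?_) ?_).symm⟩
      · rcases hj with h | h
        · exact h ▸ hw
        · simpa [h] using W.neg_mem hw
      · rw [h1, finrank_span_singleton (hb0 j)])
  exact ⟨D', h1, h3⟩

/-- A plane fixed set: the span of chosen vectors, one in each part. -/
theorem exists_invariant {H : Subgroup (GL ι F)} {t k : ℕ} {D : Fin t → Submodule F (ι → F)}
    (hD : IsMDecomposition k D) (hle : H ≤ decompositionStabilizer D) (hn : t < Fintype.card ι) (v : Fin t → ι → F)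
    (hv : ∀ i, v i ≠ 0) (hvD : ∀ i, v i ∈ D i)
    (hperm : ∀ g ∈ H, ∀ i l, (g : Matrix ι ι F) *ᵥ v i ∈ D l →
      (g : Matrix ι ι F) *ᵥ v i ∈ Submodule.span F {v l}) :
    ¬ Irred H := by
  intro hirr
  have hinv : H ≤ subspaceStabilizer (Submodule.span F (Set.range v)) := le_stab_of_map_le fun g hg => by
    obtain ⟨σ, hσ⟩ := hle hg
    rw [Submodule.map_span, Submodule.span_le]
    rintro _ ⟨_, ⟨i, rfl⟩, rfl⟩
    rw [Matrix.toLin'_apply]
    exact Submodule.span_mono (Set.singleton_subset_iff.2 (Set.mem_range_self (σ i)))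
      (hperm g hg i (σ i) (mem_map_gl (hσ i) (hvD i)))
  have ht := hD.two_le
  rcases hirr _ hinv with h | h
  · have := (Submodule.span_eq_bot.1 h) (v ⟨0, by omega⟩) ⟨_, rfl⟩
    exact hv _ this
  · have h1 := finrank_range_le_card (R := F) v
    rw [Set.finrank, h, finrank_top, Module.finrank_fintype_fun_eq_card, Fintype.card_fin] at h1
    omega

/-- The vectors of one value in the parts of a decomposition into lines. -/
theorem exists_line_vectors (_h2 : (2 : F) ≠ 0) {D : Fin (Fintype.card ι) → Submodule F (ι → F)}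
    (hD : IsOrthogonalMDecomposition ⇑Q 1 D) :
    ∃ (a : F) (w : Fin (Fintype.card ι) → ι → F), a ≠ 0 ∧ (∀ i, w i ∈ D i) ∧ (∀ i, Q (w i) = a) ∧
      (∀ i, D i = Submodule.span F {w i}) ∧ LinearIndependent F w := by
  classical
  have ht := hD.decomp.decomp.two_le
  have hne : ∀ i, D i ≠ ⊥ := fun i h0 => by
    have := hD.decomp.decomp.finrank_eq i
    rw [h0, finrank_bot] at this
    omega
  let i₀ : Fin (Fintype.card ι) := ⟨0, by omega⟩
  obtain ⟨w₀, hw₀, hw₀0⟩ := Submodule.exists_mem_ne_zero_of_ne_bot (hne i₀)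
  have ha : Q w₀ ≠ 0 := fun h0 => by
    obtain ⟨⟨x, hx, hxw⟩, -⟩ := hD.decomp.nondegenerate i₀ w₀ hw₀ hw₀0
    have h1 : D i₀ = Submodule.span F {w₀} := (Submodule.eq_of_le_of_finrank_le
      ((Submodule.span_singleton_le_iff_mem _ _).2 hw₀)
      (by rw [hD.decomp.decomp.finrank_eq, finrank_span_singleton hw₀0])).symm
    rw [h1] at hx
    obtain ⟨a, rfl⟩ := Submodule.mem_span_singleton.1 hx
    exact hxw (by rw [polar_smul_left', polar_self', h0, mul_zero, mul_zero])
  choose e he using fun i => hD.isometric i₀ i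
  let w : Fin (Fintype.card ι) → ι → F := fun i => (e i ⟨w₀, hw₀⟩ : ι → F)
  have hw : ∀ i, Q (w i) = Q w₀ := fun i => he i _
  have hw0 : ∀ i, w i ≠ 0 := fun i h0 => ha (by rw [← hw i, h0, QuadraticMap.map_zero])
  refine ⟨Q w₀, w, ha, fun i => (e i _).2, hw, fun i => (Submodule.eq_of_le_of_finrank_le
    ((Submodule.span_singleton_le_iff_mem _ _).2 (e i _).2)
    (by rw [hD.decomp.decomp.finrank_eq, finrank_span_singleton (hw0 i)])).symm, ?_⟩
  exact hD.decomp.decomp.indep.linearIndependent _ (fun i => (e i _).2) hw0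

/-- A decomposition into lines over a field that is not prime gives a subfield structure. -/
theorem frame_subfield {H : Subgroup (GL ι F)} (hH : H ≤ isometryGroup F ⇑Q) (h2 : (2 : F) ≠ 0)
    (hp : ¬ (Fintype.card F).Prime) {D : Fin (Fintype.card ι) → Submodule F (ι → F)}
    (hD : IsOrthogonalMDecomposition ⇑Q 1 D) (hle : H ≤ decompositionStabilizer D) : SubfieldCase Q H := by
  classical
  obtain ⟨a, w, ha, hwD, hw, hspan, hli⟩ := exists_line_vectors h2 hD
  obtain ⟨p, hpc⟩ := CharP.exists F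
  haveI : Fact p.Prime := ⟨CharP.char_is_prime F p⟩
  have hF0 : (ZMod.castHom (dvd_refl p) F).fieldRange ≠ ⊤ := fun h => hp (by
    have h1 : Nat.card (ZMod p) = Nat.card F := Nat.card_congr (Equiv.ofBijective _
      ⟨(ZMod.castHom (dvd_refl p) F).injective, fun x => by
        obtain ⟨y, hy⟩ : x ∈ (ZMod.castHom (dvd_refl p) F).fieldRange := h ▸ Subfield.mem_top x
        exact ⟨y, hy⟩⟩)
    rw [Nat.card_eq_fintype_card, ZMod.card, Nat.card_eq_fintype_card] at h1
    exact h1 ▸ Fact.out)
  obtain ⟨F₁, r, hr, -, hcard⟩ := exists_primeIndex hF0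
  let ε := Fintype.equivFin ι
  let M : Matrix ι ι F := Matrix.of fun i j => w (ε j) i
  have hMsingle : ∀ u : ι → F, M *ᵥ u = ∑ j, u j • w (ε j) := fun u => by
    funext i
    simp [M, Matrix.mulVec, dotProduct, mul_comm]
  have hM : IsUnit M := by
    rw [← Matrix.mulVec_injective_iff_isUnit]
    refine (injective_iff_map_eq_zero M.mulVecLin).2 fun u hu => ?_
    rw [Matrix.mulVecLin_apply, hMsingle] at hu
    exact funext fun j => Fintype.linearIndependent_iff.1 (hli.comp ε ε.injective) u hu j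
  refine ⟨F₁, r, hM.unit, a⁻¹, hr, by rw [← Nat.card_eq_fintype_card]; exact hcard, inv_ne_zero ha, ?_,
    fun g hg => ?_⟩
  · intro u hu
    show a⁻¹ * Q ((hM.unit : Matrix ι ι F) *ᵥ u) ∈ F₁
    rw [IsUnit.unit_spec, hMsingle]
    have key : ∀ s : Finset ι, Q (∑ j ∈ s, u j • w (ε j)) = a * ∑ j ∈ s, u j * u j := fun s => by
      induction s using Finset.induction with
      | empty => simp
      | @insert j s hj ih =>
        rw [Finset.sum_insert hj, Finset.sum_insert hj, map_add', ih, map_smul', hw]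
        have h0 : polar Q (u j • w (ε j)) (∑ l ∈ s, u l • w (ε l)) = 0 := by
          rw [← polarBilin_apply_apply, map_sum]
          refine Finset.sum_eq_zero fun l hl => ?_
          rw [polarBilin_apply_apply, polar_smul_left', polar_smul_right',
            hD.decomp.orthogonal (ε j) (ε l) (ε.injective.ne fun e => hj (e ▸ hl)) _ (hwD _) _ (hwD _)]
          ring
        rw [h0]
        ring
    rw [key, inv_mul_cancel_left₀ ha]
    exact F₁.sum_mem fun j _ => F₁.mul_mem (hu j) (hu j)
  · obtain ⟨σ, hσ⟩ := hle hg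
    have hgw : ∀ i, ∃ c ∈ F₁, (g : Matrix ι ι F) *ᵥ w i = c • w (σ i) := fun i => by
      have h1 := mem_map_gl (hσ i) (hwD i)
      rw [hspan (σ i)] at h1
      obtain ⟨c, hc⟩ := Submodule.mem_span_singleton.1 h1
      refine ⟨c, ?_, hc.symm⟩
      have h3 := congrArg Q hc
      rw [isom_apply (hH hg), map_smul', hw, hw] at h3
      rcases mul_self_eq_one_iff.1 (mul_right_cancel₀ ha (h3.trans (one_mul a).symm)) with e | e <;> rw [e]
      exacts [F₁.one_mem, F₁.neg_mem F₁.one_mem]
    choose c hcF hc using hgw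
    refine AschbacherForm.mem_subfieldSubgroup (z := 1) hM.unit g one_ne_zero fun i j => ?_
    rw [one_smul]
    have h1 : ((hM.unit⁻¹ * g * hM.unit : GL ι F) : Matrix ι ι F) =
        Matrix.of fun i j => if i = ε.symm (σ (ε j)) then c (ε j) else 0 := by
      rw [Units.val_mul, Units.val_mul, mul_assoc]
      have h3 : (g : Matrix ι ι F) * M = M * Matrix.of fun i j => if i = ε.symm (σ (ε j)) then c (ε j) else 0 := by
        ext i j
        have := congrFun (hc (ε j)) i
        simp [Matrix.mulVec, dotProduct, M] at this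
        simp [Matrix.mul_apply, M, this, mul_comm]
      rw [IsUnit.unit_spec, h3, ← mul_assoc, IsUnit.val_inv_mul, one_mul]
    rw [h1]
    simp only [Matrix.of_apply]
    split_ifs
    exacts [hcF _, F₁.zero_mem]

/-- The type of a decomposition into lines. -/
theorem frame_plus_iff (h2 : (2 : F) ≠ 0) (hQ : (polarBilin Q).Nondegenerate) {m : ℕ} (hn : Fintype.card ι = 2 * m)
    {D : Fin (Fintype.card ι) → Submodule F (ι → F)} (hD : IsOrthogonalMDecomposition ⇑Q 1 D) :
    IsPlusTypeOn ⇑Q ⊤ ↔ IsSquare ((-1 : F) ^ m) := by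
  classical
  obtain ⟨a, w, ha, hwD, hw, -, hli⟩ := exists_line_vectors h2 hD
  let w' : Fin (Fintype.card ι) → (⊤ : Submodule F (ι → F)) := fun i => ⟨w i, trivial⟩
  have hliw : LinearIndependent F w' := LinearIndependent.of_comp (Submodule.subtype _) hli
  have hspan : Submodule.span F (Set.range w') = ⊤ := Submodule.eq_top_of_finrank_eq (by
    rw [finrank_span_eq_card hliw, finrank_top, Module.finrank_fintype_fun_eq_card, Fintype.card_fin])
  have htop : IsNondegenerateOn (polar ⇑Q) (⊤ : Submodule F (ι → F)) := fun v _ hv => by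
    obtain ⟨⟨x, hx⟩, y, hy⟩ := polar_nondeg hQ v hv
    exact ⟨⟨x, trivial, hx⟩, y, trivial, hy⟩
  rw [plus_iff_gram h2 htop (Module.Basis.mk hliw hspan.ge) (m := m) (by rw [Fintype.card_fin, hn])]
  have hG : (gram Q fun i => ((Module.Basis.mk hliw hspan.ge) i : ι → F)) = Matrix.diagonal fun _ => 2 * a := by
    ext i j
    simp only [gram, Matrix.of_apply, Module.Basis.mk_apply]
    show polar Q (w i) (w j) = _
    by_cases hij : i = j
    · subst hij; rw [polar_self', hw, Matrix.diagonal_apply_eq]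
    · rw [Matrix.diagonal_apply_ne _ hij, hD.decomp.orthogonal i j hij _ (hwD i) _ (hwD j)]
  rw [hG, Matrix.det_diagonal, Finset.prod_const, Finset.card_univ, Fintype.card_fin, hn]
  have h2a : (2 * a) ^ m ≠ 0 := pow_ne_zero _ (mul_ne_zero h2 ha)
  constructor
  · rintro ⟨r, hr⟩
    exact ⟨r / (2 * a) ^ m, by field_simp; linear_combination hr⟩
  · rintro ⟨r, hr⟩
    exact ⟨r * (2 * a) ^ m, by rw [hr]; ring⟩

end CfsgLib.AschbacherOrth
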