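import Cfsg.Agent.Lib.AschbacherOrth.Siegel
import Cfsg.Agent.Lib.AschbacherForm.Subfield
import Cfsg.Agent.Lib.AschbacherForm.Kron
import Cfsg.Agent.Lib.Geometry.OmegaPerfect

/-!
# No member of a geometric class contains the commutator subgroup of the orthogonal group
-/

set_option autoImplicit false
set_option linter.unusedSectionVars false
set_option linter.style.haveILetI false
set_option linter.unusedSimpArgs false
set_option linter.style.show false

namespace CfsgLib.AschbacherOrth

open QuadraticMap Cfsg Cfsg.Geo CfsgLib.Geometry CfsgLib.Aschbacher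
open scoped Matrix MatrixGroups Kronecker commutatorElement

variable {F : Type*} [Field F] [Finite F] {ι : Type} [Fintype ι] [DecidableEq ι]
variable {Q : QuadraticForm F (ι → F)}

theorem sie_sub_mem (u a x : ι → F) : sie Q u a x - x ∈ Submodule.span F ({u, a} : Set (ι → F)) := by
  rw [Submodule.mem_span_pair]
  exact ⟨-(polar Q x a + Q a * polar Q x u), polar Q x u, by simp only [sie]; module⟩

/-- A vector of given value in an orthogonal sum of two spaces. -/
theorem exists_value {p q : ι → F} (hpq : polar Q p q = 0) (hp : Q p ≠ 0) (hq : Q q ≠ 0) (c : F) :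
    ∃ s t : F, Q (s • p + t • q) = c := by
  haveI := Fintype.ofFinite F
  by_cases h2 : (2 : F) = 0
  · obtain ⟨s, hs⟩ := AschbacherForm.exists_sq h2 (c / Q p)
    exact ⟨s, 0, by rw [zero_smul, add_zero, map_smul', hs, div_mul_cancel₀ _ hp]⟩
  · have hodd : Fintype.card F % 2 = 1 := FiniteField.odd_card_of_char_ne_two (fun h => h2 (by
      haveI := ringChar.of_eq h
      exact CharP.cast_eq_zero F 2))
    obtain ⟨s, t, hst⟩ := FiniteField.exists_root_sum_quadratic
      (f := Polynomial.C (Q p) * Polynomial.X ^ 2) (g := Polynomial.C (Q q) * Polynomial.X ^ 2 - Polynomial.C c)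
      (Polynomial.degree_C_mul_X_pow 2 hp)
      (by rw [Polynomial.degree_sub_eq_left_of_degree_lt (by
            rw [Polynomial.degree_C_mul_X_pow 2 hq]
            exact lt_of_le_of_lt Polynomial.degree_C_le (by norm_num)), Polynomial.degree_C_mul_X_pow 2 hq]; rfl)
      hodd
    refine ⟨s, t, ?_⟩
    rw [map_add', map_smul', map_smul', polar_smul_left', polar_smul_right', hpq]
    simp only [Polynomial.eval_mul, Polynomial.eval_sub, Polynomial.eval_C, Polynomial.eval_pow, Polynomial.eval_X] at hst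
    linear_combination hst

theorem exists_nonsingular_mem {W : Submodule F (ι → F)} (hW : IsNondegenerateOn (polar ⇑Q) W) (h0 : W ≠ ⊥) :
    ∃ p ∈ W, Q p ≠ 0 := by
  by_contra hc
  push Not at hc
  obtain ⟨w, hw, hw0⟩ := Submodule.exists_mem_ne_zero_of_ne_bot h0
  obtain ⟨⟨x, hx, hne⟩, -⟩ := hW w hw hw0
  exact hne (polar_eq_zero_of_singular hc hx hw)

/-- A decomposition into many or large parts. -/
theorem SiegelIn.not_decomp (hQ : (polarBilin Q).Nondegenerate) (hn : 5 ≤ Fintype.card ι) {t k : ℕ}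
    {D : Fin t → Submodule F (ι → F)} (hD : IsMDecomposition k D)
    (h : 3 ≤ k ∨ (4 ≤ t ∧ IsNondegenerateMDecomposition (polar ⇑Q) k D)) :
    ¬ SiegelIn Q (decompositionStabilizer D) := by
  classical
  intro hS
  have hne : ∀ i, D i ≠ ⊥ := fun i h0 => by
    have := hD.finrank_eq i
    rw [h0, finrank_bot] at this
    exact hD.pos.ne this
  by_cases hk : 3 ≤ k
  · -- each part is fixed
    have hfix : ∀ i, ∀ u a, Q u = 0 → polar Q u a = 0 → ∀ w ∈ D i, sie Q u a w ∈ D i := by
      intro i u a hu ha w hw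
      obtain ⟨g, ⟨σ, hσ⟩, hgx⟩ := hS u a hu ha
      by_contra hmem
      have hij : σ i ≠ i := fun e => hmem (by
        rw [← hgx]; have := hσ i; rw [e] at this
        rw [← this]; exact ⟨w, hw, rfl⟩)
      let φ : D i →ₗ[F] (ι → F) := ((Matrix.toLin' (g : Matrix ι ι F)) - LinearMap.id).comp (D i).subtype
      have hinj : Function.Injective φ := by
        refine (injective_iff_map_eq_zero φ).2 fun v hv => Subtype.ext ?_
        have h1 : (g : Matrix ι ι F) *ᵥ (v : ι → F) = v := by
          have : Matrix.toLin' (g : Matrix ι ι F) (v : ι → F) - v = 0 := hv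
          rwa [Matrix.toLin'_apply, sub_eq_zero] at this
        have h2 : (v : ι → F) ∈ D (σ i) := by rw [← hσ i]; exact ⟨v, v.2, by rw [Matrix.toLin'_apply, h1]⟩
        exact Submodule.disjoint_def.1 (hD.indep.pairwiseDisjoint hij) _ h2 v.2
      have hr : LinearMap.range φ ≤ Submodule.span F ({u, a} : Set (ι → F)) := by
        rintro _ ⟨v, rfl⟩
        show Matrix.toLin' (g : Matrix ι ι F) (v : ι → F) - v ∈ _
        rw [Matrix.toLin'_apply, hgx]
        exact sie_sub_mem u a _
      have h1 := Submodule.finrank_mono hr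
      rw [LinearMap.finrank_range_of_inj hinj, hD.finrank_eq] at h1
      have := finrank_pair_le (F := F) u a
      omega
    have h2 := hD.two_le
    rcases SiegelIn.irred hQ (by omega) (hfix ⟨0, by omega⟩) with h0 | h0
    · exact hne _ h0
    · refine hne ⟨1, by omega⟩ (le_bot_iff.1 ?_)
      have := hD.indep.pairwiseDisjoint (show (⟨1, by omega⟩ : Fin t) ≠ ⟨0, by omega⟩ from fun e => by simp at e)
      rw [Function.onFun, h0] at this
      exact (disjoint_top.1 this).le
  · obtain ⟨ht, hN⟩ := h.resolve_left hk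
    choose p hp hp0 using fun i => exists_nonsingular_mem (hN.nondegenerate i) (hne i)
    let i : Fin t := ⟨0, by omega⟩
    let j : Fin t := ⟨1, by omega⟩
    let j' : Fin t := ⟨2, by omega⟩
    let l : Fin t := ⟨3, by omega⟩
    have hij : i ≠ j := fun e => by simp [i, j] at e
    have hij' : i ≠ j' := fun e => by simp [i, j'] at e
    have hjj' : j ≠ j' := fun e => by simp [j, j'] at e
    have hil : i ≠ l := fun e => by simp [i, l] at e
    have hjl : j ≠ l := fun e => by simp [j, l] at e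
    have hj'l : j' ≠ l := fun e => by simp [j', l] at e
    obtain ⟨c, d, hcd⟩ := exists_value (hN.orthogonal j j' hjj' _ (hp j) _ (hp j')) (hp0 j) (hp0 j') (-(Q (p i)))
    set b := c • p j + d • p j' with hb
    set u := p i + b with hu'
    have hob : ∀ m, m ≠ j → m ≠ j' → ∀ z ∈ D m, polar Q z b = 0 := fun m h1 h2 z hz => by
      rw [hb, polar_add_right, polar_smul_right', polar_smul_right', hN.orthogonal m j h1 z hz _ (hp j),
        hN.orthogonal m j' h2 z hz _ (hp j')]
      ring
    have hib : polar Q (p i) b = 0 := hob i hij hij' _ (hp i)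
    have hu : Q u = 0 := by rw [hu', map_add', hib, hcd]; ring
    have hua : polar Q u (p l) = 0 := by
      rw [hu', polar_add_left, hN.orthogonal i l hil _ (hp i) _ (hp l), polar_comm Q b,
        hob l hjl.symm hj'l.symm _ (hp l), add_zero]
    obtain ⟨g, ⟨σ, hσ⟩, hgx⟩ := hS u (p l) hu hua
    obtain ⟨⟨x, hx, hxp⟩, -⟩ := hN.nondegenerate i (p i) (hp i) (fun e => hp0 i (by rw [e, QuadraticMap.map_zero]))
    have hxu : polar Q x u = polar Q x (p i) := by
      rw [hu', polar_add_right, hob i hij hij' x hx, add_zero]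
    have hmem : sie Q u (p l) x ∈ D (σ i) := by
      rw [← hgx, ← hσ i]; exact ⟨x, hx, rfl⟩
    set P := polar Q x u
    have hP : P ≠ 0 := by rw [show P = _ from hxu]; exact hxp
    set κ := polar Q x (p l) + Q (p l) * P
    have hκ : κ = Q (p l) * P := by
      simp only [κ]; rw [hN.orthogonal i l hil x hx _ (hp l), zero_add]
    have hexp : sie Q u (p l) x = (x - κ • p i) + (-κ) • b + P • p l := by
      simp only [sie, hu', P, κ]; module
    have hothers : ∀ m, m ≠ l → (∀ z ∈ D m, polar Q z (p l) = 0) := fun m hm z hz =>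
      hN.orthogonal m l hm z hz _ (hp l)
    have hl : σ i = l := by
      by_contra hne'
      obtain ⟨⟨z, hz, hzl⟩, -⟩ := hN.nondegenerate l (p l) (hp l) (fun e => hp0 l (by rw [e, QuadraticMap.map_zero]))
      have h1 := hN.orthogonal l (σ i) (Ne.symm hne') z hz _ hmem
      rw [hexp, polar_add_right, polar_add_right, polar_sub_right, polar_smul_right', polar_smul_right',
        polar_smul_right', hN.orthogonal l i hil.symm z hz x hx, hN.orthogonal l i hil.symm z hz _ (hp i),
        hob l hjl.symm hj'l.symm z hz] at h1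
      exact mul_ne_zero hP hzl (by linear_combination h1)
    rw [hl] at hmem
    -- pairing with `b` shows that `b` vanishes
    have hbne : b ≠ 0 := fun e => hp0 i (by
      have := hcd
      rw [e, QuadraticMap.map_zero] at this
      linear_combination this)
    have hbmem : b ∈ D j ⊔ D j' := Submodule.add_mem_sup (Submodule.smul_mem _ c (hp j)) (Submodule.smul_mem _ d (hp j'))
    obtain ⟨⟨z, hz, hzb⟩, -⟩ := nondeg_sup (hN.orthogonal j j' hjj') (hN.nondegenerate j) (hN.nondegenerate j') b hbmem hbne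
    obtain ⟨z₁, hz₁, z₂, hz₂, rfl⟩ := Submodule.mem_sup.1 hz
    have hzero : ∀ m, m ≠ i → m ≠ l → ∀ z ∈ D m, polar Q z b = 0 := fun m hmi hml z hz => by
      have h1 := hN.orthogonal m l hml z hz _ hmem
      rw [hexp, polar_add_right, polar_add_right, polar_sub_right, polar_smul_right', polar_smul_right',
        polar_smul_right', hN.orthogonal m i hmi z hz x hx, hN.orthogonal m i hmi z hz _ (hp i),
        hothers m hml z hz] at h1
      refine (mul_eq_zero.1 (show κ * polar Q z b = 0 by linear_combination -h1)).resolve_left ?_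
      rw [hκ]; exact mul_ne_zero (hp0 l) hP
    exact hzb (by rw [polar_add_left, hzero j hij.symm hjl z₁ hz₁, hzero j' hij'.symm hj'l z₂ hz₂, add_zero])

theorem omega_perfect (hQ : (polarBilin Q).Nondegenerate) (hn : 5 ≤ Fintype.card ι) :
    omegaGL ⇑Q ≤ ⁅omegaGL ⇑Q, omegaGL ⇑Q⁆ := by
  have hn' : 5 ≤ Module.finrank F (ι → F) := by rwa [Module.finrank_fintype_fun_eq_card]
  have hR := reflGroup_eq_orth hQ (Or.inl (by omega))
  have hC := commutator_eq_siegel hQ (by omega) (splitSingular_of hQ (Or.inl (by omega))) hR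
  rw [omegaGL_eq_map, ← Subgroup.map_commutator]
  refine Subgroup.map_mono fun x hx => ?_
  have h1 : ((commutator (orth Q)).map (orth Q).subtype) = siegelGroup Q := by
    rw [hC, Subgroup.subgroupOf_map_subtype, inf_eq_left.2 siegelGroup_le_orth]
  have h2 : (x : (ι → F) ≃ₗ[F] (ι → F)) ∈ ⁅siegelGroup Q, siegelGroup Q⁆ :=
    siegelGroup_perfect hQ hn' (h1 ▸ Subgroup.mem_map_of_mem _ hx)
  rw [← h1, ← Subgroup.map_commutator] at h2
  obtain ⟨y, hy, hyx⟩ := h2
  rwa [← Subtype.ext hyx]

/-- The group does not normalise a field. -/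
theorem not_field (hQ : (polarBilin Q).Nondegenerate) (hn : 5 ≤ Fintype.card ι) {r : ℕ} (hr : 2 ≤ r)
    {K : Subalgebra F (Matrix ι ι F)} (hK : IsFieldSubalgebra r K) : ¬ omegaGL ⇑Q ≤ subalgebraNormalizer K := by
  classical
  intro hle
  haveI : Nonempty ι := Fintype.card_pos_iff.1 (by omega)
  haveI : Finite (Matrix ι ι F) := inferInstanceAs (Finite (ι → ι → F))
  letI : CommRing K := { (inferInstance : Ring K) with mul_comm := fun a b => Subtype.ext (hK.comm _ a.2 _ b.2) }
  haveI : Nontrivial K := ⟨1, 0, fun e => one_ne_zero (congrArg Subtype.val e : (1 : Matrix ι ι F) = 0)⟩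
  haveI : NoZeroDivisors K := ⟨fun {a b} hab => by
    by_contra hc
    rw [not_or] at hc
    obtain ⟨y, -, hy⟩ := hK.inv a a.2 fun e => hc.1 (Subtype.ext e)
    refine hc.2 (Subtype.ext ?_)
    have hab' : (a : Matrix ι ι F) * (b : Matrix ι ι F) = 0 := congrArg Subtype.val hab
    rw [hK.comm _ a.2 _ b.2] at hab'
    show (b : Matrix ι ι F) = 0
    rw [← mul_one (b : Matrix ι ι F), ← hy, ← mul_assoc, hab', zero_mul]⟩
  haveI : IsDomain K := NoZeroDivisors.to_isDomain _
  haveI : IsCyclic Kˣ := isCyclic_of_injective_ringHom (Units.coeHom K) Units.val_injective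
  obtain ⟨k₀, hk₀⟩ := IsCyclic.exists_generator (α := Kˣ)
  set K0 : Matrix ι ι F := ((k₀ : K) : Matrix ι ι F)
  have hgen : ∀ k ∈ K, k ≠ 0 → ∃ i : ℕ, K0 ^ i = k := fun k hk hne => by
    obtain ⟨y, hyK, hy⟩ := hK.inv k hk hne
    let ku : Kˣ := ⟨⟨k, hk⟩, ⟨y, hyK⟩, Subtype.ext hy, Subtype.ext (by
      show y * k = 1; rw [hK.comm _ hyK _ hk, hy])⟩
    obtain ⟨i, hi⟩ := (mem_powers_iff_mem_zpowers (x := k₀) (y := ku)).2 (hk₀ ku)
    refine ⟨i, ?_⟩
    have := congrArg (fun z : Kˣ => ((z : K) : Matrix ι ι F)) hi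
    simpa [K0, ku] using this
  have hK0 : K0 ∈ K := (k₀ : K).2
  have hK0ne : K0 ≠ 0 := fun e => k₀.ne_zero (Subtype.ext e)
  have hcj : ∀ g ∈ subalgebraNormalizer K, ∃ a : ℕ, cj g K0 = K0 ^ a := fun g hg => by
    obtain ⟨a, ha⟩ := hgen (cj g K0) (by rw [cj_apply]; exact (hg K0).1 hK0)
      (fun e => hK0ne ((cj g).injective (by rw [e, map_zero])))
    exact ⟨a, ha.symm⟩
  let C : Subgroup (GL ι F) :=
    { carrier := {g | cj g K0 = K0}
      one_mem' := cj_one _
      mul_mem' := fun {a b} (ha : cj a K0 = K0) (hb : cj b K0 = K0) => show cj (a * b) K0 = K0 by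
        rw [← cj_cj, hb, ha]
      inv_mem' := fun {a} (ha : cj a K0 = K0) => show cj a⁻¹ K0 = K0 by
        conv_lhs => rw [← ha]
        exact cj_inv_cj _ _ }
  have hsub : omegaGL ⇑Q ≤ C := (omega_perfect hQ hn).trans (Subgroup.commutator_le.2 fun g hg h hh => by
    obtain ⟨a, ha⟩ := hcj g (hle hg)
    obtain ⟨b, hb⟩ := hcj h (hle hh)
    show cj ⁅g, h⁆ K0 = K0
    have hcomm : cj g (cj h K0) = cj h (cj g K0) := by
      rw [hb, map_pow, ha, map_pow, hb, ← pow_mul, ← pow_mul, mul_comm]
    rw [commutatorElement_def, ← cj_cj, ← cj_cj, ← cj_cj]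
    have : cj g (cj h (cj g⁻¹ (cj h⁻¹ K0))) = K0 := by
      set y := cj g⁻¹ (cj h⁻¹ K0) with hy
      have e1 : cj h (cj g y) = K0 := by
        rw [hy, cj_cj g g⁻¹, mul_inv_cancel, cj_one, cj_cj, mul_inv_cancel, cj_one]
      obtain ⟨a', ha'⟩ := hcj g⁻¹ (inv_mem (hle hg))
      obtain ⟨b', hb'⟩ := hcj h⁻¹ (inv_mem (hle hh))
      have e2 : y = K0 ^ (a' * b') := by rw [hy, hb', map_pow, ha', ← pow_mul]
      rw [e2, map_pow, map_pow, hcomm, ← map_pow, ← map_pow, ← e2, e1]
    exact this)
  obtain ⟨c, hc⟩ := (siegelIn_omega hQ hn).comm_scalar hQ (by omega) K0 fun g hg =>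
    (cj_eq_self_iff g K0).1 (hsub hg)
  have hbot : K = ⊥ := eq_bot_iff.2 fun k hk => by
    by_cases hk0 : k = 0
    · rw [hk0]; exact zero_mem _
    · obtain ⟨i, hi⟩ := hgen k hk hk0
      rw [← hi]
      refine pow_mem ?_ i
      rw [hc]; exact Subalgebra.smul_mem _ (one_mem _) _
  have := hK.finrank_eq
  rw [hbot, Subalgebra.finrank_bot] at this
  omega

/-- The group does not preserve a structure over a proper subfield. -/
theorem not_subfield (hQ : (polarBilin Q).Nondegenerate) (hn : 5 ≤ Fintype.card ι) {F₀ : Subfield F}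
    (hF : F₀ ≠ ⊤) (P : GL ι F) : ¬ SiegelIn Q (subfieldSubgroup F₀ P) := by
  classical
  intro hS
  haveI : Nonempty ι := Fintype.card_pos_iff.1 (by omega)
  obtain ⟨u, hu0, hu⟩ := exists_nonzero_singular hQ (by omega)
  obtain ⟨f, hf, hef⟩ := exists_pair hQ hu0 hu
  obtain ⟨a, ha0, ha, hap⟩ := exists_singular_pairPerp hQ (by rwa [Module.finrank_fintype_fun_eq_card]) hu hf hef
  obtain ⟨hua, hfa⟩ := mem_pairPerp.1 hap
  set N : Matrix ι ι F := (↑P⁻¹ : Matrix ι ι F) *
    LinearMap.toMatrix' (((polarBilin Q).flip u).smulRight a - ((polarBilin Q).flip a).smulRight u) *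
    (P : Matrix ι ι F) with hNdef
  have hN0 : ∀ x, (LinearMap.toMatrix' (((polarBilin Q).flip u).smulRight a - ((polarBilin Q).flip a).smulRight u)) *ᵥ x =
      polar Q x u • a - polar Q x a • u := fun x => by
    rw [← Matrix.toLin'_apply, Matrix.toLin'_toMatrix']; rfl
  set N₀ := LinearMap.toMatrix' (((polarBilin Q).flip u).smulRight a - ((polarBilin Q).flip a).smulRight u)
  have hsq : N₀ * N₀ = 0 := Matrix.ext_of_mulVec_single fun i => by
    rw [← Matrix.mulVec_mulVec, hN0, hN0, Matrix.zero_mulVec]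
    simp only [polar_sub_left, polar_smul_left', polar_self', hu, ha, polar_comm Q a u, hua]
    simp
  have hNsq : N * N = 0 := by
    rw [hNdef]
    calc (↑P⁻¹ : Matrix ι ι F) * N₀ * P * ((↑P⁻¹ : Matrix ι ι F) * N₀ * P) =
        (↑P⁻¹ : Matrix ι ι F) * (N₀ * ((P : Matrix ι ι F) * (↑P⁻¹ : Matrix ι ι F)) * N₀) * P := by
          simp only [mul_assoc]
      _ = 0 := by rw [Units.mul_inv, mul_one, hsq, mul_zero, zero_mul]
  have hNne : N ≠ 0 := fun e => by
    have h1 : N₀ = 0 := by
      have := congrArg (fun M => (P : Matrix ι ι F) * M * (↑P⁻¹ : Matrix ι ι F)) e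
      simpa [hNdef, ← mul_assoc] using this
    have h2 := hN0 f
    rw [h1, Matrix.zero_mulVec, polar_comm Q f u, hef, one_smul, hfa, zero_smul, sub_zero] at h2
    exact ha0 h2.symm
  have hmem : ∀ t : F, ∃ (c : F) (M : Matrix ι ι F), AschbacherForm.Rat' F₀ M ∧ 1 + t • N = c • M := by
    intro t
    obtain ⟨g, hg, hgx⟩ := hS u (t • a) hu (by rw [polar_smul_right', hua, mul_zero])
    obtain ⟨z, hz, rfl⟩ := hg
    haveI := (scalars_normal (ι := ι) (F := F))
    obtain ⟨x, ⟨M₀, rfl⟩, s, hs, rfl⟩ := Subgroup.mem_sup_of_normal_right.1 hz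
    obtain ⟨c, hc⟩ := (mem_scalars_iff s).1 hs
    refine ⟨c, (Matrix.GeneralLinearGroup.map (F₀.subtype : F₀ →+* F) M₀ : GL ι F), fun i j => ?_, ?_⟩
    · simp [Matrix.GeneralLinearGroup.map]
    have h1 : (P : Matrix ι ι F) * ((Matrix.GeneralLinearGroup.map (F₀.subtype : F₀ →+* F) M₀ : GL ι F) * s : GL ι F) *
        (↑P⁻¹ : Matrix ι ι F) = 1 + t • N₀ := Matrix.ext_of_mulVec_single fun i => by
      generalize (Pi.single i (1 : F) : ι → F) = x
      rw [Matrix.add_mulVec, Matrix.one_mulVec, Matrix.smul_mulVec, hN0]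
      refine (hgx x).trans ?_
      simp only [sie, map_smul', polar_smul_right', ha]
      module
    rw [Units.val_mul, hc, Matrix.mul_smul, mul_one] at h1
    have := congrArg (fun M => (↑P⁻¹ : Matrix ι ι F) * M * (P : Matrix ι ι F)) h1
    simpa [hNdef, mul_assoc, mul_add, add_mul] using this.symm
  obtain ⟨i, j, hij⟩ : ∃ i j, N i j ≠ 0 := by
    by_contra hc
    push Not at hc
    exact hNne (Matrix.ext hc)
  obtain ⟨π, hπ⟩ := (Algebra.linearMap F₀ F).exists_leftInverse_of_injective
    (LinearMap.ker_eq_bot.2 (algebraMap F₀ F).injective)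
  have hrat : ∀ t : F, ∀ i j, t * N i j ∈ F₀ := by
    intro t
    obtain ⟨c, M, hM, hc⟩ := hmem t
    by_cases ht : t = 0
    · intro i j; rw [ht, zero_mul]; exact F₀.zero_mem
    have hc0 : c ≠ 0 := fun e => by
      rw [e, zero_smul] at hc
      have h1 := congrArg (fun X => (1 - t • N) * X) hc
      simp only [mul_zero, mul_add, mul_one, sub_mul, one_mul, Matrix.smul_mul, Matrix.mul_smul, hNsq, smul_zero,
        sub_zero, sub_add_cancel] at h1
      exact one_ne_zero h1
    have hMsq : (c * c) • (M * M) - (2 * c) • M + (1 : Matrix ι ι F) = 0 := by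
      have h1 : (c • M - 1) * (c • M - 1) = 0 := by
        rw [← hc, add_sub_cancel_left, Matrix.smul_mul, Matrix.mul_smul, hNsq, smul_zero, smul_zero]
      rw [sub_mul, mul_sub, mul_sub, one_mul, mul_one, one_mul, Matrix.smul_mul, Matrix.mul_smul, smul_smul] at h1
      rw [← h1]; module
    have hMM : M * M = (2 * c⁻¹) • M - (c⁻¹ * c⁻¹) • (1 : Matrix ι ι F) := by
      have := congrArg ((c⁻¹ * c⁻¹) • ·) hMsq
      simp only [smul_add, smul_sub, smul_smul, smul_zero] at this
      rw [show c⁻¹ * c⁻¹ * (c * c) = 1 by field_simp, one_smul,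
        show c⁻¹ * c⁻¹ * (2 * c) = 2 * c⁻¹ by field_simp] at this
      linear_combination (norm := module) this
    have hπ1 : ∀ y : F₀, π (y : F) = y := fun y => LinearMap.congr_fun hπ y
    have hπm : ∀ (p : F) (q : F), q ∈ F₀ → ((π (p * q) : F₀) : F) = π p * q := fun p q hq => by
      rw [mul_comm p, show q * p = (⟨q, hq⟩ : F₀) • p from rfl, map_smul, smul_eq_mul, mul_comm]
      rfl
    set α := 2 * c⁻¹ - (π (2 * c⁻¹) : F₀)
    set β := c⁻¹ * c⁻¹ - (π (c⁻¹ * c⁻¹) : F₀)
    have hlin : α • M = β • (1 : Matrix ι ι F) := by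
      ext i j
      have h1 := congrFun (congrFun hMM i) j
      simp only [Matrix.sub_apply, Matrix.smul_apply, smul_eq_mul] at h1
      have hq : (M * M) i j ∈ F₀ := by
        rw [Matrix.mul_apply]; exact F₀.sum_mem fun k _ => F₀.mul_mem (hM i k) (hM k j)
      have h1' : ((1 : Matrix ι ι F) i j) ∈ F₀ := by
        rw [Matrix.one_apply]; split_ifs <;> first | exact F₀.one_mem | exact F₀.zero_mem
      have h2 := congrArg (fun y : F => ((π y : F₀) : F)) h1
      simp only [map_sub, AddSubgroupClass.coe_sub, hπm _ _ (hM i j), hπm _ _ h1'] at h2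
      rw [show ((π ((M * M) i j) : F₀) : F) = (M * M) i j by
        rw [show ((M * M) i j) = ((⟨_, hq⟩ : F₀) : F) from rfl, hπ1]] at h2
      simp only [Matrix.smul_apply, smul_eq_mul, α, β]
      linear_combination h2 - h1
    have hα : α = 0 := by
      by_contra hα
      have h1 : M = (β / α) • (1 : Matrix ι ι F) := by
        have := congrArg (α⁻¹ • ·) hlin
        rwa [smul_smul, smul_smul, inv_mul_cancel₀ hα, one_smul, ← div_eq_inv_mul] at this
      rw [h1, smul_smul] at hc
      have h2 := congrArg (· * N) hc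
      simp only [add_mul, one_mul, Matrix.smul_mul, hNsq, smul_zero, add_zero] at h2
      have h3 : (1 - c * (β / α)) • N = 0 := by rw [sub_smul, one_smul, ← h2, sub_self]
      rcases smul_eq_zero.1 h3 with h4 | h4
      · rw [← sub_eq_zero.1 h4, one_smul, add_eq_left] at hc
        exact hNne ((smul_eq_zero.1 hc).resolve_left ht)
      · exact hNne h4
    have hβ : β = 0 := by
      rw [hα, zero_smul] at hlin
      exact (smul_eq_zero.1 hlin.symm).resolve_right one_ne_zero
    have hc2 : c⁻¹ * c⁻¹ ∈ F₀ := by rw [sub_eq_zero.1 hβ]; exact (π _).2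
    have h2c : 2 * c⁻¹ ∈ F₀ := by rw [sub_eq_zero.1 hα]; exact (π _).2
    have hcF : c⁻¹ ∈ F₀ := by
      by_cases h2 : (2 : F) = 0
      · refine (AschbacherForm.mem_subfield_iff F₀).2 (sub_eq_zero.1 (mul_self_eq_zero.1 ?_))
        have h3 := (AschbacherForm.mem_subfield_iff F₀).1 hc2
        rw [mul_pow] at h3
        linear_combination h3 + (c⁻¹ * c⁻¹ - c⁻¹ ^ Nat.card F₀ * c⁻¹) * h2
      · have h3 : (2 : F) ∈ F₀ := by rw [← one_add_one_eq_two]; exact F₀.add_mem F₀.one_mem F₀.one_mem
        simpa [h2] using F₀.mul_mem (F₀.inv_mem h3) h2c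
    have hcF' : c ∈ F₀ := by simpa using F₀.inv_mem hcF
    intro i j
    have h3 : t * N i j = c * M i j - (1 : Matrix ι ι F) i j := by
      have := congrFun (congrFun hc i) j
      simp only [Matrix.add_apply, Matrix.smul_apply, smul_eq_mul] at this
      linear_combination this
    rw [h3]
    refine F₀.sub_mem (F₀.mul_mem hcF' (hM i j)) ?_
    rw [Matrix.one_apply]; split_ifs <;> first | exact F₀.one_mem | exact F₀.zero_mem
  refine hF (eq_top_iff.2 fun y _ => ?_)
  have := hrat (y / N i j) i j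
  rwa [div_mul_cancel₀ _ hij] at this

/-- An element fixing many pure tensors is scalar on a small factor. -/
theorem factor_scalar {κ μ : Type} [Fintype κ] [DecidableEq κ] [Nonempty κ] [Fintype μ] [DecidableEq μ]
    (hμ : 3 ≤ Fintype.card μ) (A : GL κ F) (B : GL μ F) (φ₁ φ₂ : (κ × μ → F) →ₗ[F] F)
    (h : ∀ z, φ₁ z = 0 → φ₂ z = 0 → ((AschbacherForm.kronGL A B : GL (κ × μ) F) : Matrix (κ × μ) (κ × μ) F) *ᵥ z = z) :
    ∃ c : F, (A : Matrix κ κ F) = c • (1 : Matrix κ κ F) := by
  classical
  have heig : ∀ x : κ → F, ∃ c : F, (A : Matrix κ κ F) *ᵥ x = c • x := by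
    intro x
    let T : (μ → F) →ₗ[F] (κ × μ → F) :=
      { toFun := fun y p => x p.1 * y p.2
        map_add' := fun y y' => funext fun p => mul_add _ _ _
        map_smul' := fun c y => funext fun p => by simp; ring }
    obtain ⟨y, hy, hy0⟩ : ∃ y, ((φ₁.comp T).prod (φ₂.comp T)) y = 0 ∧ y ≠ 0 := by
      by_contra hc
      push Not at hc
      have h1 := LinearMap.finrank_le_finrank_of_injective ((injective_iff_map_eq_zero _).2 hc)
      rw [Module.finrank_fintype_fun_eq_card, Module.finrank_prod, Module.finrank_self] at h1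
      omega
    have h1 := h (T y) (congrArg Prod.fst hy :) (congrArg Prod.snd hy :)
    obtain ⟨l, hl⟩ : ∃ l, y l ≠ 0 := by
      by_contra hc
      push Not at hc
      exact hy0 (funext hc)
    have h2 : ∀ p, ((A : Matrix κ κ F) *ᵥ x) p * ((B : Matrix μ μ F) *ᵥ y) l = x p * y l := fun p => by
      have := congrFun h1 (p, l)
      refine Eq.trans ?_ this
      rw [AschbacherForm.kronGL_val]
      simp only [Matrix.mulVec, dotProduct, Matrix.kronecker_apply, T, LinearMap.coe_mk, AddHom.coe_mk,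
        Fintype.sum_prod_type, Finset.sum_mul_sum]
      exact Finset.sum_congr rfl fun _ _ => Finset.sum_congr rfl fun _ _ => by ring
    by_cases hB : ((B : Matrix μ μ F) *ᵥ y) l = 0
    · refine ⟨0, ?_⟩
      have hx : x = 0 := funext fun p => by
        have := h2 p
        rw [hB, mul_zero] at this
        exact (mul_eq_zero.1 this.symm).resolve_right hl
      rw [hx, Matrix.mulVec_zero, zero_smul]
    · refine ⟨y l / ((B : Matrix μ μ F) *ᵥ y) l, funext fun p => ?_⟩
      rw [Pi.smul_apply, smul_eq_mul, eq_comm, div_mul_eq_mul_div, div_eq_iff hB, h2 p, mul_comm]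
  choose c hc using heig
  obtain ⟨p₀⟩ := ‹Nonempty κ›
  refine ⟨c (Pi.single p₀ 1), Matrix.ext_of_mulVec_single fun p => ?_⟩
  rw [Matrix.smul_mulVec, Matrix.one_mulVec, hc]
  congr 1
  by_cases hp : p = p₀
  · rw [hp]
  · have h1 := hc (Pi.single p 1 + Pi.single p₀ 1)
    rw [Matrix.mulVec_add, hc, hc] at h1
    have e1 := congrFun h1 p
    have e2 := congrFun h1 p₀
    simp [hp, Ne.symm hp] at e1 e2
    rw [e1, e2]

/-- The group does not preserve a tensor decomposition. -/
theorem not_tensor (hQ : (polarBilin Q).Nondegenerate) (hn : 5 ≤ Fintype.card ι) {n₁ n₂ : ℕ} (h1 : 2 ≤ n₁)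
    (h2 : 3 ≤ n₂) (e : ι ≃ Fin n₁ × Fin n₂) (P : GL ι F) : ¬ SiegelIn Q (tensorProductSubgroup n₁ n₂ e P) := by
  classical
  intro hS
  haveI : Nonempty (Fin n₁) := ⟨⟨0, by omega⟩⟩
  haveI : Nonempty (Fin n₂) := ⟨⟨0, by omega⟩⟩
  let i₀ : Fin n₁ := ⟨0, by omega⟩
  let i₁ : Fin n₁ := ⟨1, by omega⟩
  set M := (AschbacherForm.coordR e P).symm
    ((Matrix.single i₀ i₁ (1 : F)) ⊗ₖ (1 : Matrix (Fin n₂) (Fin n₂) F)) with hM
  let T : (Fin n₁ × Fin n₂ → F) →ₗ[F] (ι → F) :=
    (Matrix.toLin' (P : Matrix ι ι F)).comp (LinearMap.funLeft F F e)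
  obtain ⟨c, hc⟩ := scalar_of_comm_sie hQ (by omega) M fun u a hu ha x => by
    obtain ⟨g, ⟨z, ⟨w, ⟨A, B, hAB⟩, rfl⟩, rfl⟩, hgx⟩ := hS u a hu ha
    set g := (MulAut.conj P).toMonoidHom ((glReindex e.symm).toMonoidHom w) with hg
    have hcoord : AschbacherForm.coordR e P (g : Matrix ι ι F) =
        (AschbacherForm.kronGL A B : Matrix (Fin n₁ × Fin n₂) (Fin n₁ × Fin n₂) F) := by
      rw [AschbacherForm.coordR_gl, AschbacherForm.kronGL_val, ← hAB, hg]
      congr 1
      have : P⁻¹ * ((MulAut.conj P).toMonoidHom ((glReindex e.symm).toMonoidHom w)) * P = glReindex e.symm w := by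
        simp [mul_assoc]
      rw [this]
      refine Units.ext ?_
      ext p q
      simp [glReindex]
    have hTg : ∀ v, (g : Matrix ι ι F) *ᵥ (T v) = T ((AschbacherForm.kronGL A B : Matrix _ _ F) *ᵥ v) := fun v => by
      rw [← hcoord, AschbacherForm.coordR_apply, Matrix.submatrix_mulVec_equiv]
      simp [T, LinearMap.funLeft, Matrix.mulVec_mulVec, Function.comp_assoc, ← mul_assoc, Function.comp_def]
    have hTinj : Function.Injective T := fun v v' hv => by
      have h := Matrix.mulVec_injective_of_isUnit P.isUnit (show (P : Matrix ι ι F) *ᵥ (v ∘ e) = (P : Matrix ι ι F) *ᵥ (v' ∘ e) from hv)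
      funext p
      simpa using congrFun h (e.symm p)
    obtain ⟨d, hd⟩ := factor_scalar (by simpa using h2) A B ((polarBilin Q).flip u ∘ₗ T) ((polarBilin Q).flip a ∘ₗ T)
      fun z h₁ h₂ => hTinj (by
        rw [← hTg, hgx]
        have h₁' : polar Q (T z) u = 0 := h₁
        have h₂' : polar Q (T z) a = 0 := h₂
        simp only [sie, h₁', h₂']
        module)
    rw [← hgx, ← hgx, Matrix.mulVec_mulVec, Matrix.mulVec_mulVec]
    congr 1
    refine (AschbacherForm.coordR e P).injective ?_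
    rw [map_mul, map_mul, hcoord, hM, AlgEquiv.apply_symm_apply, AschbacherForm.kronGL_val,
      ← Matrix.mul_kronecker_mul, ← Matrix.mul_kronecker_mul, mul_one, one_mul, hd, Matrix.smul_mul, Matrix.mul_smul,
      one_mul, mul_one]
  have h := congrArg (AschbacherForm.coordR e P) hc
  rw [hM, AlgEquiv.apply_symm_apply, map_smul, map_one] at h
  have h0 := congrFun (congrFun h (i₀, ⟨0, by omega⟩)) (i₁, ⟨0, by omega⟩)
  simp [Matrix.kronecker_apply, i₀, i₁] at h0

end CfsgLib.AschbacherOrth
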