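import Cfsg.Agent.Lib.AschbacherOrth.Field
import Cfsg.Agent.Lib.AschbacherOrth.Proper
import Cfsg.Agent.Lib.AschbacherOrth.Residual
import Cfsg.Agent.Lib.AschbacherForm.Wreath
import Cfsg.Agent.Lib.AschbacherForm.SympBase
import Cfsg.Agent.Lib.Geometry.POmegaStd

/-!
# Classes of orthogonal groups in odd dimension
-/

set_option autoImplicit false
set_option linter.unusedSectionVars false
set_option linter.style.show false

namespace CfsgLib.AschbacherOrth

open QuadraticMap Cfsg Cfsg.Geo CfsgLib.Geometry CfsgLib.Aschbacher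
open CfsgLib.AschbacherForm (Geom IsSim SimpleData)
open scoped Matrix MatrixGroups

universe u
variable {F : Type u} [Field F] [Fintype F] {ι : Type} [Fintype ι] [DecidableEq ι]
variable {Q : QuadraticForm F (ι → F)}

theorem two_ne_of_odd (h : Odd (Fintype.card F)) : (2 : F) ≠ 0 :=
  fun h2 => AschbacherForm.finite_two_iff.1 h2 h

/-- The standard form of odd dimension as a quadratic form. -/
theorem exists_std_odd (h2 : (2 : F) ≠ 0) (m : ℕ) :
    ∃ Q : QuadraticForm F (Unit ⊕ (Fin m ⊕ Fin m) → F), ⇑Q = Cfsg.quadFormOdd m F ∧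
      (polarBilin Q).Nondegenerate ∧
      ∀ (F₁ : Subfield F) (u : Unit ⊕ (Fin m ⊕ Fin m) → F), (∀ i, u i ∈ F₁) → Q u ∈ F₁ := by
  refine ⟨matQuad (CfsgLib.Geometry.oddMat m F), coe_matQuad_odd m, nondegenerate_matQuad ?_, fun F₁ u hu => ?_⟩
  · rw [det_odd_gram]
    exact mul_ne_zero h2 (pow_ne_zero _ (neg_ne_zero.2 one_ne_zero))
  · rw [coe_matQuad_odd]
    exact F₁.add_mem (F₁.pow_mem (hu _) 2) (F₁.sum_mem fun i _ => F₁.mul_mem (hu _) (hu _))

/-- The groups preserving no non-zero totally singular subspace and no non-degenerate one of even dimension are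
irreducible. -/
theorem reducible_odd (hQ : (polarBilin Q).Nondegenerate) (h2 : (2 : F) ≠ 0) (hodd : Odd (Fintype.card ι))
    (hn : 5 ≤ Fintype.card ι) {H : Subgroup (GL ι F)} (hH : H ≤ isometryGroup F ⇑Q) (hred : ¬ Irred H) :
    (∃ U : Submodule F (ι → F), U ≠ ⊥ ∧ IsTotallySingularQuad ⇑Q U ∧ H ≤ subspaceStabilizer U) ∨
    (∃ U : Submodule F (ι → F), U ≠ ⊥ ∧ U ≠ ⊤ ∧ Even (Module.finrank F U) ∧
      IsNondegenerateOn (polar ⇑Q) U ∧
      ¬ (Fintype.card F = 3 ∧ Module.finrank F U = 2 ∧ IsPlusTypeOn ⇑Q U) ∧ H ≤ subspaceStabilizer U) := by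
  classical
  simp only [Irred, not_forall, not_or] at hred
  obtain ⟨W, hW, hW0, hW1⟩ := hred
  obtain ⟨J, hG⟩ := exists_geom hQ
  have hiso := fun h hh => isom_polar (Q := Q) (hH (x := h) hh)
  have hfin : Module.finrank F (ι → F) = Fintype.card ι := Module.finrank_fintype_fun_eq_card _
  have hperp : ∀ {U : Submodule F (ι → F)}, IsNondegenerateOn (polar ⇑Q) U → H ≤ subspaceStabilizer U →
      IsNondegenerateOn (polar ⇑Q) (hG.rform.perp U) ∧ H ≤ subspaceStabilizer (hG.rform.perp U) ∧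
        Module.finrank F U + Module.finrank F (hG.rform.perp U) = Fintype.card ι := fun {U} hU hUH => by
    obtain ⟨hc, hnd⟩ := hG.rform.isCompl_perp hU
    exact ⟨hnd, hG.rform.perp_invariant hiso hUH, (Submodule.finrank_add_eq_of_isCompl hc).trans hfin⟩
  have key : ∀ {U : Submodule F (ι → F)}, U ≠ ⊥ → Even (Module.finrank F U) →
      IsNondegenerateOn (polar ⇑Q) U → H ≤ subspaceStabilizer U →
      ∃ U : Submodule F (ι → F), U ≠ ⊥ ∧ U ≠ ⊤ ∧ Even (Module.finrank F U) ∧
        IsNondegenerateOn (polar ⇑Q) U ∧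
        ¬ (Fintype.card F = 3 ∧ Module.finrank F U = 2 ∧ IsPlusTypeOn ⇑Q U) ∧ H ≤ subspaceStabilizer U := by
    intro U hU0 hev hU hUH
    have htop : ∀ {V : Submodule F (ι → F)}, Even (Module.finrank F V) → V ≠ ⊤ := fun hV e => by
      rw [e, finrank_top, hfin] at hV
      exact Nat.not_even_iff_odd.2 hodd hV
    by_cases hbad : Fintype.card F = 3 ∧ Module.finrank F U = 2 ∧ IsPlusTypeOn ⇑Q U
    swap
    · exact ⟨U, hU0, htop hev, hev, hU, hbad, hUH⟩
    obtain ⟨hq, hd, hp⟩ := hbad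
    obtain ⟨e, f, he, hf, he0, hf0, hef, hc⟩ := exists_hyperbolic hU hd hp
    have hv : Q (e + f) = 1 := by rw [map_add', he0, hf0, hef]; ring
    have hv0 : Q (e + f) ≠ 0 := by rw [hv]; exact one_ne_zero
    have hL : H ≤ subspaceStabilizer (Submodule.span F {e + f}) := le_stab_of_map_le fun g hg => by
      rw [Submodule.map_span, Set.image_singleton, Submodule.span_singleton_le_iff_mem, Matrix.toLin'_apply]
      obtain ⟨x, y, hxy, hQv⟩ := hc ((g : Matrix ι ι F) *ᵥ (e + f)) ((hUH hg (e + f)).1 (U.add_mem he hf))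
      rw [isom_apply (hH hg), hv] at hQv
      have hx : x ≠ 0 := fun h => by rw [h, zero_mul] at hQv; exact one_ne_zero hQv
      have hsq : x * x = 1 := by
        have h1 := pow_card_pred hx
        rw [hq] at h1
        rwa [_root_.sq] at h1
      have hyx : y = x := mul_left_cancel₀ hx (hQv.symm.trans hsq.symm)
      rw [hxy, hyx, ← smul_add]
      exact Submodule.smul_mem _ _ (Submodule.mem_span_singleton_self _)
    obtain ⟨hnd, hPH, hsum⟩ := hperp (nondeg_line h2 hv0) hL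
    rw [finrank_span_singleton (fun h => hv0 (by rw [h, QuadraticMap.map_zero]))] at hsum
    obtain ⟨k, hk⟩ := hodd
    refine ⟨_, fun h => ?_, htop ⟨k, by omega⟩, ⟨k, by omega⟩, hnd, fun h => ?_, hPH⟩
    · rw [h, finrank_bot] at hsum; omega
    · omega
  rcases reducible_cases hQ hH hW0 hW1 hW with h | ⟨h, -⟩ | ⟨U, hU0, hU1, hU, -, hUH⟩
  · exact Or.inl h
  · exact absurd h h2
  · right
    obtain ⟨hnd, hPH, hsum⟩ := hperp hU hUH
    rcases Nat.even_or_odd (Module.finrank F U) with hev | ho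
    · exact key hU0 hev hU hUH
    · refine key (fun h => ?_) ?_ hnd hPH
      · rw [h, finrank_bot, add_zero] at hsum
        exact hU1 (Submodule.eq_top_of_finrank_eq (hsum.trans hfin.symm))
      · obtain ⟨a, ha⟩ := ho
        obtain ⟨b, hb⟩ := hodd
        exact ⟨b - a, by omega⟩

/-- The geometric classes in odd prime dimension. -/
theorem prime_cases (hQ : (polarBilin Q).Nondegenerate) (h2 : (2 : F) ≠ 0) {n : ℕ} (hn : Fintype.card ι = n)
    (hp : n.Prime) (h5 : 5 ≤ n) {H : Subgroup (GL ι F)} (hH : H ≤ isometryGroup F ⇑Q) :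
    (∃ U : Submodule F (ι → F), U ≠ ⊥ ∧ IsTotallySingularQuad ⇑Q U ∧ H ≤ subspaceStabilizer U) ∨
    (∃ U : Submodule F (ι → F), U ≠ ⊥ ∧ U ≠ ⊤ ∧ Even (Module.finrank F U) ∧
      IsNondegenerateOn (polar ⇑Q) U ∧
      ¬ (Fintype.card F = 3 ∧ Module.finrank F U = 2 ∧ IsPlusTypeOn ⇑Q U) ∧ H ≤ subspaceStabilizer U) ∨
    ((Fintype.card F).Prime ∧ ∃ D : Fin n → Submodule F (ι → F), IsOrthogonalMDecomposition ⇑Q 1 D ∧
      H ≤ decompositionStabilizer D) ∨
    SubfieldCase Q H ∨ InOrthogonalResidualClass H := by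
  classical
  subst hn
  set n := Fintype.card ι with hndef
  have hodd : Odd n := hp.odd_of_ne_two (by omega)
  haveI : Nonempty ι := Fintype.card_pos_iff.1 (by omega)
  by_cases hirr : Irred H
  swap
  · rcases reducible_odd hQ h2 hodd h5 hH hirr with h | h
    · exact Or.inl h
    · exact Or.inr (Or.inl h)
  right; right
  obtain ⟨J, hG⟩ := exists_geom hQ
  have hiso := fun h hh => isom_polar (Q := Q) (hH (x := h) hh)
  have hdvd : ∀ {a : ℕ}, a ∣ n → a = 1 ∨ a = n := fun h => hp.eq_one_or_self_of_dvd _ h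
  rcases AschbacherForm.form_core hG (by omega) H hiso with h | h | ⟨r, K, hr, hK, hadj, hle⟩ |
    ⟨-, h | ⟨N, hN⟩ | ⟨P, hP⟩ | ⟨d, s, φ, hφ⟩⟩
  · exfalso
    rcases h with ⟨U, hU0, hU, hUH⟩ | ⟨U, hU0, -, hlt, hUH⟩ <;> rcases hirr U hUH with e | e
    · exact hU0 e
    · obtain ⟨v, hv⟩ := exists_ne (0 : ι → F)
      obtain ⟨⟨x, hx⟩, -⟩ := polar_nondeg hQ v hv
      exact hx (hU x (e ▸ Submodule.mem_top) v (e ▸ Submodule.mem_top))
    · exact hU0 e
    · rw [e, finrank_top, Module.finrank_fintype_fun_eq_card] at hlt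
      omega
  · rcases imprimitive_cases hH hirr (by omega) h with ⟨t, k, D, hD, hle⟩ | ⟨k, D, hk, -, -, -⟩
    swap
    · exact absurd ⟨k, by omega⟩ (Nat.not_even_iff_odd.2 hodd)
    have htk := decomp_card hD.decomp
    have ht := hD.decomp.decomp.two_le
    obtain rfl : t = n := (hdvd (show t ∣ n from ⟨k, htk.symm⟩)).resolve_left (by omega)
    obtain rfl : k = 1 := Nat.eq_of_mul_eq_mul_left hp.pos (by rw [mul_one]; exact htk)
    by_cases hq : (Fintype.card F).Prime
    · exact Or.inl ⟨hq, D, hD, hle⟩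
    · exact Or.inr (Or.inl (frame_subfield hH h2 hq hD hle))
  · exfalso
    obtain rfl : r = n := (hdvd (dvd_card_of_field hK)).resolve_left hr.one_lt.ne'
    exact prime_field_false hQ hH hirr hodd (by omega) hK (selfAdj_of_odd hG hodd hK hadj) hle
  · exfalso
    obtain ⟨d, k, e, -, -, -, -, -, hd, hk, -⟩ := AschbacherForm.tensor_data hG (by omega) hiso h
    have hc : n = d * k := by rw [hndef, Fintype.card_congr e]; simp
    rcases hdvd (Dvd.intro k hc.symm) with e1 | e1
    · omega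
    · nlinarith
  · exfalso
    obtain ⟨-, ⟨m, -, hm⟩, -⟩ := abelian_cases hQ hH hN
    rw [← hndef] at hm
    have := (Nat.prime_dvd_prime_iff_eq hp Nat.prime_two).1
      (hp.dvd_of_dvd_pow (show n ∣ 2 ^ m from hm ▸ dvd_rfl))
    omega
  · rcases simple_case (by omega) hQ hH hP with h | h
    · exact Or.inr (Or.inr h)
    · exact Or.inr (Or.inl h)
  · exfalso
    have hGs : H ⊔ scalars ι F ≤ similarityGroup (polar ⇑Q) :=
      sup_le (fun g hg => ⟨1, fun u v => by rw [Units.val_one, one_mul]; exact hiso g hg u v⟩) hG.scalars_le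
    obtain ⟨e, -⟩ := AschbacherForm.wreath_data hG (by omega) hGs hφ
    have hc : n = d ^ s := by rw [hndef, Fintype.card_congr e]; simp
    have := hφ.two_le_num
    exact Nat.Prime.not_prime_pow this (hc ▸ hp)

end CfsgLib.AschbacherOrth
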