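import Cfsg.Agent.Lib.AschbacherOrth.Tensor
import Cfsg.Agent.Lib.AschbacherOrth.OddPrimeRow

/-!
# The classes of orthogonal groups in odd dimension
-/

set_option autoImplicit false
set_option linter.unusedSectionVars false
set_option linter.style.show false

namespace CfsgLib.AschbacherOrth

open QuadraticMap Cfsg Cfsg.Geo CfsgLib.Geometry CfsgLib.Aschbacher
open scoped Matrix MatrixGroups

universe u
variable {F : Type u} [Field F] [Fintype F] {ι : Type} [Fintype ι] [DecidableEq ι]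
variable {Q : QuadraticForm F (ι → F)}

/-- Aschbacher's theorem in odd dimension. -/
theorem odd_cases (hQ : (polarBilin Q).Nondegenerate) (h2 : (2 : F) ≠ 0) {n : ℕ} (hn : Fintype.card ι = n)
    (hodd : Odd n) (h5 : 5 ≤ n) {H : Subgroup (GL ι F)} (hH : H ≤ isometryGroup F ⇑Q) :
    (∃ U : Submodule F (ι → F), U ≠ ⊥ ∧ IsTotallySingularQuad ⇑Q U ∧ H ≤ subspaceStabilizer U) ∨
    (∃ U : Submodule F (ι → F), U ≠ ⊥ ∧ U ≠ ⊤ ∧ Even (Module.finrank F U) ∧
      IsNondegenerateOn (polar ⇑Q) U ∧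
      ¬ (Fintype.card F = 3 ∧ Module.finrank F U = 2 ∧ IsPlusTypeOn ⇑Q U) ∧ H ≤ subspaceStabilizer U) ∨
    (∃ (t k : ℕ) (D : Fin t → Submodule F (ι → F)), 1 < k ∧ t * k = n ∧ IsOrthogonalMDecomposition ⇑Q k D ∧
      H ≤ decompositionStabilizer D) ∨
    ((Fintype.card F).Prime ∧ ∃ D : Fin n → Submodule F (ι → F), IsOrthogonalMDecomposition ⇑Q 1 D ∧
      H ≤ decompositionStabilizer D) ∨
    (∃ (r : ℕ) (K : Subalgebra F (Matrix ι ι F)), r.Prime ∧ r ∣ n ∧ n ≠ r ∧ IsFieldSubalgebra r K ∧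
      IsSelfAdjointFor (polar ⇑Q) K ∧ H ≤ subalgebraNormalizer K) ∨
    (∃ (n₁ n₂ : ℕ) (e : ι ≃ Fin n₁ × Fin n₂) (P : GL ι F) (f₁ : (Fin n₁ → F) → (Fin n₁ → F) → F)
      (f₂ : (Fin n₂ → F) → (Fin n₂ → F) → F), 3 ≤ n₁ ∧ n₁ < n₂ ∧ IsSymmetricForm f₁ ∧ IsSymmetricForm f₂ ∧
        IsTensorFormStructure id (polar ⇑Q) f₁ f₂ e P ∧ H ≤ tensorProductSubgroup n₁ n₂ e P) ∨
    (∃ (d s : ℕ), 3 ≤ d ∧ 2 ≤ s ∧ n = d ^ s ∧ ¬ (Fintype.card F = 3 ∧ d = 3) ∧ PowerData Q H d s) ∨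
    SubfieldCase Q H ∨ InOrthogonalResidualClass H := by
  classical
  subst hn
  set n := Fintype.card ι with hndef
  haveI : Nonempty ι := Fintype.card_pos_iff.1 (by omega)
  by_cases hirr : Irred H
  swap
  · rcases reducible_odd hQ h2 hodd h5 hH hirr with h | h
    · exact Or.inl h
    · exact Or.inr (Or.inl h)
  right; right
  have power : ∀ d s : ℕ, 3 ≤ d → 2 ≤ s → n = d ^ s → PowerData Q H d s →
      ((Fintype.card F).Prime ∧ ∃ D : Fin n → Submodule F (ι → F), IsOrthogonalMDecomposition ⇑Q 1 D ∧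
        H ≤ decompositionStabilizer D) ∨
      (∃ (d s : ℕ), 3 ≤ d ∧ 2 ≤ s ∧ n = d ^ s ∧ ¬ (Fintype.card F = 3 ∧ d = 3) ∧ PowerData Q H d s) := by
    intro d s hd hs hc h
    by_cases hbad : Fintype.card F = 3 ∧ d = 3
    · obtain ⟨hq, rfl⟩ := hbad
      exact Or.inl ⟨by rw [hq]; norm_num, h.frame hq hH (by omega)⟩
    · exact Or.inr ⟨d, s, hd, hs, hc, hbad, h⟩
  obtain ⟨J, hG⟩ := exists_geom hQ
  have hiso := fun h hh => isom_polar (Q := Q) (hH (x := h) hh)
  rcases AschbacherForm.form_core hG (by omega) H hiso with h | h | ⟨r, K, hr, hK, hadj, hle⟩ |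
    ⟨-, h | ⟨N, hN⟩ | ⟨P, hP⟩ | ⟨d, s, φ, hφ⟩⟩
  · exfalso
    rcases h with ⟨U, hU0, hU, hUH⟩ | ⟨U, hU0, -, hlt, hUH⟩ <;> rcases hirr U hUH with e | e
    · exact hU0 e
    · obtain ⟨v, hv⟩ := exists_ne (0 : ι → F)
      obtain ⟨⟨x, hx⟩, -⟩ := polar_nondeg hQ v hv
      exact hx (hU x (e ▸ Submodule.mem_top) v (e ▸ Submodule.mem_top))
    · exact hU0 e
    · rw [e, finrank_top, Module.finrank_fintype_fun_eq_card] at hlt
      omega
  · rcases imprimitive_cases hH hirr (by omega) h with ⟨t, k, D, hD, hle⟩ | ⟨k, D, hk, -, -, -⟩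
    swap
    · exact absurd ⟨k, by omega⟩ (Nat.not_even_iff_odd.2 hodd)
    have htk : t * k = n := decomp_card hD.decomp
    rcases Nat.lt_or_ge 1 k with hk | hk
    · exact Or.inl ⟨t, k, D, hk, htk, hD, hle⟩
    obtain rfl : k = 1 := le_antisymm hk hD.decomp.decomp.pos
    rw [mul_one] at htk
    subst htk
    by_cases hq : (Fintype.card F).Prime
    · exact Or.inr (Or.inl ⟨hq, D, hD, hle⟩)
    · iterate 5 right
      exact Or.inl (frame_subfield hH h2 hq hD hle)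
  · have hdvd : r ∣ n := dvd_card_of_field hK
    have hrodd : Odd r := Odd.of_dvd_nat hodd hdvd
    have hsa := selfAdj_of_odd hG hrodd hK hadj
    have hne : n ≠ r := fun e => by
      subst e
      exact prime_field_false hQ hH hirr hodd (by omega) hK hsa hle
    exact Or.inr (Or.inr (Or.inl ⟨r, K, hr, hdvd, hne, hK, hsa, hle⟩))
  · rcases odd_tensor_cases hQ h2 hodd (by omega) hH h with h | ⟨d, hd, hc, hp⟩
    · exact Or.inr (Or.inr (Or.inr (Or.inl h)))
    · rcases power d 2 hd le_rfl hc hp with h | h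
      · exact Or.inr (Or.inl h)
      · exact Or.inr (Or.inr (Or.inr (Or.inr (Or.inl h))))
  · exfalso
    obtain ⟨-, ⟨m, hm0, hm⟩, -⟩ := abelian_cases hQ hH hN
    exact Nat.not_even_iff_odd.2 hodd (by rw [hndef, hm]; exact (Nat.even_pow.2 ⟨even_two, hm0.ne'⟩))
  · rcases simple_case (by omega) hQ hH hP with h | h
    · iterate 6 right
      exact h
    · iterate 5 right
      exact Or.inl h
  · obtain ⟨hd, hs, hc, hp⟩ := power_of_factors hQ h2 hodd (by omega) hH hφ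
    rcases power d s hd hs hc hp with h | h
    · exact Or.inr (Or.inl h)
    · exact Or.inr (Or.inr (Or.inr (Or.inr (Or.inl h))))

/-- A tensor monomial element. -/
def Rep {d s : ℕ} (x : GL (Fin s → Fin d) F) (π : Equiv.Perm (Fin s)) : Prop :=
  ∃ A : Fin s → GL (Fin d) F, x = permGL π * pureGL A

theorem permGL_mul {d s : ℕ} (π τ : Equiv.Perm (Fin s)) :
    (permGL π : GL (Fin s → Fin d) F) * permGL τ = permGL (π * τ) := by
  refine Units.ext (Matrix.ext fun x y => ?_)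
  rw [Units.val_mul, Matrix.mul_apply, Finset.sum_eq_single (x ∘ π)]
  · simp [permGL, Function.comp_assoc]; congr 1
  · intro z _ hz; simp [permGL, hz]
  · simp

theorem pureGL_permGL {d s : ℕ} (A : Fin s → GL (Fin d) F) (τ : Equiv.Perm (Fin s)) :
    pureGL A * permGL τ = permGL τ * pureGL (fun j => A (τ j)) := by
  refine Units.ext (Matrix.ext fun x y => ?_)
  rw [Units.val_mul, Units.val_mul, Matrix.mul_apply, Matrix.mul_apply,
    Finset.sum_eq_single (y ∘ τ.symm), Finset.sum_eq_single (x ∘ τ)]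
  · simp only [permGL, pureGL, pure', Matrix.of_apply, Function.comp_assoc, Equiv.symm_comp_self,
      Function.comp_id, if_true, mul_one, one_mul, Function.comp_apply]
    rw [← Equiv.prod_comp τ]
    simp
  · intro z _ hz; simp [permGL, hz]
  · simp
  · intro z _ hz
    simp only [permGL, Matrix.of_apply]
    rw [if_neg (fun e' => hz (by rw [e']; simp [Function.comp_assoc])), mul_zero]
  · simp

theorem Rep.mul {d s : ℕ} {x y : GL (Fin s → Fin d) F} {π τ : Equiv.Perm (Fin s)} (hx : Rep x π) (hy : Rep y τ) :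
    Rep (x * y) (π * τ) := by
  obtain ⟨A, rfl⟩ := hx
  obtain ⟨B, rfl⟩ := hy
  refine ⟨fun i => A (τ i) * B i, ?_⟩
  rw [mul_assoc, ← mul_assoc (pureGL A), pureGL_permGL, mul_assoc, ← mul_assoc, permGL_mul,
    AschbacherForm.pureGL_mul]

theorem Rep.inv {d s : ℕ} {x : GL (Fin s → Fin d) F} {π : Equiv.Perm (Fin s)} (hx : Rep x π) : Rep x⁻¹ π⁻¹ := by
  obtain ⟨A, rfl⟩ := hx
  refine ⟨fun j => (A (π⁻¹ j))⁻¹, ?_⟩
  have h : (permGL π : GL (Fin s → Fin d) F)⁻¹ = permGL π⁻¹ :=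
    inv_eq_of_mul_eq_one_right (by rw [permGL_mul, mul_inv_cancel, AschbacherForm.permGL_one])
  rw [_root_.mul_inv_rev, h, AschbacherForm.pureGL_inv, pureGL_permGL]

theorem rep_of_mem {d s : ℕ} {x : GL (Fin s → Fin d) F} (hx : x ∈ tensorWreathStandard d s F) : ∃ π, Rep x π := by
  induction hx using Subgroup.closure_induction with
  | mem g hg =>
    rcases hg with ⟨A, hA⟩ | ⟨σ, hσ⟩
    · exact ⟨1, A, by rw [AschbacherForm.permGL_one, one_mul]; exact Units.ext (Matrix.ext hA)⟩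
    · refine ⟨σ, fun _ => 1, ?_⟩
      rw [show (pureGL fun _ : Fin s => (1 : GL (Fin d) F)) = 1 from Units.ext pure'_one, mul_one]
      exact Units.ext (Matrix.ext hσ)
  | one => exact ⟨1, fun _ => 1, by
      rw [show (pureGL fun _ : Fin s => (1 : GL (Fin d) F)) = 1 from Units.ext pure'_one, mul_one,
        AschbacherForm.permGL_one]⟩
  | mul a b _ _ ha hb => obtain ⟨π, h⟩ := ha; obtain ⟨τ, h'⟩ := hb; exact ⟨_, h.mul h'⟩
  | inv a _ ha => obtain ⟨π, h⟩ := ha; exact ⟨_, h.inv⟩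

/-- The group does not preserve a tensor square. -/
theorem not_wreath_two (hQ : (polarBilin Q).Nondegenerate) (hn : 5 ≤ Fintype.card ι) {d : ℕ} (hd : 3 ≤ d)
    (e : ι ≃ (Fin 2 → Fin d)) (P : GL ι F) : ¬ omegaGL ⇑Q ≤ tensorWreathSubgroup d 2 e P := by
  intro hle
  refine not_tensor hQ hn (n₁ := d) (n₂ := d) (by omega) hd (e.trans (finTwoArrowEquiv (Fin d))) P
    (siegelIn_of_omega_le hQ hn ((omega_perfect hQ hn).trans ?_))
  rw [Subgroup.commutator_le]
  intro a ha b hb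
  obtain ⟨_, ⟨x, hx, rfl⟩, rfl⟩ := hle ha
  obtain ⟨_, ⟨y, hy, rfl⟩, rfl⟩ := hle hb
  obtain ⟨π, hπ⟩ := rep_of_mem hx
  obtain ⟨τ, hτ⟩ := rep_of_mem hy
  obtain ⟨A, hA⟩ := ((hπ.mul hτ).mul hπ.inv).mul hτ.inv
  have hc : π * τ = τ * π := (show ∀ a b : Equiv.Perm (Fin 2), a * b = b * a by decide) π τ
  rw [hc, mul_assoc τ π, mul_inv_cancel, mul_one, mul_inv_cancel, AschbacherForm.permGL_one, one_mul] at hA
  rw [← map_commutatorElement, ← map_commutatorElement, commutatorElement_def, hA]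
  refine ⟨_, ⟨AschbacherForm.kronGL (A 0) (A 1), ⟨A 0, A 1, rfl⟩, rfl⟩, congrArg _ (Units.ext (Matrix.ext fun i j => ?_))⟩
  simp [glReindex, pureGL, pure', AschbacherForm.kronGL_val, Fin.prod_univ_two, finTwoArrowEquiv,
    Matrix.kronecker_apply]

end CfsgLib.AschbacherOrth
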