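import Cfsg.Agent.Lib.AschbacherForm.Basic
import Cfsg.Agent.Lib.Aschbacher.Basic
import Cfsg.Agent.Lib.AschbacherOrth.Types
import Cfsg.Agent.Lib.Geometry.GeoOmega

/-!
# Groups containing every Siegel transformation
-/

set_option autoImplicit false
set_option linter.unusedSectionVars false

namespace CfsgLib.AschbacherOrth

open QuadraticMap Cfsg Cfsg.Geo CfsgLib.Geometry
open scoped Matrix MatrixGroups

variable {F : Type*} [Field F] [Finite F] {ι : Type} [Fintype ι] [DecidableEq ι]
variable {Q : QuadraticForm F (ι → F)}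

/-- The effect of a Siegel transformation. -/
def sie (Q : QuadraticForm F (ι → F)) (u a x : ι → F) : ι → F :=
  x + polar Q x u • a - (polar Q x a + Q a * polar Q x u) • u

/-- The group contains every Siegel transformation. -/
def SiegelIn (Q : QuadraticForm F (ι → F)) (X : Subgroup (GL ι F)) : Prop :=
  ∀ u a, Q u = 0 → polar Q u a = 0 → ∃ g ∈ X, ∀ x, (g : Matrix ι ι F) *ᵥ x = sie Q u a x

theorem SiegelIn.mono {X Y : Subgroup (GL ι F)} (h : SiegelIn Q X) (hXY : X ≤ Y) : SiegelIn Q Y :=
  fun u a hu ha => by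
    obtain ⟨g, hg, hgx⟩ := h u a hu ha
    exact ⟨g, hXY hg, hgx⟩

theorem siegelIn_omega (hQ : (polarBilin Q).Nondegenerate) (hn : 5 ≤ Fintype.card ι) :
    SiegelIn Q (omegaGL ⇑Q) := fun u a hu ha => by
  obtain ⟨s, hs, hsx⟩ := exists_omega_siegel hQ hn hu ha
  refine ⟨orthToGL Q s, ?_, fun x => by rw [orthToGL_mulVec, hsx]; rfl⟩
  rw [omegaGL_eq_map]
  exact Subgroup.mem_map_of_mem _ hs

theorem siegelIn_of_omega_le (hQ : (polarBilin Q).Nondegenerate) (hn : 5 ≤ Fintype.card ι)
    {X : Subgroup (GL ι F)} (h : omegaGL ⇑Q ≤ X) : SiegelIn Q X := (siegelIn_omega hQ hn).mono h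

theorem exists_nonzero_singular (hQ : (polarBilin Q).Nondegenerate) (hn : 3 ≤ Fintype.card ι) :
    ∃ e : ι → F, e ≠ 0 ∧ Q e = 0 :=
  exists_singular hQ (by rwa [Module.finrank_fintype_fun_eq_card])

/-- Every vector is moved by a Siegel transformation. -/
theorem exists_partner_singular (hQ : (polarBilin Q).Nondegenerate) (hn : 3 ≤ Fintype.card ι) {w : ι → F}
    (hw : w ≠ 0) : ∃ u, u ≠ 0 ∧ Q u = 0 ∧ polar Q w u ≠ 0 := by
  obtain ⟨e, he0, he⟩ := exists_nonzero_singular hQ hn
  obtain ⟨f, hf, hfw⟩ := exists_singular_polar hQ he0 he hw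
  exact ⟨f, fun h => hfw (by rw [h, QuadraticMap.polar_zero_left]), hf, by rwa [polar_comm]⟩

theorem sie_second (u a b x : ι → F) :
    (sie Q u a x - x) + (sie Q u b x - x) - (sie Q u (a + b) x - x) = (polar Q a b * polar Q x u) • u := by
  simp only [sie, map_add' Q a b, polar_add_right]
  module

theorem exists_perp_pair (hQ : (polarBilin Q).Nondegenerate) (hn : 3 ≤ Fintype.card ι) {u : ι → F}
    (hu0 : u ≠ 0) (hu : Q u = 0) : ∃ a b, polar Q u a = 0 ∧ polar Q u b = 0 ∧ polar Q a b = 1 := by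
  obtain ⟨f, hf, hef⟩ := exists_pair hQ hu0 hu
  have hex : ∃ a, polar Q u a = 0 ∧ a ∉ Submodule.span F {u} := by
    by_contra hc
    push Not at hc
    have h1 : polarPerp Q (Submodule.span F {u}) ≤ Submodule.span F {u} := fun a ha =>
      hc a (mem_polarPerp.1 ha u (Submodule.mem_span_singleton_self u))
    have h2 := Submodule.finrank_mono h1
    have h3 := finrank_polarPerp hQ (Submodule.span F {u})
    rw [finrank_span_singleton hu0, Module.finrank_fintype_fun_eq_card] at *
    omega
  obtain ⟨a, hua, ha⟩ := hex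
  obtain ⟨b, hb, hba⟩ := exists_polar hQ (Submodule.span F {u}) ha 1
  exact ⟨a, b, hua, by rw [polar_comm]; exact hb u (Submodule.mem_span_singleton_self u),
    by rw [polar_comm]; exact hba⟩

/-- A group containing the Siegel transformations is irreducible. -/
theorem SiegelIn.irred (hQ : (polarBilin Q).Nondegenerate) (hn : 3 ≤ Fintype.card ι)
    {W : Submodule F (ι → F)} (h : ∀ u a, Q u = 0 → polar Q u a = 0 → ∀ w ∈ W, sie Q u a w ∈ W) :
    W = ⊥ ∨ W = ⊤ := by
  refine or_iff_not_imp_left.2 fun hW => ?_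
  obtain ⟨w, hw, hw0⟩ := Submodule.exists_mem_ne_zero_of_ne_bot hW
  obtain ⟨u, hu0, hu, hwu⟩ := exists_partner_singular hQ hn hw0
  have hd : ∀ a, polar Q u a = 0 → sie Q u a w - w ∈ W := fun a ha => W.sub_mem (h u a hu ha w hw) hw
  obtain ⟨a, b, ha, hb, hab⟩ := exists_perp_pair hQ hn hu0 hu
  have huW : u ∈ W := by
    have h1 := W.sub_mem (W.add_mem (hd a ha) (hd b hb)) (hd (a + b) (by rw [polar_add_right, ha, hb, add_zero]))
    rw [sie_second, hab, one_mul] at h1
    exact (Submodule.smul_mem_iff _ hwu).1 h1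
  refine eq_top_iff.2 fun z _ => ?_
  have hz' : polar Q u (z - (polar Q u z / polar Q u w) • w) = 0 := by
    rw [polar_sub_right, polar_smul_right', div_mul_cancel₀ _ (by rwa [polar_comm]), sub_self]
  have h1 := hd _ hz'
  have h2 : (polar Q w u) • (z - (polar Q u z / polar Q u w) • w) ∈ W := by
    have h3 := W.add_mem h1 (W.smul_mem (polar Q w (z - (polar Q u z / polar Q u w) • w) +
      Q (z - (polar Q u z / polar Q u w) • w) * polar Q w u) huW)
    convert h3 using 1
    simp only [sie]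
    module
  simpa using W.add_mem ((Submodule.smul_mem_iff _ hwu).1 h2) (W.smul_mem (polar Q u z / polar Q u w) hw)

theorem SiegelIn.not_stab (hQ : (polarBilin Q).Nondegenerate) (hn : 3 ≤ Fintype.card ι)
    {W : Submodule F (ι → F)} (hW0 : W ≠ ⊥) (hW1 : W ≠ ⊤) : ¬ SiegelIn Q (subspaceStabilizer W) := fun h =>
  (SiegelIn.irred hQ hn fun u a hu ha w hw => by
    obtain ⟨g, hg, hgx⟩ := h u a hu ha
    rw [← hgx]
    exact (hg w).1 hw).elim hW0 hW1

/-- Only scalars commute with every Siegel transformation. -/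
theorem scalar_of_comm_sie (hQ : (polarBilin Q).Nondegenerate) (hn : 3 ≤ Fintype.card ι) (M : Matrix ι ι F)
    (h : ∀ u a, Q u = 0 → polar Q u a = 0 → ∀ x, M *ᵥ sie Q u a x = sie Q u a (M *ᵥ x)) :
    ∃ c : F, M = c • (1 : Matrix ι ι F) := by
  obtain ⟨e, he0, he⟩ := exists_nonzero_singular hQ hn
  -- singular vectors are eigenvectors
  have key : ∀ u, u ≠ 0 → Q u = 0 → ∃ μ : F, M *ᵥ u = μ • u ∧
      ∀ a, polar Q u a = 0 → ∃ s : F, M *ᵥ a = μ • a + s • u := by
    intro u hu0 hu
    obtain ⟨f, hf, hef⟩ := exists_pair hQ hu0 hu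
    have hfu : polar Q f u = 1 := by rw [polar_comm]; exact hef
    obtain ⟨a, b, ha, hb, hab⟩ := exists_perp_pair hQ hn hu0 hu
    have hd : ∀ a, polar Q u a = 0 → ∀ x, M *ᵥ (sie Q u a x - x) = sie Q u a (M *ᵥ x) - M *ᵥ x :=
      fun a ha x => by rw [Matrix.mulVec_sub, h u a hu ha]
    have h2 : ∀ x, polar Q x u • (M *ᵥ u) = polar Q (M *ᵥ x) u • u := fun x => by
      have e1 := congrArg (fun z => M *ᵥ z) (sie_second (Q := Q) u a b x)
      simp only [Matrix.mulVec_sub, Matrix.mulVec_add, h u a hu ha, h u b hu hb,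
        h u (a + b) hu (by rw [polar_add_right, ha, hb, add_zero]), Matrix.mulVec_smul] at e1
      rw [hab, one_mul] at e1
      rw [← e1, sie_second, hab, one_mul]
    set μ := polar Q (M *ᵥ f) u
    have hMu : M *ᵥ u = μ • u := by
      have := h2 f
      rwa [hfu, one_smul] at this
    refine ⟨μ, hMu, fun a ha => ⟨(polar Q f a + Q a) * μ - (polar Q (M *ᵥ f) a + Q a * μ), ?_⟩⟩
    have e1 := hd a ha f
    simp only [sie, Matrix.mulVec_sub, Matrix.mulVec_add, Matrix.mulVec_smul, hMu, hfu, one_smul, mul_one] at e1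
    linear_combination (norm := module) e1
  obtain ⟨f, hf, hef⟩ := exists_pair hQ he0 he
  have hf0 : f ≠ 0 := fun h0 => by
    rw [h0, QuadraticMap.polar_zero_right] at hef
    exact zero_ne_one hef
  obtain ⟨μ, hMe, hμ⟩ := key e he0 he
  obtain ⟨ν, hMf, hν⟩ := key f hf0 hf
  have hfe : polar Q f e = 1 := by rw [polar_comm]; exact hef
  have hee : polar Q e e = 0 := by rw [polar_self', he, mul_zero]
  have hff : polar Q f f = 0 := by rw [polar_self', hf, mul_zero]
  have hperp : ∀ a, polar Q e a = 0 → polar Q f a = 0 → (μ - ν) • a = 0 ∧ M *ᵥ a = μ • a := by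
    intro a hea hfa
    obtain ⟨s, hs⟩ := hμ a hea
    obtain ⟨t, ht⟩ := hν a hfa
    have h1 : (μ - ν) • a = t • f - s • e := by linear_combination (norm := module) ht - hs
    have hs0 : s = 0 := by
      have := congrArg (fun z => polar Q z f) h1
      simp only [polar_sub_left, polar_smul_left', hff, hef, polar_comm Q a f, hfa] at this
      linear_combination this
    have ht0 : t = 0 := by
      have := congrArg (fun z => polar Q z e) h1
      simp only [polar_sub_left, polar_smul_left', hfe, hee, polar_comm Q a e, hea] at this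
      linear_combination -this
    refine ⟨by rw [h1, hs0, ht0, zero_smul, zero_smul, sub_zero], ?_⟩
    rw [hs, hs0, zero_smul, add_zero]
  have hdec : ∀ z : ι → F, z = polar Q z f • e + polar Q z e • f + (z - polar Q z f • e - polar Q z e • f) :=
    fun z => by module
  have hp : ∀ z : ι → F, polar Q e (z - polar Q z f • e - polar Q z e • f) = 0 ∧
      polar Q f (z - polar Q z f • e - polar Q z e • f) = 0 := fun z => by
    simp only [polar_sub_right, polar_smul_right', hee, hff, hef, hfe, polar_comm Q z f, polar_comm Q z e]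
    constructor <;> ring
  have hμν : μ = ν := by
    by_contra hne
    have hle : (⊤ : Submodule F (ι → F)) ≤ Submodule.span F ({e, f} : Set (ι → F)) := fun z _ => by
      rw [Submodule.mem_span_pair]
      refine ⟨polar Q z f, polar Q z e, ?_⟩
      conv_rhs => rw [hdec z]
      rw [(smul_eq_zero.1 (hperp _ (hp z).1 (hp z).2).1).resolve_left (sub_ne_zero.2 hne), add_zero]
    have h1 := Submodule.finrank_mono hle
    have h2 := finrank_pair_le (F := F) e f
    rw [finrank_top, Module.finrank_fintype_fun_eq_card] at h1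
    omega
  refine ⟨μ, Matrix.ext_of_mulVec_single fun i => ?_⟩
  generalize (Pi.single i (1 : F) : ι → F) = z
  rw [Matrix.smul_mulVec, Matrix.one_mulVec]
  conv_lhs => rw [hdec z]
  rw [Matrix.mulVec_add, Matrix.mulVec_add, Matrix.mulVec_smul, Matrix.mulVec_smul, hMe, hMf, ← hμν,
    (hperp _ (hp z).1 (hp z).2).2]
  conv_rhs => rw [hdec z]
  module

theorem SiegelIn.comm_scalar (hQ : (polarBilin Q).Nondegenerate) (hn : 3 ≤ Fintype.card ι)
    {X : Subgroup (GL ι F)} (h : SiegelIn Q X) (M : Matrix ι ι F)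
    (hM : ∀ g ∈ X, (g : Matrix ι ι F) * M = M * (g : Matrix ι ι F)) : ∃ c : F, M = c • (1 : Matrix ι ι F) :=
  scalar_of_comm_sie hQ hn M fun u a hu ha x => by
    obtain ⟨g, hg, hgx⟩ := h u a hu ha
    rw [← hgx, ← hgx, Matrix.mulVec_mulVec, Matrix.mulVec_mulVec, hM g hg]

end CfsgLib.AschbacherOrth
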