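import Cfsg.Agent.Lib.AschbacherOrth.Frame

/-!
# Decompositions into small parts over small fields
-/

set_option autoImplicit false
set_option linter.unusedSectionVars false
set_option linter.style.haveILetI false
set_option linter.unusedSimpArgs false
set_option linter.style.show false
set_option linter.unreachableTactic false
set_option linter.unusedTactic false

namespace CfsgLib.AschbacherOrth

open QuadraticMap Cfsg Cfsg.Geo CfsgLib.Geometry CfsgLib.Aschbacher
open scoped Matrix MatrixGroups

universe u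
variable {F : Type u} [Field F] [Fintype F] {ι : Type} [Fintype ι] [DecidableEq ι]
variable {Q : QuadraticForm F (ι → F)}

/-- A hyperbolic pair spanning a plane of plus type. -/
theorem exists_hyperbolic {W : Submodule F (ι → F)} (hW : IsNondegenerateOn (polar ⇑Q) W)
    (hd : Module.finrank F W = 2) (hp : IsPlusTypeOn ⇑Q W) :
    ∃ e f, e ∈ W ∧ f ∈ W ∧ Q e = 0 ∧ Q f = 0 ∧ polar Q e f = 1 ∧
      ∀ v ∈ W, ∃ x y : F, v = x • e + y • f ∧ Q v = x * y := by
  obtain ⟨U, hUW, hU, hUd⟩ := hp
  obtain ⟨e, heU, he0⟩ := Submodule.exists_mem_ne_zero_of_ne_bot (show U ≠ ⊥ from fun h => by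
    rw [h, finrank_bot, hd] at hUd
    exact absurd hUd (by norm_num))
  obtain ⟨-, x, hx, hne⟩ := hW e (hUW heU) he0
  have he := hU e heU
  set t := (polar Q e x)⁻¹
  set f := t • x - (t * t * Q x) • e
  have hef : polar Q e f = 1 := by
    simp only [f, t, polar_sub_right, polar_smul_right', polar_self', he, mul_zero, sub_zero]
    exact inv_mul_cancel₀ hne
  have hf : Q f = 0 := by
    simp only [f]
    rw [CfsgLib.Geometry.map_sub', map_smul', map_smul', polar_smul_left', polar_smul_right', he, polar_comm Q x e]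
    simp only [t]
    field_simp
    ring
  have hfW : f ∈ W := W.sub_mem (W.smul_mem _ hx) (W.smul_mem _ (hUW heU))
  refine ⟨e, f, hUW heU, hfW, he, hf, hef, fun v hv => ?_⟩
  have hfe : polar Q f e = 1 := by rw [polar_comm]; exact hef
  have hee : polar Q e e = 0 := by rw [polar_self', he, mul_zero]
  have hff : polar Q f f = 0 := by rw [polar_self', hf, mul_zero]
  have hli : LinearIndependent F ![e, f] := LinearIndependent.pair_iff.2 fun a b hab => by
    have h1 := congrArg (fun z => polar Q z f) hab
    have h2 := congrArg (fun z => polar Q z e) hab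
    simp only [polar_add_left, polar_smul_left', hef, hff, hfe, hee, polar_zero_left] at h1 h2
    exact ⟨by linear_combination h1, by linear_combination h2⟩
  have hspan : Submodule.span F ({e, f} : Set (ι → F)) = W := by
    refine Submodule.eq_of_le_of_finrank_le (Submodule.span_le.2 ?_) ?_
    · rintro z (rfl | rfl)
      exacts [hUW heU, hfW]
    · have h := finrank_span_eq_card hli
      rw [Matrix.range_cons_cons_empty, Fintype.card_fin] at h
      omega
  rw [← hspan, Submodule.mem_span_pair] at hv
  obtain ⟨a, b, rfl⟩ := hv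
  refine ⟨a, b, rfl, ?_⟩
  rw [map_add', map_smul', map_smul', he, hf, polar_smul_left', polar_smul_right', hef]
  ring

theorem pow_card_pred {a : F} (ha : a ≠ 0) : a ^ (Fintype.card F - 1) = 1 :=
  FiniteField.pow_card_sub_one_eq_one a ha

/-- Plus planes over a field with at most three elements give an invariant subspace. -/
theorem planes_small {H : Subgroup (GL ι F)} (hH : H ≤ isometryGroup F ⇑Q) {t : ℕ}
    {D : Fin t → Submodule F (ι → F)} (hD : IsOrthogonalMDecomposition ⇑Q 2 D) (hle : H ≤ decompositionStabilizer D)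
    (hp : ∀ i, IsPlusTypeOn ⇑Q (D i)) (hq : Fintype.card F ≤ 3) : ¬ Irred H := by
  choose e f he hf he0 hf0 hef hc using fun i => exists_hyperbolic (hD.decomp.nondegenerate i)
    (hD.decomp.decomp.finrank_eq i) (hp i)
  have hv1 : ∀ i, Q (e i + f i) = 1 := fun i => by rw [map_add', he0, hf0, hef]; ring
  refine exists_invariant hD.decomp.decomp hle (by
      have := decomp_card hD.decomp
      have := hD.decomp.decomp.two_le
      omega)
    (fun i => e i + f i) (fun i h => by simpa [h] using hv1 i)
    (fun i => (D i).add_mem (he i) (hf i)) fun g hg i l hl => ?_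
  obtain ⟨x, y, hxy, hQ⟩ := hc l _ hl
  rw [isom_apply (hH hg), hv1] at hQ
  have hx : x ≠ 0 := fun h => by rw [h, zero_mul] at hQ; exact one_ne_zero hQ
  have hsq : x * x = 1 := by
    have h1 := pow_card_pred hx
    rcases (show Fintype.card F = 2 ∨ Fintype.card F = 3 by
      have := Fintype.one_lt_card (α := F); omega) with h | h
    · rw [h, pow_one] at h1
      rw [h1, one_mul]
    · rw [h] at h1
      rwa [_root_.sq] at h1
  have hyx : y = x := mul_left_cancel₀ hx (hQ.symm.trans hsq.symm)
  rw [hxy, hyx, ← smul_add]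
  exact Submodule.smul_mem _ _ (Submodule.mem_span_singleton_self _)

/-- Plus planes over the field with four elements give a subfield structure. -/
theorem planes_four {H : Subgroup (GL ι F)} (hH : H ≤ isometryGroup F ⇑Q) {t : ℕ}
    {D : Fin t → Submodule F (ι → F)} (hD : IsOrthogonalMDecomposition ⇑Q 2 D) (hle : H ≤ decompositionStabilizer D)
    (hp : ∀ i, IsPlusTypeOn ⇑Q (D i)) (hq : Fintype.card F = 4) : SubfieldCase Q H := by
  classical
  choose e f he hf he0 hf0 hef hc using fun i => exists_hyperbolic (hD.decomp.nondegenerate i)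
    (hD.decomp.decomp.finrank_eq i) (hp i)
  have h2 : (2 : F) = 0 := by
    have h := FiniteField.cast_card_eq_zero F
    rw [hq] at h
    push_cast at h
    exact mul_self_eq_zero.1 (show (2 : F) * 2 = 0 by linear_combination h)
  haveI : CharP F 2 := CharTwo.of_one_ne_zero_of_two_eq_zero one_ne_zero h2
  set F₁ := (ZMod.castHom (dvd_refl 2) F).fieldRange with hF₁def
  have hcard : Nat.card F₁ = 2 := by
    show Nat.card (Set.range (ZMod.castHom (dvd_refl 2) F)) = 2
    rw [Nat.card_range_of_injective (ZMod.castHom (dvd_refl 2) F).injective, Nat.card_eq_fintype_card, ZMod.card]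
  obtain ⟨ω, hω0, hω1⟩ : ∃ ω : F, ω ≠ 0 ∧ ω ≠ 1 := (exists_ne_zero_one_or (n := 4) (Or.inl (by omega))).resolve_left fun h => h rfl
  have hω : ω * ω + ω + 1 = 0 := by
    have h1 := pow_card_pred hω0
    rw [hq] at h1
    exact (mul_eq_zero.1 (show (ω - 1) * (ω * ω + ω + 1) = 0 by linear_combination h1)).resolve_left
      (sub_ne_zero.2 hω1)
  have hn := decomp_card hD.decomp
  let ε : ι ≃ Fin t × Fin 2 := Fintype.equivOfCardEq (by simp [hn])
  let w : Fin t × Fin 2 → ι → F := fun p => if p.2 = 0 then e p.1 + f p.1 else ω • e p.1 + (ω * ω) • f p.1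
  let M : Matrix ι ι F := Matrix.of fun i j => w (ε j) i
  have hMsingle : ∀ u : ι → F, M *ᵥ u = ∑ p, u (ε.symm p) • w p := fun u => by
    rw [← ε.sum_comp]
    funext i
    simp [M, Matrix.mulVec, dotProduct, mul_comm]
  have hrange : ∀ p, w p ∈ LinearMap.range M.mulVecLin := fun p => ⟨Pi.single (ε.symm p) 1, by
    funext i; simp [M, Matrix.mulVecLin_apply]⟩
  have hM : IsUnit M := by
    rw [← Matrix.mulVec_surjective_iff_isUnit]
    have htop : LinearMap.range M.mulVecLin = ⊤ := by
      rw [eq_top_iff, ← hD.decomp.decomp.iSup_eq_top]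
      refine iSup_le fun i v hv => ?_
      obtain ⟨x, y, rfl, -⟩ := hc i v hv
      have h0 := hrange (i, 0)
      have h1 := hrange (i, 1)
      simp only [w, if_pos, one_ne_zero, if_false] at h0 h1
      have hei : e i ∈ LinearMap.range M.mulVecLin := by
        have h3 := add_mem (Submodule.smul_mem _ (ω * ω) h0) h1
        convert h3 using 1
        linear_combination (norm := match_scalars) (0 : F) • e i
        · linear_combination -hω + h2
        · linear_combination -(ω * ω) * h2
      have hfi : f i ∈ LinearMap.range M.mulVecLin := by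
        have h3 := sub_mem h0 hei
        simpa using h3
      exact add_mem (Submodule.smul_mem _ x hei) (Submodule.smul_mem _ y hfi)
    exact LinearMap.range_eq_top.1 htop
  refine ⟨F₁, 2, hM.unit, 1, Nat.prime_two, by rw [hcard, hq]; rfl, one_ne_zero, ?_, fun g hg => ?_⟩
  · intro u hu
    show 1 * Q ((hM.unit : Matrix ι ι F) *ᵥ u) ∈ F₁
    rw [one_mul, IsUnit.unit_spec, hMsingle, Fintype.sum_prod_type]
    have hpart : ∀ i : Fin t, (∑ j, u (ε.symm (i, j)) • w (i, j)) ∈ D i := fun i =>
      Submodule.sum_mem _ fun j _ => Submodule.smul_mem _ _ (by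
        fin_cases j <;> simp [w, Submodule.add_mem, Submodule.smul_mem, he i, hf i])
    have key : ∀ s : Finset (Fin t), Q (∑ i ∈ s, ∑ j, u (ε.symm (i, j)) • w (i, j)) =
        ∑ i ∈ s, Q (∑ j, u (ε.symm (i, j)) • w (i, j)) := fun s => by
      induction s using Finset.induction with
      | empty => simp
      | @insert i s hi ih =>
        rw [Finset.sum_insert hi, Finset.sum_insert hi, map_add', ih]
        have h0 : polar Q (∑ j, u (ε.symm (i, j)) • w (i, j)) (∑ l ∈ s, ∑ j, u (ε.symm (l, j)) • w (l, j)) = 0 := by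
          rw [← polarBilin_apply_apply, map_sum]
          exact Finset.sum_eq_zero fun l hl =>
            hD.decomp.orthogonal i l (fun e => hi (e ▸ hl)) _ (hpart i) _ (hpart l)
        rw [h0, add_zero]
    rw [key]
    refine F₁.sum_mem fun i _ => ?_
    have hv : Q (∑ j, u (ε.symm (i, j)) • w (i, j)) = u (ε.symm (i, 0)) * u (ε.symm (i, 0)) +
        u (ε.symm (i, 0)) * u (ε.symm (i, 1)) + u (ε.symm (i, 1)) * u (ε.symm (i, 1)) := by
      simp only [Fin.sum_univ_two, w, if_pos, one_ne_zero, if_false, map_add', map_smul', polar_add_left,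
        polar_add_right, polar_smul_left', polar_smul_right', polar_self', he0, hf0, hef, polar_comm Q (f i) (e i)]
      linear_combination (u (ε.symm (i, 0)) * u (ε.symm (i, 1)) +
        u (ε.symm (i, 1)) * u (ε.symm (i, 1)) * (ω - 1)) * hω -
        (u (ε.symm (i, 0)) * u (ε.symm (i, 1))) * h2
    rw [hv]
    exact F₁.add_mem (F₁.add_mem (F₁.mul_mem (hu _) (hu _)) (F₁.mul_mem (hu _) (hu _))) (F₁.mul_mem (hu _) (hu _))
  · obtain ⟨σ, hσ⟩ := hle hg
    have hgw : ∀ p : Fin t × Fin 2, ∃ a b : F, a ∈ F₁ ∧ b ∈ F₁ ∧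
        (g : Matrix ι ι F) *ᵥ w p = a • w (σ p.1, 0) + b • w (σ p.1, 1) := by
      intro p
      have hwp : w p ∈ D p.1 := by
        rcases p with ⟨i, j⟩
        fin_cases j <;> simp [w, Submodule.add_mem, Submodule.smul_mem, he i, hf i]
      have hwQ : Q (w p) = 1 := by
        rcases p with ⟨i, j⟩
        fin_cases j <;> simp [w, map_add', map_smul', he0, hf0, hef, polar_smul_left', polar_smul_right']
        linear_combination (ω - 1) * hω
      obtain ⟨x, y, hxy, hQv⟩ := hc (σ p.1) _ (mem_map_gl (hσ p.1) hwp)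
      rw [isom_apply (hH hg), hwQ] at hQv
      have hx : x ≠ 0 := fun h => by rw [h, zero_mul] at hQv; exact one_ne_zero hQv
      have hcube : x * x * x = 1 := by
        have h1 := pow_card_pred hx
        rw [hq] at h1
        linear_combination h1
      have hy : y = x * x := mul_left_cancel₀ hx (by linear_combination -hQv - hcube)
      have hxs : x = 1 ∨ x = ω ∨ x = ω * ω := by
        rcases mul_eq_zero.1 (show (x - 1) * ((x - ω) * (x - ω * ω)) = 0 by
          linear_combination hcube + ((x - 1) * (ω - 1) - (x * x - x)) * hω) with h | h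
        · exact Or.inl (sub_eq_zero.1 h)
        rcases mul_eq_zero.1 h with h | h
        · exact Or.inr (Or.inl (sub_eq_zero.1 h))
        · exact Or.inr (Or.inr (sub_eq_zero.1 h))
      rw [hxy, hy]
      rcases hxs with rfl | rfl | rfl
      · exact ⟨1, 0, F₁.one_mem, F₁.zero_mem, by simp [w]⟩
      · exact ⟨0, 1, F₁.zero_mem, F₁.one_mem, by simp [w]⟩
      · refine ⟨1, 1, F₁.one_mem, F₁.one_mem, ?_⟩
        simp only [w, if_pos, one_ne_zero, if_false, one_smul]
        match_scalars
        · linear_combination hω - (1 + ω) * h2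
        · linear_combination (ω * ω - ω + 1) * hω - (1 + ω * ω) * h2
    choose a b haF hbF hab using hgw
    refine AschbacherForm.mem_subfieldSubgroup (z := 1) hM.unit g one_ne_zero fun i j => ?_
    rw [one_smul]
    let N : Matrix ι ι F := Matrix.of fun i j =>
      if (ε i).1 = σ (ε j).1 then (if (ε i).2 = 0 then a (ε j) else b (ε j)) else 0
    have h1 : ((hM.unit⁻¹ * g * hM.unit : GL ι F) : Matrix ι ι F) = N := by
      rw [Units.val_mul, Units.val_mul, mul_assoc]
      have h3 : (g : Matrix ι ι F) * M = M * N := by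
        ext i j
        have := congrFun (hab (ε j)) i
        simp only [Matrix.mulVec, dotProduct, Pi.add_apply, Pi.smul_apply, smul_eq_mul] at this
        rw [Matrix.mul_apply, Matrix.mul_apply, show (∑ k, (g : Matrix ι ι F) i k * M k j) =
          ∑ k, (g : Matrix ι ι F) i k * w (ε j) k from rfl, this, ← ε.symm.sum_comp, Fintype.sum_prod_type,
          Finset.sum_eq_single (σ (ε j).1)]
        · simp [M, N, Fin.sum_univ_two]; ring
        · intro l _ hl; simp [N, hl]
        · simp
      rw [IsUnit.unit_spec, h3, ← mul_assoc, IsUnit.val_inv_mul, one_mul]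
    rw [h1]
    simp only [N, Matrix.of_apply]
    split_ifs
    exacts [haF _, hbF _, F₁.zero_mem]

/-- Plus planes over the field with five elements refine into lines. -/
theorem planes_five {H : Subgroup (GL ι F)} (hH : H ≤ isometryGroup F ⇑Q) {t : ℕ}
    {D : Fin t → Submodule F (ι → F)} (hD : IsOrthogonalMDecomposition ⇑Q 2 D) (hle : H ≤ decompositionStabilizer D)
    (hp : ∀ i, IsPlusTypeOn ⇑Q (D i)) (hq : Fintype.card F = 5) :
    ∃ D' : Fin (t * 2) → Submodule F (ι → F), IsOrthogonalMDecomposition ⇑Q 1 D' ∧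
      H ≤ decompositionStabilizer D' := by
  have h5 : (5 : F) = 0 := by
    have h := FiniteField.cast_card_eq_zero F
    rw [hq] at h
    exact_mod_cast h
  have h2 : (2 : F) ≠ 0 := fun h => one_ne_zero (α := F) (by linear_combination h5 - 2 * h)
  have ht := hD.decomp.decomp.two_le
  let i₀ : Fin t := ⟨0, by omega⟩
  obtain ⟨e, f, he, hf, he0, hf0, hef, hc⟩ := exists_hyperbolic (hD.decomp.nondegenerate i₀)
    (hD.decomp.decomp.finrank_eq i₀) (hp i₀)
  refine refine_lines hH h2 hD hle i₀ one_ne_zero ![e + f, (2 : F) • e + (3 : F) • f] (fun j => ?_) (fun j => ?_)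
    (fun i j hij => ?_) fun v hv hv1 => ?_
  · fin_cases j
    · exact (D i₀).add_mem he hf
    · exact (D i₀).add_mem ((D i₀).smul_mem _ he) ((D i₀).smul_mem _ hf)
  · fin_cases j <;> simp [map_add', map_smul', he0, hf0, hef, polar_smul_left', polar_smul_right']
    linear_combination h5
  · fin_cases i <;> fin_cases j <;>
      first
        | exact absurd rfl hij
        | (simp [polar_add_left, polar_add_right, polar_smul_left', polar_smul_right', polar_self', he0, hf0, hef,
            polar_comm Q f e]; linear_combination h5)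
  · obtain ⟨x, y, rfl, hQv⟩ := hc v hv
    rw [hv1] at hQv
    have hx : x ≠ 0 := fun h => by rw [h, zero_mul] at hQv; exact one_ne_zero hQv
    have h4 : x * x * x * x = 1 := by
      have h1 := pow_card_pred hx
      rw [hq] at h1
      linear_combination h1
    have hy : y = x * x * x := mul_left_cancel₀ hx (by linear_combination -hQv - h4)
    have hxs : (x = 1 ∨ x = -1) ∨ (x = 2 ∨ x = -2) := by
      rcases mul_eq_zero.1 (show ((x - 1) * (x + 1)) * ((x - 2) * (x + 2)) = 0 by
        linear_combination h4 + (1 - x * x) * h5) with h | h <;> rcases mul_eq_zero.1 h with h | h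
      · exact Or.inl (Or.inl (sub_eq_zero.1 h))
      · exact Or.inl (Or.inr (eq_neg_of_add_eq_zero_left h))
      · exact Or.inr (Or.inl (sub_eq_zero.1 h))
      · exact Or.inr (Or.inr (eq_neg_of_add_eq_zero_left h))
    subst hy
    rcases hxs with (rfl | rfl) | (rfl | rfl)
    · exact ⟨0, Or.inl (by simp)⟩
    · exact ⟨0, Or.inr (by simp; abel)⟩
    · refine ⟨1, Or.inl ?_⟩
      simp only [Matrix.cons_val_one, Matrix.cons_val_zero]
      match_scalars <;> first | ring1 | linear_combination h5
    · refine ⟨1, Or.inr ?_⟩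
      simp only [Matrix.cons_val_one, Matrix.cons_val_zero]
      match_scalars <;> first | ring1 | linear_combination h5 | linear_combination -h5

/-- The orthogonal complement of an anisotropic vector inside a subspace. -/
theorem exists_complement_in (h2 : (2 : F) ≠ 0) {W : Submodule F (ι → F)} (hW : IsNondegenerateOn (polar ⇑Q) W)
    {p : ι → F} (hp : p ∈ W) (hQp : Q p ≠ 0) :
    ∃ W' : Submodule F (ι → F), W' ≤ W ∧ IsNondegenerateOn (polar ⇑Q) W' ∧ (∀ w ∈ W', polar Q p w = 0) ∧
      Module.finrank F W' + 1 = Module.finrank F W := by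
  set W' := W ⊓ LinearMap.ker (polarBilin Q p)
  have hpp : polar Q p p ≠ 0 := by rw [polar_self']; exact mul_ne_zero h2 hQp
  have hdec : ∀ v ∈ W, v - (polar Q p v / polar Q p p) • p ∈ W' := fun v hv =>
    ⟨W.sub_mem hv (W.smul_mem _ hp), by
      show polar Q p _ = 0
      rw [polar_sub_right, polar_smul_right', div_mul_cancel₀ _ hpp, sub_self]⟩
  refine ⟨W', inf_le_left, fun w hw hw0 => ?_, fun w hw => hw.2, ?_⟩
  · obtain ⟨⟨x, hx, hne⟩, -⟩ := hW w hw.1 hw0
    have hne' : polar Q (x - (polar Q p x / polar Q p p) • p) w ≠ 0 := by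
      rw [polar_sub_left, polar_smul_left', show polar Q p w = 0 from hw.2, mul_zero, sub_zero]
      exact hne
    exact ⟨⟨_, hdec x hx, hne'⟩, _, hdec x hx, by rwa [polar_comm]⟩
  · have hsup : W' ⊔ Submodule.span F {p} = W := le_antisymm
      (sup_le inf_le_left ((Submodule.span_singleton_le_iff_mem _ _).2 hp)) fun v hv => by
        have h := Submodule.add_mem_sup (hdec v hv)
          (Submodule.smul_mem (Submodule.span F {p}) (polar Q p v / polar Q p p) (Submodule.mem_span_singleton_self p))
        simpa using h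
    have hd : Disjoint W' (Submodule.span F {p}) := by
      rw [Submodule.disjoint_def]
      intro x hx hx'
      obtain ⟨a, rfl⟩ := Submodule.mem_span_singleton.1 hx'
      have : polar Q p (a • p) = 0 := hx.2
      rw [polar_smul_right'] at this
      rw [(mul_eq_zero.1 this).resolve_right hpp, zero_smul]
    have h1 := finrank_sup_of_disjoint hd
    rw [hsup, finrank_span_singleton (fun h => hQp (by rw [h, QuadraticMap.map_zero]))] at h1
    omega

/-- Coordinates in an orthogonal basis with one value. -/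
theorem orth_coords (h2 : (2 : F) ≠ 0) {W : Submodule F (ι → F)} {k : ℕ} (hd : Module.finrank F W = k)
    {c : F} (hc : c ≠ 0) (b : Fin k → ι → F) (hb : ∀ j, b j ∈ W) (hbc : ∀ j, Q (b j) = c)
    (hbo : ∀ i j, i ≠ j → polar Q (b i) (b j) = 0) {v : ι → F} (hv : v ∈ W) :
    ∃ x : Fin k → F, v = ∑ j, x j • b j ∧ Q v = c * ∑ j, x j * x j := by
  classical
  have hli : LinearIndependent F b := Fintype.linearIndependent_iff.2 fun x hx i => by
    have h := congrArg (fun z => polarBilin Q z (b i)) hx
    simp only [map_sum, map_smul, LinearMap.sum_apply, LinearMap.smul_apply, map_zero, LinearMap.zero_apply,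
      polarBilin_apply_apply, smul_eq_mul] at h
    rw [Finset.sum_eq_single i (fun j _ hj => by rw [hbo j i hj, mul_zero]) (by simp), polar_self', hbc] at h
    exact (mul_eq_zero.1 h).resolve_right (mul_ne_zero h2 hc)
  have hspan : Submodule.span F (Set.range b) = W := Submodule.eq_of_le_of_finrank_le
    (Submodule.span_le.2 (Set.range_subset_iff.2 hb))
    (by rw [finrank_span_eq_card hli, Fintype.card_fin, hd])
  rw [← hspan, Submodule.mem_span_range_iff_exists_fun] at hv
  obtain ⟨x, rfl⟩ := hv
  refine ⟨x, rfl, ?_⟩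
  suffices h : ∀ s : Finset (Fin k), Q (∑ j ∈ s, x j • b j) = c * ∑ j ∈ s, x j * x j from h Finset.univ
  intro s
  induction s using Finset.induction with
  | empty => simp
  | @insert j s hj ih =>
    rw [Finset.sum_insert hj, Finset.sum_insert hj, map_add', ih, map_smul', hbc]
    have h0 : polar Q (x j • b j) (∑ l ∈ s, x l • b l) = 0 := by
      rw [← polarBilin_apply_apply, map_sum]
      refine Finset.sum_eq_zero fun l hl => ?_
      rw [polarBilin_apply_apply, polar_smul_left', polar_smul_right', hbo j l (fun e => hj (e ▸ hl))]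
      ring
    rw [h0]
    ring

/-- Minus planes and three-dimensional parts over the field with three elements refine into lines. -/
theorem parts_three {H : Subgroup (GL ι F)} (hH : H ≤ isometryGroup F ⇑Q) {t k : ℕ}
    {D : Fin t → Submodule F (ι → F)} (hD : IsOrthogonalMDecomposition ⇑Q k D) (hle : H ≤ decompositionStabilizer D)
    (hq : Fintype.card F = 3) (hk : k = 3 ∨ (k = 2 ∧ ∀ i, ¬ IsPlusTypeOn ⇑Q (D i))) :
    ∃ D' : Fin (t * k) → Submodule F (ι → F), IsOrthogonalMDecomposition ⇑Q 1 D' ∧
      H ≤ decompositionStabilizer D' := by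
  have h3 : (3 : F) = 0 := by
    have h := FiniteField.cast_card_eq_zero F
    rw [hq] at h
    exact_mod_cast h
  have h2 : (2 : F) ≠ 0 := fun h => one_ne_zero (α := F) (by linear_combination h3 - h)
  have hpm : ∀ {a : F}, a ≠ 0 → a = 1 ∨ a = -1 := fun {a} ha => by
    have h1 := pow_card_pred ha
    rw [hq] at h1
    exact mul_self_eq_one_iff.1 (by linear_combination h1)
  have hsq : ∀ x : F, x = 0 ∨ x * x = 1 := fun x => by
    rcases eq_or_ne x 0 with h | h
    · exact Or.inl h
    · rcases hpm h with e | e <;> simp [e]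
  have ht := hD.decomp.decomp.two_le
  let i₀ : Fin t := ⟨0, by omega⟩
  have hW := hD.decomp.nondegenerate i₀
  have hdW := hD.decomp.decomp.finrank_eq i₀
  have hne : ∀ {W : Submodule F (ι → F)}, 0 < Module.finrank F W → W ≠ ⊥ := fun h e => by
    rw [e, finrank_bot] at h
    exact lt_irrefl 0 h
  obtain ⟨p, hp, hQp⟩ := exists_nonsingular_mem' hW (hne (by omega))
  obtain ⟨W', hW'W, hW', hpW', hd'⟩ := exists_complement_in h2 hW hp hQp
  obtain ⟨q, hq', hQq⟩ := exists_nonsingular_mem' hW' (hne (by omega))
  have hpq : polar Q p q = 0 := hpW' q hq'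
  have hqp : polar Q q p = 0 := by rw [polar_comm]; exact hpq
  have hd2 : Q (p + q) = Q p + Q q := by rw [map_add', hpq, add_zero]
  have hd2' : Q (p - q) = Q p + Q q := by
    rw [CfsgLib.Geometry.map_sub', hpq, sub_zero]
  have hdo : polar Q (p + q) (p - q) = 2 * Q p - 2 * Q q := by
    rw [polar_add_left, polar_sub_right, polar_sub_right, polar_self', polar_self', hpq, hqp]; ring
  rcases hk with rfl | ⟨rfl, hminus⟩
  · obtain ⟨W'', hW''W, hW'', hqW'', hd''⟩ := exists_complement_in h2 hW' hq' hQq
    obtain ⟨r, hr, hQr⟩ := exists_nonsingular_mem' hW'' (hne (by omega))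
    have hpr : polar Q p r = 0 := hpW' r (hW''W hr)
    have hqr : polar Q q r = 0 := hqW'' r hr
    have main : ∀ a b c : ι → F, a ∈ D i₀ → b ∈ D i₀ → c ∈ D i₀ → Q a ≠ 0 → Q b = Q a → Q c = Q a →
        polar Q a b = 0 → polar Q a c = 0 → polar Q b c = 0 →
        ∃ D' : Fin (t * 3) → Submodule F (ι → F), IsOrthogonalMDecomposition ⇑Q 1 D' ∧
          H ≤ decompositionStabilizer D' := by
      intro a b c ha hb hc hQa hQb hQc hab hac hbc
      have hb' : ∀ j, ![a, b, c] j ∈ D i₀ := fun j => by fin_cases j <;> simpa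
      have hbc' : ∀ j, Q (![a, b, c] j) = Q a := fun j => by fin_cases j <;> simp [hQb, hQc]
      have hbo' : ∀ i j, i ≠ j → polar Q (![a, b, c] i) (![a, b, c] j) = 0 := fun i j hij => by
        fin_cases i <;> fin_cases j <;>
          first
            | exact absurd rfl hij
            | simp [hab, hac, hbc, polar_comm Q b a, polar_comm Q c a, polar_comm Q c b]
      refine refine_lines hH h2 hD hle i₀ hQa ![a, b, c] hb' hbc' hbo' fun v hv hv1 => ?_
      obtain ⟨x, rfl, hQv⟩ := orth_coords h2 hdW hQa _ hb' hbc' hbo' hv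
      rw [hv1] at hQv
      have hs : x 0 * x 0 + x 1 * x 1 + x 2 * x 2 = 1 := by
        rw [Fin.sum_univ_three] at hQv
        exact mul_left_cancel₀ hQa (by linear_combination -hQv)
      rw [Fin.sum_univ_three]
      rcases hsq (x 0) with h0 | h0 <;> rcases hsq (x 1) with h1 | h1 <;> rcases hsq (x 2) with h2' | h2'
      · simp [h0, h1, h2'] at hs
      · rcases mul_self_eq_one_iff.1 h2' with e | e
        · exact ⟨2, Or.inl (by simp [h0, h1, e])⟩
        · exact ⟨2, Or.inr (by simp [h0, h1, e])⟩
      · rcases mul_self_eq_one_iff.1 h1 with e | e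
        · exact ⟨1, Or.inl (by simp [h0, h2', e])⟩
        · exact ⟨1, Or.inr (by simp [h0, h2', e])⟩
      · exfalso; rw [h0, h1, h2', mul_zero] at hs; exact one_ne_zero (α := F) (by linear_combination hs)
      · rcases mul_self_eq_one_iff.1 h0 with e | e
        · exact ⟨0, Or.inl (by simp [h1, h2', e])⟩
        · exact ⟨0, Or.inr (by simp [h1, h2', e])⟩
      · exfalso; rw [h0, h1, h2', mul_zero] at hs; exact one_ne_zero (α := F) (by linear_combination hs)
      · exfalso; rw [h0, h1, h2', mul_zero] at hs; exact one_ne_zero (α := F) (by linear_combination hs)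
      · exfalso; rw [h0, h1, h2'] at hs; exact one_ne_zero (α := F) (by linear_combination h3 - hs)
    have two : ∀ a b c : ι → F, a ∈ D i₀ → b ∈ D i₀ → c ∈ D i₀ → Q a ≠ 0 → Q b = Q a →
        Q c ≠ 0 → polar Q a b = 0 → polar Q a c = 0 → polar Q b c = 0 →
        ∃ D' : Fin (t * 3) → Submodule F (ι → F), IsOrthogonalMDecomposition ⇑Q 1 D' ∧
          H ≤ decompositionStabilizer D' := by
      intro a b c ha hb hc hQa hQb hQc hab hac hbc
      by_cases hca : Q c = Q a
      · exact main a b c ha hb hc hQa hQb hca hab hac hbc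
      have hba : polar Q b a = 0 := by rw [polar_comm]; exact hab
      have hneg : Q c = -Q a := by
        rcases hpm hQc with e | e <;> rcases hpm hQa with e' | e' <;> rw [e, e'] at hca ⊢ <;>
          first | exact absurd rfl hca | simp
      have e1 : Q (a + b) = -Q a := by rw [map_add', hab, hQb]; linear_combination Q a * h3
      refine main (a + b) (a - b) c ((D i₀).add_mem ha hb) ((D i₀).sub_mem ha hb) hc
        (by rw [e1]; exact neg_ne_zero.2 hQa) ?_ (by rw [e1, hneg]) ?_
        (by rw [polar_add_left, hac, hbc, add_zero]) (by rw [polar_sub_left, hac, hbc, sub_zero])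
      · rw [e1, CfsgLib.Geometry.map_sub', hab, hQb]; linear_combination Q a * h3
      · rw [polar_add_left, polar_sub_right, polar_sub_right, polar_self', polar_self', hab, hba, hQb]; ring
    have hrp : polar Q r p = 0 := by rw [polar_comm]; exact hpr
    have hrq : polar Q r q = 0 := by rw [polar_comm]; exact hqr
    by_cases e1 : Q q = Q p
    · exact two p q r hp (hW'W hq') (hW'W (hW''W hr)) hQp e1 hQr hpq hpr hqr
    by_cases e2 : Q r = Q p
    · exact two p r q hp (hW'W (hW''W hr)) (hW'W hq') hQp e2 hQq hpr hpq hrq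
    refine two q r p (hW'W hq') (hW'W (hW''W hr)) hp hQq ?_ hQp hqr hqp hrp
    rcases hpm hQp with h | h <;> rcases hpm hQq with h' | h' <;> rcases hpm hQr with h'' | h'' <;>
      rw [h, h'] at e1 <;> rw [h, h''] at e2 <;> rw [h', h''] <;>
      first | exact absurd rfl e1 | exact absurd rfl e2 | rfl
  · have heq : Q q = Q p := by
      by_contra hne'
      have hsum : Q (p + q) = 0 := by
        rw [hd2]
        rcases hpm hQp with h | h <;> rcases hpm hQq with h' | h' <;> rw [h, h'] at hne' ⊢ <;>
          first | exact absurd rfl hne' | ring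
      have hne0 : p + q ≠ 0 := fun e => hQp (by
        have h := congrArg (fun z => polar Q z p) e
        simp only [polar_add_left, polar_self', hqp, QuadraticMap.polar_zero_left, add_zero] at h
        exact (mul_eq_zero.1 h).resolve_left h2)
      exact hminus i₀ ⟨Submodule.span F {p + q},
        (Submodule.span_singleton_le_iff_mem _ _).2 ((D i₀).add_mem hp (hW'W hq')),
        fun u hu => by
          obtain ⟨a, rfl⟩ := Submodule.mem_span_singleton.1 hu
          rw [map_smul', hsum, mul_zero],
        by rw [finrank_span_singleton hne0, hdW]⟩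
    have main : ∀ a b : ι → F, a ∈ D i₀ → b ∈ D i₀ → Q a = 1 → Q b = 1 → polar Q a b = 0 →
        ∃ D' : Fin (t * 2) → Submodule F (ι → F), IsOrthogonalMDecomposition ⇑Q 1 D' ∧
          H ≤ decompositionStabilizer D' := by
      intro a b ha hb hQa hQb hab
      have hb' : ∀ j, ![a, b] j ∈ D i₀ := fun j => by fin_cases j <;> simpa
      have hbc' : ∀ j, Q (![a, b] j) = 1 := fun j => by fin_cases j <;> simp [hQa, hQb]
      have hbo' : ∀ i j, i ≠ j → polar Q (![a, b] i) (![a, b] j) = 0 := fun i j hij => by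
        fin_cases i <;> fin_cases j <;>
          first
            | exact absurd rfl hij
            | simp [hab, polar_comm Q b a]
      refine refine_lines hH h2 hD hle i₀ one_ne_zero ![a, b] hb' hbc' hbo' fun v hv hv1 => ?_
      obtain ⟨x, rfl, hQv⟩ := orth_coords h2 hdW one_ne_zero _ hb' hbc' hbo' hv
      rw [hv1, one_mul, Fin.sum_univ_two] at hQv
      rw [Fin.sum_univ_two]
      rcases hsq (x 0) with h0 | h0 <;> rcases hsq (x 1) with h1 | h1
      · simp [h0, h1] at hQv
      · rcases mul_self_eq_one_iff.1 h1 with e | e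
        · exact ⟨1, Or.inl (by simp [h0, e])⟩
        · exact ⟨1, Or.inr (by simp [h0, e])⟩
      · rcases mul_self_eq_one_iff.1 h0 with e | e
        · exact ⟨0, Or.inl (by simp [h1, e])⟩
        · exact ⟨0, Or.inr (by simp [h1, e])⟩
      · exfalso; rw [h0, h1] at hQv; exact one_ne_zero (α := F) (by linear_combination -hQv)
    rcases hpm hQp with e | e
    · exact main p q hp (hW'W hq') e (heq.trans e) hpq
    · refine main (p + q) (p - q) ((D i₀).add_mem hp (hW'W hq')) ((D i₀).sub_mem hp (hW'W hq')) ?_ ?_ ?_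
      · rw [hd2, heq, e]; linear_combination -h3
      · rw [hd2', heq, e]; linear_combination -h3
      · rw [hdo, heq, sub_self]
where
  exists_nonsingular_mem' {W : Submodule F (ι → F)} (hW : IsNondegenerateOn (polar ⇑Q) W) (h0 : W ≠ ⊥) :
      ∃ p ∈ W, Q p ≠ 0 := by
    by_contra hc
    push Not at hc
    obtain ⟨w, hw, hw0⟩ := Submodule.exists_mem_ne_zero_of_ne_bot h0
    obtain ⟨⟨x, hx, hne⟩, -⟩ := hW w hw hw0
    exact hne (polar_eq_zero_of_singular hc hx hw)

/-- The predicate of a plane all of whose non-zero vectors have value one. -/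
def PlaneOne (Q : QuadraticForm F (ι → F)) (W : Submodule F (ι → F)) : Prop :=
  Module.finrank F W = 2 ∧ ∀ w ∈ W, w ≠ 0 → Q w = 1

theorem planeOne_invariant (A B : Submodule F (ι → F)) (h : AreIsometricFor ⇑Q A B) (hA : PlaneOne Q A) :
    PlaneOne Q B := by
  obtain ⟨e, he⟩ := h
  refine ⟨by rw [← e.finrank_eq, hA.1], fun w hw hw0 => ?_⟩
  obtain ⟨a, ha⟩ := e.surjective ⟨w, hw⟩
  obtain rfl : (e a : ι → F) = w := congrArg Subtype.val ha
  rw [he]
  exact hA.2 _ a.2 fun h0 => hw0 (by rw [show a = 0 from Subtype.ext h0, map_zero]; rfl)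

theorem planeOne_not_plus {W : Submodule F (ι → F)} (h : PlaneOne Q W) : ¬ IsPlusTypeOn ⇑Q W := by
  rintro ⟨U, hUW, hU, hUd⟩
  obtain ⟨e, he, he0⟩ := Submodule.exists_mem_ne_zero_of_ne_bot (show U ≠ ⊥ from fun h' => by
    rw [h', finrank_bot, h.1] at hUd
    exact absurd hUd (by norm_num))
  exact one_ne_zero ((h.2 e (hUW he) he0).symm.trans (hU e he))

/-- Plus four-dimensional parts over the field with two elements refine into minus planes. -/
theorem parts_four_two {H : Subgroup (GL ι F)} (hH : H ≤ isometryGroup F ⇑Q) {t : ℕ}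
    {D : Fin t → Submodule F (ι → F)} (hD : IsOrthogonalMDecomposition ⇑Q 4 D) (hle : H ≤ decompositionStabilizer D)
    (hq : Fintype.card F = 2) (hp : ∀ i, IsPlusTypeOn ⇑Q (D i)) :
    ∃ D' : Fin (t * 2) → Submodule F (ι → F), IsOrthogonalMDecomposition ⇑Q 2 D' ∧
      (∀ i, ¬ IsPlusTypeOn ⇑Q (D' i)) ∧ H ≤ decompositionStabilizer D' := by
  classical
  have h2 : (2 : F) = 0 := by
    have h := FiniteField.cast_card_eq_zero F
    rw [hq] at h
    exact_mod_cast h
  have h01 : ∀ x : F, x = 0 ∨ x = 1 := fun x => by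
    rcases eq_or_ne x 0 with h | h
    · exact Or.inl h
    · have h1 := pow_card_pred h
      rw [hq, pow_one] at h1
      exact Or.inr h1
  have ht := hD.decomp.decomp.two_le
  let i₀ : Fin t := ⟨0, by omega⟩
  have hW := hD.decomp.nondegenerate i₀
  have hdW := hD.decomp.decomp.finrank_eq i₀
  obtain ⟨U, hUW, hU, hUd⟩ := hp i₀
  have hU2 : Module.finrank F U = 2 := by omega
  let bU := Module.finBasisOfFinrankEq F U hU2
  set e₁ : ι → F := (bU 0 : ι → F)
  set e₂ : ι → F := (bU 1 : ι → F)
  let φ : (D i₀) →ₗ[F] F × F := ((polarBilin Q e₁).prod (polarBilin Q e₂)).comp (D i₀).subtype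
  have hli : ∀ a b : F, a • e₁ + b • e₂ = 0 → a = 0 ∧ b = 0 := fun a b h => by
    have := Fintype.linearIndependent_iff.1 bU.linearIndependent ![a, b] (Subtype.ext (by simpa [e₁, e₂] using h))
    exact ⟨this 0, this 1⟩
  have hker : LinearMap.range φ = ⊤ := by
    by_contra hne
    have hlt : Module.finrank F (LinearMap.range φ) < 2 := by
      have h := Submodule.finrank_lt hne
      rwa [Module.finrank_prod, Module.finrank_self] at h
    obtain ⟨g, hg0, hg⟩ := Submodule.exists_dual_map_eq_bot_of_lt_top (lt_top_iff_ne_top.2 hne) inferInstance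
    set a := g (1, 0)
    set b := g (0, 1)
    have hg' : ∀ x y, g (x, y) = x * a + y * b := fun x y => by
      rw [show ((x, y) : F × F) = x • (1, 0) + y • (0, 1) by simp, map_add, map_smul, map_smul]
      rfl
    have hzero : ∀ z ∈ D i₀, polar Q (a • e₁ + b • e₂) z = 0 := fun z hz => by
      have h1 : g (φ ⟨z, hz⟩) = 0 := by
        have : g (φ ⟨z, hz⟩) ∈ (LinearMap.range φ).map g := ⟨_, LinearMap.mem_range_self φ _, rfl⟩
        rwa [hg, Submodule.mem_bot] at this
      rw [show φ ⟨z, hz⟩ = (polar Q e₁ z, polar Q e₂ z) from rfl, hg'] at h1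
      rw [polar_add_left, polar_smul_left', polar_smul_left']
      linear_combination h1
    by_cases h0 : a • e₁ + b • e₂ = 0
    · obtain ⟨ha, hb⟩ := hli a b h0
      exact hg0 (LinearMap.ext fun p => by rw [show p = (p.1, p.2) from rfl, hg', ha, hb]; simp)
    · obtain ⟨-, z, hz, hne'⟩ := hW _ ((D i₀).add_mem ((D i₀).smul_mem _ (hUW (bU 0).2))
        ((D i₀).smul_mem _ (hUW (bU 1).2))) h0
      exact hne' (hzero z hz)
  obtain ⟨⟨x₁, hx₁⟩, hx₁'⟩ := LinearMap.range_eq_top.1 hker (1, 0)
  obtain ⟨⟨x₂, hx₂⟩, hx₂'⟩ := LinearMap.range_eq_top.1 hker (0, 1)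
  have p11 : polar Q e₁ x₁ = 1 := congrArg Prod.fst hx₁'
  have p21 : polar Q e₂ x₁ = 0 := congrArg Prod.snd hx₁'
  have p12 : polar Q e₁ x₂ = 0 := congrArg Prod.fst hx₂'
  have p22 : polar Q e₂ x₂ = 1 := congrArg Prod.snd hx₂'
  have q1 : Q e₁ = 0 := hU _ (bU 0).2
  have q2 : Q e₂ = 0 := hU _ (bU 1).2
  have pee : polar Q e₁ e₂ = 0 := polar_eq_zero_of_singular hU (bU 0).2 (bU 1).2
  set f₁ := x₁ + Q x₁ • e₁
  have f1q : Q f₁ = 0 := by
    simp only [f₁, map_add', map_smul', q1, polar_smul_right', polar_comm Q x₁ e₁, p11]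
    linear_combination Q x₁ * h2
  set f₂ := x₂ + polar Q x₂ f₁ • e₁ + Q (x₂ + polar Q x₂ f₁ • e₁) • e₂
  have e11 : polar Q e₁ f₁ = 1 := by
    simp only [f₁, polar_add_right, polar_smul_right', p11, polar_self', q1]; ring
  have e21 : polar Q e₂ f₁ = 0 := by
    simp only [f₁, polar_add_right, polar_smul_right', p21, polar_comm Q e₂ e₁, pee]; ring
  have e12 : polar Q e₁ f₂ = 0 := by
    simp only [f₂, polar_add_right, polar_smul_right', p12, polar_self', q1, pee]; ring
  have e22 : polar Q e₂ f₂ = 1 := by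
    simp only [f₂, polar_add_right, polar_smul_right', p22, polar_self', q2, polar_comm Q e₂ e₁, pee]; ring
  have f12 : polar Q f₁ f₂ = 0 := by
    simp only [f₂, polar_add_right, polar_smul_right', polar_comm Q f₁ e₁, e11, polar_comm Q f₁ e₂, e21,
      polar_comm Q f₁ x₂]
    linear_combination polar Q x₂ f₁ * h2
  have f2q : Q f₂ = 0 := by
    have hz : polar Q (x₂ + polar Q x₂ f₁ • e₁) e₂ = 1 := by
      rw [polar_add_left, polar_smul_left', pee, mul_zero, add_zero, polar_comm]; exact p22
    simp only [f₂]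
    rw [map_add' Q (x₂ + polar Q x₂ f₁ • e₁), map_smul', q2, polar_smul_right', hz]
    linear_combination Q (x₂ + polar Q x₂ f₁ • e₁) * h2
  have me1 : e₁ ∈ D i₀ := hUW (bU 0).2
  have me2 : e₂ ∈ D i₀ := hUW (bU 1).2
  have mf1 : f₁ ∈ D i₀ := (D i₀).add_mem hx₁ ((D i₀).smul_mem _ me1)
  have mf2 : f₂ ∈ D i₀ := (D i₀).add_mem ((D i₀).add_mem hx₂ ((D i₀).smul_mem _ me1)) ((D i₀).smul_mem _ me2)
  set a₁ := e₁ + f₁
  set b₁ := e₁ + e₂ + f₂
  set a₂ := e₂ + f₂
  set b₂ := e₂ + e₁ + f₁
  have hself : ∀ x, polar Q x x = 0 := fun x => by rw [polar_self', h2, zero_mul]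
  have sA : Q a₁ = 1 ∧ Q b₁ = 1 ∧ polar Q a₁ b₁ = 1 := by
    refine ⟨?_, ?_, ?_⟩ <;> simp only [a₁, b₁, map_add', polar_add_left, polar_add_right, hself, q1, q2, f1q, f2q,
      pee, e11, e12, e22, polar_comm Q f₁ e₁, polar_comm Q f₁ e₂, e21, f12] <;> ring
  have sB : Q a₂ = 1 ∧ Q b₂ = 1 ∧ polar Q a₂ b₂ = 1 := by
    refine ⟨?_, ?_, ?_⟩ <;> simp only [a₂, b₂, map_add', polar_add_left, polar_add_right, hself, q1, q2, f1q, f2q,
      pee, e11, e12, e22, polar_comm Q f₂ e₁, polar_comm Q f₂ e₂, polar_comm Q e₂ e₁, e21, polar_comm Q f₂ f₁, f12] <;>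
      ring
  have hAB : ∀ u ∈ ({a₁, b₁} : Set (ι → F)), ∀ v ∈ ({a₂, b₂} : Set (ι → F)), polar Q u v = 0 := by
    rintro u (rfl | rfl) v (rfl | rfl) <;>
      simp only [a₁, a₂, b₁, b₂, polar_add_left, polar_add_right, hself, pee, e11, e12, e21, e22,
        polar_comm Q f₁ e₁, polar_comm Q f₁ e₂, polar_comm Q f₂ e₁, polar_comm Q f₂ e₂, polar_comm Q e₂ e₁,
        polar_comm Q f₂ f₁, f12] <;>
      first | ring1 | linear_combination h2
  have hplane : ∀ a b : ι → F, Q a = 1 → Q b = 1 → polar Q a b = 1 →
      PlaneOne Q (Submodule.span F {a, b}) ∧ IsNondegenerateOn (polar ⇑Q) (Submodule.span F {a, b}) := by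
    intro a b ha hb hab
    have hba : polar Q b a = 1 := by rw [polar_comm]; exact hab
    have hl : LinearIndependent F ![a, b] := LinearIndependent.pair_iff.2 fun x y hxy => by
      have h1 := congrArg (fun z => polar Q z b) hxy
      have h2' := congrArg (fun z => polar Q z a) hxy
      simp only [polar_add_left, polar_smul_left', hab, hba, hself, QuadraticMap.polar_zero_left] at h1 h2'
      exact ⟨by linear_combination h1, by linear_combination h2'⟩
    refine ⟨⟨?_, fun w hw hw0 => ?_⟩, fun w hw hw0 => ?_⟩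
    · have h := finrank_span_eq_card hl
      rwa [Matrix.range_cons_cons_empty, Fintype.card_fin] at h
    · obtain ⟨x, y, rfl⟩ := Submodule.mem_span_pair.1 hw
      rw [map_add', map_smul', map_smul', polar_smul_left', polar_smul_right', ha, hb, hab]
      rcases h01 x with rfl | rfl <;> rcases h01 y with rfl | rfl
      · simp at hw0
      · ring
      · ring
      · linear_combination h2
    · obtain ⟨x, y, rfl⟩ := Submodule.mem_span_pair.1 hw
      have ma : a ∈ Submodule.span F ({a, b} : Set (ι → F)) := Submodule.subset_span (Set.mem_insert _ _)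
      have mb : b ∈ Submodule.span F ({a, b} : Set (ι → F)) := Submodule.subset_span (Set.mem_insert_of_mem _ rfl)
      by_cases hx : x = 0
      · have hy : y ≠ 0 := fun h => hw0 (by simp [hx, h])
        exact ⟨⟨a, ma, by simp [polar_add_right, polar_smul_right', hx, hab, hy]⟩,
          a, ma, by simp [polar_add_left, polar_smul_left', hx, hba, hy]⟩
      · exact ⟨⟨b, mb, by simp [polar_add_right, polar_smul_right', hba, hself, hx]⟩,
          b, mb, by simp [polar_add_left, polar_smul_left', hab, hself, hx]⟩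
  obtain ⟨hA1, hA2⟩ := hplane a₁ b₁ sA.1 sA.2.1 sA.2.2
  obtain ⟨hB1, hB2⟩ := hplane a₂ b₂ sB.1 sB.2.1 sB.2.2
  set A := Submodule.span F ({a₁, b₁} : Set (ι → F))
  set B := Submodule.span F ({a₂, b₂} : Set (ι → F))
  have hoAB : Orth Q A B := by
    intro u hu v hv
    induction hu using Submodule.span_induction with
    | mem u hu =>
      induction hv using Submodule.span_induction with
      | mem v hv => exact hAB u hu v hv
      | zero => exact QuadraticMap.polar_zero_right _ _
      | add x y _ _ hx hy => rw [polar_add_right, hx, hy, add_zero]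
      | smul c x _ hx => rw [polar_smul_right', hx, mul_zero]
    | zero => exact QuadraticMap.polar_zero_left _ _
    | add x y _ _ hx hy => rw [polar_add_left, hx, hy, add_zero]
    | smul c x _ hx => rw [polar_smul_left', hx, mul_zero]
  have hAD : A ≤ D i₀ := Submodule.span_le.2 (by
    rintro z (rfl | rfl)
    exacts [add_mem me1 mf1, add_mem (add_mem me1 me2) mf2])
  have hBD : B ≤ D i₀ := Submodule.span_le.2 (by
    rintro z (rfl | rfl)
    exacts [add_mem me2 mf2, add_mem (add_mem me2 me1) mf1])
  have hsum : A ⊔ B = D i₀ := Submodule.eq_of_le_of_finrank_le (sup_le hAD hBD)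
    (by rw [finrank_sup_of_disjoint (disjoint_of_orth hoAB hA2), hA1.1, hB1.1, hdW])
  have hiso : AreIsometricFor ⇑Q A B := isometric_of_type (m := 0) hA2 hB2 hA1.1 hB1.1
    (iff_of_false (planeOne_not_plus hA1) (planeOne_not_plus hB1))
  obtain ⟨D', h1, h3, h4⟩ := refine_decomp hH hD hle i₀ two_pos (s := 2) rfl ![A, B]
    (fun j => by fin_cases j; exacts [hAD, hBD])
    ⟨fun j => by fin_cases j; exacts [hA1.1, hB1.1], fun j => by fin_cases j; exacts [hA2, hB2],
      fun i j hij => by fin_cases i <;> fin_cases j <;> first | exact absurd rfl hij | exact hoAB | exact hoAB.symm⟩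
    (fun i j => by
      fin_cases i <;> fin_cases j
      exacts [isometric_refl _, hiso, isometric_symm hiso, isometric_refl _])
    (PlaneOne Q) planeOne_invariant (fun j => by fin_cases j; exacts [hA1, hB1]) fun W hWD hW1 => by
      have hcases : ∀ w ∈ W, w ≠ 0 → w ∈ A ∨ w ∈ B := fun w hw hw0 => by
        obtain ⟨a, ha, b, hb, rfl⟩ := Submodule.mem_sup.1 (hsum.symm ▸ hWD hw : w ∈ A ⊔ B)
        by_cases ha0 : a = 0
        · exact Or.inr (by rw [ha0, zero_add]; exact hb)
        by_cases hb0 : b = 0
        · exact Or.inl (by rw [hb0, add_zero]; exact ha)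
        exfalso
        have h := hW1.2 _ hw hw0
        rw [hoAB.map_add ha hb, hA1.2 a ha ha0, hB1.2 b hb hb0] at h
        exact one_ne_zero (α := F) (by linear_combination h)
      have hle' : W ≤ A ∨ W ≤ B := by
        by_contra hc
        push Not at hc
        obtain ⟨u, hu, huA⟩ := SetLike.not_le_iff_exists.1 hc.1
        obtain ⟨v, hv, hvB⟩ := SetLike.not_le_iff_exists.1 hc.2
        have huB : u ∈ B := (hcases u hu fun e => huA (e ▸ A.zero_mem)).resolve_left huA
        have hvA : v ∈ A := (hcases v hv fun e => hvB (e ▸ B.zero_mem)).resolve_right hvB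
        have hne : u + v ≠ 0 := fun e => huA (by
          rw [eq_neg_of_add_eq_zero_left e]; exact A.neg_mem hvA)
        rcases hcases _ (W.add_mem hu hv) hne with h | h
        · exact huA ((Submodule.add_mem_iff_left A hvA).1 h)
        · exact hvB ((Submodule.add_mem_iff_right B huB).1 h)
      rcases hle' with h | h
      · exact ⟨0, Submodule.eq_of_le_of_finrank_le h (by rw [hW1.1]; exact hA1.1.le)⟩
      · exact ⟨1, Submodule.eq_of_le_of_finrank_le h (by rw [hW1.1]; exact hB1.1.le)⟩
  exact ⟨D', h1, fun i => planeOne_not_plus (h3 i), h4⟩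

end CfsgLib.AschbacherOrth
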