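import Cfsg.Agent.Lib.AschbacherOrth.EvenCases

/-!
# Symmetric tensor products of dimensions three and four
-/

set_option autoImplicit false
set_option linter.unusedSectionVars false
set_option linter.style.show false

namespace CfsgLib.AschbacherOrth

open QuadraticMap Cfsg Cfsg.Geo CfsgLib.Geometry CfsgLib.Aschbacher
open CfsgLib.AschbacherForm (Geom IsSim coordR coordJ kronGL)
open scoped Matrix MatrixGroups Kronecker

universe u
variable {F : Type u} [Field F] [Fintype F] {ι : Type} [Fintype ι] [DecidableEq ι]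
variable {Q : QuadraticForm F (ι → F)}

local notation "σ₀" => RingEquiv.refl F

/-- Four isometric orthogonal subspaces of odd dimension span a space of plus type. -/
theorem four_parts_plus {k : ℕ} {D : Fin 4 → Submodule F (ι → F)}
    (hD : IsOrthogonalMDecomposition ⇑Q k D) : IsPlusTypeOn ⇑Q ⊤ := by
  have ho : ∀ i j, i ≠ j → Orth Q (D i) (D j) := hD.decomp.orthogonal
  have hnd := hD.decomp.nondegenerate
  have hA := nondeg_sup (ho 0 1 (by decide)) (hnd 0) (hnd 1)
  have hB := nondeg_sup (ho 2 3 (by decide)) (hnd 2) (hnd 3)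
  have hd1 := disjoint_of_orth (ho 0 1 (by decide)) (hnd 0)
  have hd2 := disjoint_of_orth (ho 2 3 (by decide)) (hnd 2)
  have hAB : Orth Q (D 0 ⊔ D 1) (D 2 ⊔ D 3) :=
    ((ho 0 2 (by decide)).sup_left (ho 1 2 (by decide))).symm.sup_left
      ((ho 0 3 (by decide)).sup_left (ho 1 3 (by decide))).symm |>.symm
  have hiso := isometric_sup hd1 hd2 (ho 0 1 (by decide)) (ho 2 3 (by decide)) (hD.isometric 0 2) (hD.isometric 1 3)
  have hdim : Module.finrank F ↥(D 0 ⊔ D 1) = k + k := by
    rw [finrank_sup_of_disjoint hd1, hD.decomp.decomp.finrank_eq, hD.decomp.decomp.finrank_eq]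
  have h := plus_sup_isometric (disjoint_of_orth hAB hA) hAB hA hB hiso fun _ =>
    isSquare_of_halves ⟨k, hdim⟩
  rwa [show (D 0 ⊔ D 1) ⊔ (D 2 ⊔ D 3) = ⊤ from eq_top_iff.2 (hD.decomp.decomp.iSup_eq_top ▸ iSup_le fun i => by
    fin_cases i
    exacts [le_sup_left.trans le_sup_left, le_sup_right.trans le_sup_left, le_sup_left.trans le_sup_right,
      le_sup_right.trans le_sup_right])] at h

/-- A factor of plus type gives a form of plus type. -/
theorem plus_of_factor_plus {d k : ℕ} (h2 : (2 : F) ≠ 0) (e : ι ≃ Fin d × Fin k) (P : GL ι F)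
    (S : GL (Fin d) F) (T : GL (Fin k) F)
    (hT : (T : Matrix (Fin k) (Fin k) F)ᵀ = (T : Matrix (Fin k) (Fin k) F))
    (hform : ∀ x y, polar Q ((P : Matrix ι ι F) *ᵥ (x ∘ e)) ((P : Matrix ι ι F) *ᵥ (y ∘ e)) =
      formOfGram σ₀ ((S : Matrix (Fin d) (Fin d) F) ⊗ₖ (T : Matrix (Fin k) (Fin k) F)) x y)
    (hp : IsPlusTypeOn (fun v : Fin k → F => formOfGram σ₀ (T : Matrix (Fin k) (Fin k) F) v v) ⊤) :
    IsPlusTypeOn ⇑Q ⊤ := by
  classical
  obtain ⟨U, -, hU, hd⟩ := hp
  have hb := formOfGram_bilinear (T : Matrix (Fin k) (Fin k) F)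
  have hsym := (symmetric_of_gram T hT).symm
  have hU2 : ∀ u ∈ U, ∀ v ∈ U, formOfGram σ₀ (T : Matrix (Fin k) (Fin k) F) u v = 0 := fun u hu v hv => by
    have h1 : formOfGram σ₀ (T : Matrix (Fin k) (Fin k) F) (u + v) (u + v) = 0 := hU _ (U.add_mem hu hv)
    have hu0 : formOfGram σ₀ (T : Matrix (Fin k) (Fin k) F) u u = 0 := hU u hu
    have hv0 : formOfGram σ₀ (T : Matrix (Fin k) (Fin k) F) v v = 0 := hU v hv
    rw [hb.add_left, hb.add_right, hb.add_right, hu0, hv0, hsym v u, zero_add, add_zero, ← two_mul] at h1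
    exact (mul_eq_zero.1 h1).resolve_left h2
  let L : (Fin d → U) →ₗ[F] (ι → F) :=
    { toFun := fun z => (P : Matrix ι ι F) *ᵥ ((fun a : Fin d × Fin k => (z a.1 : Fin k → F) a.2) ∘ e)
      map_add' := fun z z' => by rw [← Matrix.mulVec_add]; congr 1
      map_smul' := fun c z => by rw [RingHom.id_apply, ← Matrix.mulVec_smul]; congr 1 }
  refine ⟨LinearMap.range L, le_top, ?_, ?_⟩
  · rintro _ ⟨z, rfl⟩
    refine (mul_eq_zero.1 (show (2 : F) * Q (L z) = 0 from ?_)).resolve_left h2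
    rw [← polar_self']
    show polar Q ((P : Matrix ι ι F) *ᵥ _) ((P : Matrix ι ι F) *ᵥ _) = 0
    rw [hform]
    simp only [formOfGram, Fintype.sum_prod_type, Matrix.kronecker_apply, RingEquiv.refl_apply]
    refine Finset.sum_eq_zero fun i _ => ?_
    rw [Finset.sum_comm]
    refine Finset.sum_eq_zero fun i' _ => ?_
    have h := hU2 _ (z i).2 _ (z i').2
    simp only [formOfGram, RingEquiv.refl_apply] at h
    calc _ = (S : Matrix (Fin d) (Fin d) F) i i' * ∑ j, ∑ j', (z i : Fin k → F) j *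
          (T : Matrix (Fin k) (Fin k) F) j j' * (z i' : Fin k → F) j' := by
          simp only [Finset.mul_sum]
          exact Finset.sum_congr rfl fun j _ => Finset.sum_congr rfl fun j' _ => by ring
      _ = 0 := by rw [h, mul_zero]
  · have hL : Function.Injective L := (injective_iff_map_eq_zero L).2 fun z hz => by
      have h1 := congrArg ((↑P⁻¹ : Matrix ι ι F) *ᵥ ·) (show
        (P : Matrix ι ι F) *ᵥ ((fun a : Fin d × Fin k => (z a.1 : Fin k → F) a.2) ∘ e) = 0 from hz)
      simp only [Matrix.mulVec_mulVec, Units.inv_mul, Matrix.one_mulVec, Matrix.mulVec_zero] at h1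
      funext i
      refine Subtype.ext (funext fun j => ?_)
      simpa using congrFun h1 (e.symm (i, j))
    have hc : Fintype.card ι = d * k := by simpa using Fintype.card_congr e
    rw [finrank_top, Module.finrank_fintype_fun_eq_card, Fintype.card_fin] at hd
    rw [LinearMap.finrank_range_of_inj hL, finrank_top, Module.finrank_fintype_fun_eq_card,
      Module.finrank_pi_fintype, Finset.sum_const, Finset.card_univ, Fintype.card_fin, smul_eq_mul, hc, ← mul_assoc, mul_comm 2 d, mul_assoc, hd]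

/-- Over the field of order three a three-dimensional factor gives a decomposition. -/
theorem frame_factor (hQ : (polarBilin Q).Nondegenerate) (hq : Fintype.card F = 3) {H : Subgroup (GL ι F)}
    (hH : H ≤ isometryGroup F ⇑Q) {k : ℕ} (hk : 0 < k) (e : ι ≃ Fin 3 × Fin k) (P : GL ι F) (S : GL (Fin 3) F)
    (T : GL (Fin k) F) (hS : (S : Matrix (Fin 3) (Fin 3) F)ᵀ = (S : Matrix (Fin 3) (Fin 3) F))
    (hform : ∀ x y, polar Q ((P : Matrix ι ι F) *ᵥ (x ∘ e)) ((P : Matrix ι ι F) *ᵥ (y ∘ e)) =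
      formOfGram σ₀ ((S : Matrix (Fin 3) (Fin 3) F) ⊗ₖ (T : Matrix (Fin k) (Fin k) F)) x y)
    (hdec : ∀ g ∈ H, ∃ (A : GL (Fin 3) F) (B : GL (Fin k) F) (a : F),
      coordR e P (g : Matrix ι ι F) = (kronGL A B : Matrix (Fin 3 × Fin k) (Fin 3 × Fin k) F) ∧
      IsSim σ₀ (S : Matrix (Fin 3) (Fin 3) F) (A : Matrix (Fin 3) (Fin 3) F) a) :
    ∃ D : Fin 3 → Submodule F (ι → F), IsOrthogonalMDecomposition ⇑Q k D ∧ H ≤ decompositionStabilizer D := by
  classical
  have h2 : (2 : F) ≠ 0 := two_ne_of_odd (by rw [hq]; decide)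
  haveI : Nonempty (Fin k) := ⟨⟨0, hk⟩⟩
  set eps := (S : Matrix (Fin 3) (Fin 3) F).det
  have hS0 : eps ≠ 0 := ((Matrix.isUnit_iff_isUnit_det _).1 S.isUnit).ne_zero
  obtain ⟨C, hC⟩ : GraphPSL.Congr (S : Matrix (Fin 3) (Fin 3) F) (eps • (1 : Matrix (Fin 3) (Fin 3) F)) := by
    refine GraphPSL.congr_of_disc h2 hS (by rw [Matrix.transpose_smul, Matrix.transpose_one]) hS0 ?_ ?_
    · rw [Matrix.det_smul, Matrix.det_one, mul_one]; exact pow_ne_zero _ hS0
    · refine ⟨eps ^ 2, ?_⟩
      rw [Matrix.det_smul, Matrix.det_one, mul_one, Fintype.card_fin]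
      show eps * eps ^ 3 = _
      ring
  let col : Fin 3 → Fin 3 → F := fun i => (C : Matrix (Fin 3) (Fin 3) F) *ᵥ Pi.single i 1
  have hcol : ∀ i j, formOfGram σ₀ (S : Matrix (Fin 3) (Fin 3) F) (col i) (col j) = if i = j then eps else 0 := fun i j => by
    rw [formOfGram_mulVec, show ((C : Matrix (Fin 3) (Fin 3) F)).map σ₀ = (C : Matrix (Fin 3) (Fin 3) F) from Matrix.map_id _,
      hC, formOfGram_single]
    simp [Matrix.one_apply]
  let L : Fin 3 → (Fin k → F) →ₗ[F] (ι → F) := fun i =>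
    { toFun := fun y => pureVec e P (col i) y
      map_add' := pureVec_add_right e P (col i)
      map_smul' := fun c y => pureVec_smul_right e P c (col i) y }
  have hpol : ∀ i j y z, polar Q (L i y) (L j z) =
      (if i = j then eps else 0) * formOfGram σ₀ (T : Matrix (Fin k) (Fin k) F) y z := fun i j y z => by
    show polar Q (pureVec e P (col i) y) (pureVec e P (col j) z) = _
    rw [pureVec, pureVec, hform, formOfGram_kron, hcol]
  have hTnd := formOfGram_nondeg σ₀ T.isUnit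
  have hinj : ∀ i, Function.Injective (L i) := fun i => (injective_iff_map_eq_zero _).2 fun y hy => by
    by_contra h0
    obtain ⟨-, z, hz⟩ := hTnd y h0
    have h1 := hpol i i y z
    rw [hy, QuadraticMap.polar_zero_left, if_pos rfl] at h1
    exact mul_ne_zero hS0 hz h1.symm
  let D : Fin 3 → Submodule F (ι → F) := fun i => LinearMap.range (L i)
  have hD : Pieces Q k D := ⟨fun i => by
      rw [LinearMap.finrank_range_of_inj (hinj i), Module.finrank_fintype_fun_eq_card, Fintype.card_fin],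
    fun i => by
      rintro _ ⟨y, rfl⟩ hy
      have h0 : y ≠ 0 := fun e => hy (by rw [e, map_zero])
      obtain ⟨⟨x, hx⟩, z, hz⟩ := hTnd y h0
      exact ⟨⟨L i x, ⟨x, rfl⟩, by rw [hpol, if_pos rfl]; exact mul_ne_zero hS0 hx⟩,
        L i z, ⟨z, rfl⟩, by rw [hpol, if_pos rfl]; exact mul_ne_zero hS0 hz⟩,
    fun i j hij => by
      rintro _ ⟨y, rfl⟩ _ ⟨z, rfl⟩
      rw [hpol, if_neg hij, zero_mul]⟩
  have hc : Fintype.card ι = 3 * k := by simpa using Fintype.card_congr e
  refine ⟨D, ⟨hD.decomp (by norm_num) hk hc.symm, fun i j => ?_⟩, fun g hg => ?_⟩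
  · refine ⟨(LinearEquiv.ofInjective (L i) (hinj i)).symm.trans (LinearEquiv.ofInjective (L j) (hinj j)), fun w => ?_⟩
    obtain ⟨y, rfl⟩ := (LinearEquiv.ofInjective (L i) (hinj i)).surjective w
    rw [LinearEquiv.trans_apply, LinearEquiv.symm_apply_apply]
    show Q (L j y) = Q (L i y)
    refine mul_left_cancel₀ h2 ?_
    rw [← polar_self', ← polar_self', hpol, hpol, if_pos rfl, if_pos rfl]
  · obtain ⟨A, B, a, hAB, hA⟩ := hdec g hg
    set B' : GL (Fin 3) F := C⁻¹ * A * C with hB'def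
    have hB' : (B' : Matrix (Fin 3) (Fin 3) F)ᵀ * (B' : Matrix (Fin 3) (Fin 3) F) =
        a • (1 : Matrix (Fin 3) (Fin 3) F) := by
      have ha' : (A : Matrix (Fin 3) (Fin 3) F)ᵀ * (S : Matrix (Fin 3) (Fin 3) F) * (A : Matrix (Fin 3) (Fin 3) F) =
        a • (S : Matrix (Fin 3) (Fin 3) F) := hA
      refine smul_right_injective _ hS0 ?_
      show eps • _ = eps • _
      have e1 : eps • ((B' : Matrix (Fin 3) (Fin 3) F)ᵀ * (B' : Matrix (Fin 3) (Fin 3) F)) =
          (B' : Matrix (Fin 3) (Fin 3) F)ᵀ * (eps • (1 : Matrix (Fin 3) (Fin 3) F)) * (B' : Matrix (Fin 3) (Fin 3) F) := by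
        rw [Matrix.mul_smul, mul_one, Matrix.smul_mul]
      rw [e1, smul_comm eps a, ← hC]
      simp only [B', Units.val_mul, Matrix.transpose_mul]
      calc _ = (C : Matrix (Fin 3) (Fin 3) F)ᵀ * ((A : Matrix (Fin 3) (Fin 3) F)ᵀ *
            ((↑C⁻¹ : Matrix (Fin 3) (Fin 3) F)ᵀ * (C : Matrix (Fin 3) (Fin 3) F)ᵀ) * (S : Matrix (Fin 3) (Fin 3) F) *
            ((C : Matrix (Fin 3) (Fin 3) F) * (↑C⁻¹ : Matrix (Fin 3) (Fin 3) F)) * (A : Matrix (Fin 3) (Fin 3) F)) *
            (C : Matrix (Fin 3) (Fin 3) F) := by simp only [mul_assoc]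
        _ = _ := by
          rw [← Matrix.transpose_mul, Units.mul_inv, Matrix.transpose_one, mul_one, mul_one, ha',
            Matrix.mul_smul, Matrix.smul_mul]
    have hdet := ((Matrix.isUnit_iff_isUnit_det _).1 B'.isUnit).ne_zero
    choose q hq' using fun i => monomial_three hq hB' hdet i
    have hne : ∀ i, (B' : Matrix (Fin 3) (Fin 3) F) (q i) i ≠ 0 := fun i h0 => hdet
      (Matrix.det_eq_zero_of_column_eq_zero i fun r => by
        by_cases hr : r = q i
        · rw [hr, h0]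
        · exact hq' i r hr)
    have hAc : ∀ i, (A : Matrix (Fin 3) (Fin 3) F) *ᵥ col i = (B' : Matrix (Fin 3) (Fin 3) F) (q i) i • col (q i) := fun i => by
      show (A : Matrix (Fin 3) (Fin 3) F) *ᵥ ((C : Matrix (Fin 3) (Fin 3) F) *ᵥ Pi.single i 1) = _
      rw [Matrix.mulVec_mulVec, ← Units.val_mul, show A * C = C * B' by rw [hB'def]; group, Units.val_mul,
        ← Matrix.mulVec_mulVec]
      show _ = _ • ((C : Matrix (Fin 3) (Fin 3) F) *ᵥ Pi.single (q i) 1)
      rw [← Matrix.mulVec_smul]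
      congr 1
      funext r
      by_cases hr : r = q i
      · simp [hr]
      · simp [hr, hq' i r hr]
    have hginj : Function.Injective (Matrix.toLin' (g : Matrix ι ι F)) := fun u w huw => by
      have := congrArg ((↑g⁻¹ : Matrix ι ι F) *ᵥ ·) huw
      simpa [Matrix.toLin'_apply, Matrix.mulVec_mulVec] using this
    have hmap : ∀ i, (D i).map (Matrix.toLin' (g : Matrix ι ι F)) = D (q i) := fun i => by
      refine Submodule.eq_of_le_of_finrank_eq ?_ ?_
      · rintro _ ⟨_, ⟨y, rfl⟩, rfl⟩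
        refine ⟨(B' : Matrix (Fin 3) (Fin 3) F) (q i) i • ((B : Matrix (Fin k) (Fin k) F) *ᵥ y), ?_⟩
        rw [Matrix.toLin'_apply]
        show pureVec e P (col (q i)) _ = (g : Matrix ι ι F) *ᵥ pureVec e P (col i) y
        rw [mulVec_pureVec e P g hAB, hAc, pureVec_smul_left, pureVec_smul_right]
      · rw [← LinearEquiv.finrank_eq (Submodule.equivMapOfInjective _ hginj (D i)), hD.finrank_eq, hD.finrank_eq]
    have hinjq : Function.Injective q := fun i j hij => by
      by_contra hne'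
      have hd : D i = D j := Submodule.map_injective_of_injective hginj (by rw [hmap, hmap, hij])
      obtain ⟨y, hy⟩ := exists_ne (0 : Fin k → F)
      obtain ⟨-, z, hz⟩ := hTnd y hy
      have h1 := hD.orth i j hne' (L i y) ⟨y, rfl⟩ (L i z) (hd ▸ ⟨z, rfl⟩)
      rw [hpol, if_pos rfl] at h1
      exact mul_ne_zero hS0 hz h1
    exact ⟨Equiv.ofBijective q (Finite.injective_iff_bijective.1 hinjq), hmap⟩

end CfsgLib.AschbacherOrth
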