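import Cfsg.Agent.Lib.AschbacherOrth.EvenCases
import Cfsg.Agent.Lib.AschbacherOrth.FieldPrime
import Cfsg.Agent.Lib.Geometry.GeoOmega
import Cfsg.Agent.Lib.Geometry.POmegaStd

/-!
# Classes in dimension twice a number

Halves of a space, totally singular subspaces one below the maximum, and fields in dimension twice an odd prime.
-/

set_option autoImplicit false
set_option linter.unusedSectionVars false
set_option linter.style.show false

namespace CfsgLib.AschbacherOrth

open QuadraticMap Cfsg Cfsg.Geo CfsgLib.Geometry CfsgLib.Aschbacher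
open scoped Matrix MatrixGroups

universe u
variable {F : Type u} [Field F] [Fintype F] {ι : Type} [Fintype ι] [DecidableEq ι]
variable {Q : QuadraticForm F (ι → F)}

/-- A field with fewer than seven elements has two, three, four or five. -/
theorem card_lt_seven (h : Fintype.card F < 7) :
    Fintype.card F = 2 ∨ Fintype.card F = 3 ∨ Fintype.card F = 4 ∨ Fintype.card F = 5 := by
  have h1 := Fintype.one_lt_card (α := F)
  have h6 : Fintype.card F ≠ 6 := fun h6 => by
    obtain ⟨p, hp⟩ := CharP.exists F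
    obtain ⟨n, hp', hn⟩ := FiniteField.card F p
    have e2 := (Nat.prime_dvd_prime_iff_eq Nat.prime_two hp').1
      (Nat.prime_two.dvd_of_dvd_pow (show 2 ∣ p ^ (n : ℕ) by rw [← hn, h6]; norm_num))
    have e3 := (Nat.prime_dvd_prime_iff_eq Nat.prime_three hp').1
      (Nat.prime_three.dvd_of_dvd_pow (show 3 ∣ p ^ (n : ℕ) by rw [← hn, h6]; norm_num))
    omega
  omega

/-- A stabilised subspace of half the dimension gives a stabilised decomposition. -/
theorem halves_of_nondeg (hQ : (polarBilin Q).Nondegenerate) {H : Subgroup (GL ι F)} (hH : H ≤ isometryGroup F ⇑Q)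
    {U : Submodule F (ι → F)} {k : ℕ} (hk : 0 < k) (hd : Module.finrank F U = k) (hn : Fintype.card ι = 2 * k)
    (hU : IsNondegenerateOn (polar ⇑Q) U) (hle : H ≤ subspaceStabilizer U) :
    ∃ D : Fin 2 → Submodule F (ι → F), IsNondegenerateMDecomposition (polar ⇑Q) k D ∧ D 0 = U ∧
      H ≤ decompositionStabilizer D := by
  obtain ⟨J, hG⟩ := exists_geom hQ
  obtain ⟨hc, hnd⟩ := hG.rform.isCompl_perp hU
  have hinv := hG.rform.perp_invariant (fun g hg => isom_polar (Q := Q) (hH (x := g) hg)) hle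
  set W := hG.rform.perp U
  have hW : Module.finrank F W = k := by
    have h1 := Submodule.finrank_add_eq_of_isCompl hc
    rw [hd, Module.finrank_fintype_fun_eq_card, hn] at h1
    omega
  have ho : Orth Q U W := fun u hu v hv => by
    first
      | exact hv u hu
      | (rw [polar_comm]; exact hv u hu)
  refine ⟨![U, W], Pieces.decomp ⟨fun i => ?_, fun i => ?_, fun i j hij => ?_⟩ le_rfl hk hn.symm, rfl,
    fun g hg => ⟨1, fun i => ?_⟩⟩
  · fin_cases i
    exacts [hd, hW]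
  · fin_cases i
    exacts [hU, hnd]
  · fin_cases i <;> fin_cases j
    exacts [absurd rfl hij, ho, ho.symm, absurd rfl hij]
  · have hmap : ∀ X : Submodule F (ι → F), H ≤ subspaceStabilizer X →
        X.map (Matrix.toLin' (g : Matrix ι ι F)) = X := fun X hX => by
      ext z
      constructor
      · rintro ⟨x, hx, rfl⟩
        exact (hX hg x).1 hx
      · intro hz
        refine ⟨(↑g⁻¹ : Matrix ι ι F) *ᵥ z, (hX (H.inv_mem hg) z).1 hz, ?_⟩
        rw [Matrix.toLin'_apply, Matrix.mulVec_mulVec, Units.mul_inv, Matrix.one_mulVec]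
    fin_cases i
    exacts [hmap U hle, hmap W hinv]

/-- Two isometric or non-isometric halves of odd dimension, by type. -/
theorem halves_mod_four (h2 : (2 : F) ≠ 0) {k : ℕ} {D : Fin 2 → Submodule F (ι → F)}
    (h : IsNondegenerateMDecomposition (polar ⇑Q) k D) (hk : Odd k) :
    (IsOrthogonalMDecomposition ⇑Q k D ∧
      ((IsPlusTypeOn ⇑Q ⊤ ∧ Fintype.card F % 4 = 1) ∨ (¬ IsPlusTypeOn ⇑Q ⊤ ∧ Fintype.card F % 4 = 3))) ∨
    (¬ AreIsometricFor ⇑Q (D 0) (D 1) ∧
      ((IsPlusTypeOn ⇑Q ⊤ ∧ Fintype.card F % 4 = 3) ∨ (¬ IsPlusTypeOn ⇑Q ⊤ ∧ Fintype.card F % 4 = 1))) := by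
  have hodd := Nat.odd_iff.1 (odd_card_of_two_ne h2)
  obtain ⟨hA, hB⟩ := halves_odd h2 h hk
  have hs := isSquare_neg_one_iff' (F := F)
  by_cases hiso : AreIsometricFor ⇑Q (D 0) (D 1)
  · refine Or.inl ⟨⟨h, fun i j => ?_⟩, ?_⟩
    · fin_cases i <;> fin_cases j
      exacts [isometric_refl _, hiso, isometric_symm hiso, isometric_refl _]
    · by_cases hp : IsPlusTypeOn ⇑Q ⊤
      · have := hs.1 ((hA hiso).1 hp)
        exact Or.inl ⟨hp, by omega⟩
      · exact Or.inr ⟨hp, by_contra fun h3 => hp ((hA hiso).2 (hs.2 h3))⟩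
  · refine Or.inr ⟨hiso, ?_⟩
    by_cases hp : IsPlusTypeOn ⇑Q ⊤
    · exact Or.inl ⟨hp, by_contra fun h3 => (hB hiso).1 hp (hs.2 h3)⟩
    · refine Or.inr ⟨hp, ?_⟩
      have := hs.1 (not_not.1 fun h3 => hp ((hB hiso).2 h3))
      omega

/-- Lines: prime field or a subfield. -/
theorem frame_cases (hQ : (polarBilin Q).Nondegenerate) {H : Subgroup (GL ι F)} (hH : H ≤ isometryGroup F ⇑Q)
    {t m : ℕ} (ht : t = Fintype.card ι) (hn : Fintype.card ι = 2 * m) {D : Fin t → Submodule F (ι → F)}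
    (hD : IsOrthogonalMDecomposition ⇑Q 1 D) (hle : H ≤ decompositionStabilizer D) :
    (2 : F) ≠ 0 ∧ (IsPlusTypeOn ⇑Q ⊤ ↔ IsSquare ((-1 : F) ^ m)) ∧
      ((Fintype.card F).Prime ∨ SubfieldCase Q H) := by
  subst ht
  have ht := hD.decomp.decomp.two_le
  have h2 : (2 : F) ≠ 0 := fun h => by
    have h1 := even_of_char_two h (hD.decomp.nondegenerate ⟨0, by omega⟩) (Q := Q)
    rw [hD.decomp.decomp.finrank_eq] at h1
    exact Nat.not_even_one h1
  refine ⟨h2, frame_plus_iff h2 hQ hn hD, ?_⟩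
  by_cases hp : (Fintype.card F).Prime
  exacts [Or.inl hp, Or.inr (frame_subfield hH h2 hp hD hle)]

/-- Plus planes. -/
theorem plus_planes {H : Subgroup (GL ι F)} (hH : H ≤ isometryGroup F ⇑Q) (hirr : Irred H) {t : ℕ}
    {D : Fin t → Submodule F (ι → F)} (hD : IsOrthogonalMDecomposition ⇑Q 2 D) (hle : H ≤ decompositionStabilizer D)
    (hp : ∀ i, IsPlusTypeOn ⇑Q (D i)) :
    7 ≤ Fintype.card F ∨ SubfieldCase Q H ∨
      (Fintype.card F = 5 ∧ ∃ D' : Fin (t * 2) → Submodule F (ι → F), IsOrthogonalMDecomposition ⇑Q 1 D' ∧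
        H ≤ decompositionStabilizer D') := by
  rcases Nat.lt_or_ge (Fintype.card F) 7 with hq | hq
  swap
  · exact Or.inl hq
  rcases card_lt_seven hq with h | h | h | h
  · exact absurd hirr (planes_small hH hD hle hp (by omega))
  · exact absurd hirr (planes_small hH hD hle hp (by omega))
  · exact Or.inr (Or.inl (planes_four hH hD hle hp h))
  · exact Or.inr (Or.inr ⟨h, planes_five hH hD hle hp h⟩)

/-- Elements of `Ω` fix two complementary maximal singular subspaces of odd dimension. -/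
theorem pair_fixed (hQ : (polarBilin Q).Nondegenerate) {k : ℕ} (hk : Odd k) (hn : Fintype.card ι = 2 * k)
    (h3 : 3 ≤ k) {D : Fin 2 → Submodule F (ι → F)} (hD : IsMDecomposition k D)
    (hs : ∀ i, IsTotallySingularQuad ⇑Q (D i)) {H : Subgroup (GL ι F)} (hH : H ≤ omegaGL ⇑Q)
    (hle : H ≤ decompositionStabilizer D) : ¬ Irred H := by
  intro hirr
  have hR := reflGroup_eq_orth hQ (Or.inl (by rw [Module.finrank_fintype_fun_eq_card]; omega))
  have hV : Module.finrank F (ι → F) = 2 * k := by rw [Module.finrank_fintype_fun_eq_card, hn]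
  have hinv : H ≤ subspaceStabilizer (D 0) := le_stab_of_map_le fun g hg => by
    obtain ⟨σ, hσ⟩ := hle hg
    obtain h | h : σ 0 = 0 ∨ σ 0 = 1 := by
      generalize σ 0 = i
      fin_cases i <;> simp
    · exact (hσ 0).le.trans (by rw [h])
    · exfalso
      have hg' := hH hg
      rw [omegaGL_eq_map] at hg'
      obtain ⟨x, hx, rfl⟩ := hg'
      have hmap : (D 0).map (x : (ι → F) ≃ₗ[F] (ι → F)).toLinearMap = D 1 := by
        rw [← h, ← hσ 0]
        congr 1
        refine LinearMap.ext fun v => ?_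
        rw [Matrix.toLin'_apply, orthToGL_mulVec]
        rfl
      have heven := (maxSing_class_iff hQ hR hV (U := D 0) ⟨hD.finrank_eq 0, hs 0⟩ x).2
        (congrArg Prod.snd ((mem_commutator_orth_iff hQ hR x).1 hx))
      rw [hmap, (hD.indep.pairwiseDisjoint (show (0 : Fin 2) ≠ 1 by decide)).eq_bot, finrank_bot,
        Nat.sub_zero] at heven
      exact Nat.not_even_iff_odd.2 hk heven
  have hd := hD.finrank_eq 0
  rcases hirr _ hinv with h | h
  · rw [h, finrank_bot] at hd; omega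
  · rw [h, finrank_top, hV] at hd; omega

/-- The stabiliser of a totally singular subspace one below the maximum is not maximal in plus type. -/
theorem not_maximal_singular (hQ : (polarBilin Q).Nondegenerate) {m : ℕ} (hm : 3 ≤ m)
    (hn : Fintype.card ι = 2 * m) (hplus : IsPlusTypeOn ⇑Q ⊤) {W : Submodule F (ι → F)}
    (hW : IsTotallySingularQuad ⇑Q W) (hd : Module.finrank F W + 1 = m) :
    ¬ IsMaximalIn (omegaGL ⇑Q) (subspaceStabilizer W ⊓ omegaGL ⇑Q) := by
  intro hmax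
  suffices h : ∃ K : Subgroup (GL ι F), subspaceStabilizer W ⊓ omegaGL ⇑Q < K ∧ K < omegaGL ⇑Q by
    obtain ⟨K, hK, hK'⟩ := h
    rcases hmax.2 K hK.le hK'.le with e | e
    exacts [hK.ne e.symm, hK'.ne e]
  obtain ⟨U, -, hU, hUd⟩ := hplus
  have hV : Module.finrank F (ι → F) = 2 * m := by rw [Module.finrank_fintype_fun_eq_card, hn]
  have h5 : 5 ≤ Fintype.card ι := by omega
  have hR := reflGroup_eq_orth hQ (Or.inl (by omega))
  rw [finrank_top, hV] at hUd
  have hUm : IsMaxSing Q m U := ⟨by omega, hU⟩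
  obtain ⟨fam, hfam⟩ := exists_linearIndependent_of_le_finrank (R := F) (M := U)
    (show Module.finrank F W ≤ Module.finrank F U by omega)
  let b := Module.finBasis F W
  obtain ⟨g, hg, hgi⟩ := quad_extend hQ (fun i => (fam i : ι → F)) (fun i => (b i : ι → F))
    (hfam.map' U.subtype (Submodule.ker_subtype U))
    (b.linearIndependent.map' W.subtype (Submodule.ker_subtype W))
    (fun i => (hU _ (fam i).2).trans (hW _ (b i).2).symm)
    (fun i j => (polar_eq_zero_of_singular hU (fam i).2 (fam j).2).trans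
      (polar_eq_zero_of_singular hW (b i).2 (b j).2).symm)
  obtain ⟨U₁, hU₁def⟩ : ∃ U₁, U₁ = U.map g.toLinearMap := ⟨_, rfl⟩
  have hU₁ : IsMaxSing Q m U₁ := by
    subst hU₁def
    refine ⟨by rw [LinearEquiv.finrank_map_eq]; exact hUm.1, ?_⟩
    rintro _ ⟨z, hz, rfl⟩
    rw [LinearEquiv.coe_coe, hg z, hU z hz]
  have hWU : W ≤ U₁ := by
    intro w hw
    have hsum := congrArg W.subtype (b.sum_repr ⟨w, hw⟩)
    rw [map_sum] at hsum
    simp only [Submodule.subtype_apply, Submodule.coe_smul] at hsum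
    rw [← hsum, hU₁def]
    exact Submodule.sum_mem _ fun i _ => Submodule.smul_mem _ _ ⟨_, (fam i).2, hgi i⟩
  obtain ⟨u, huU, huW⟩ := SetLike.exists_of_lt (lt_of_le_of_ne hWU (fun h => by
    have := hU₁.1; rw [← h] at this; omega))
  obtain ⟨f, hf, huf, hfW⟩ := exists_partner hQ W huW (hU₁.2 u huU)
    (fun w hw => polar_eq_zero_of_singular hU₁.2 huU (hWU hw))
  have hfU : f ∉ U₁ := fun h => by
    rw [polar_eq_zero_of_singular hU₁.2 huU h] at huf; exact zero_ne_one huf
  obtain ⟨x, hxW, hx0⟩ := Submodule.exists_mem_ne_zero_of_ne_bot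
    (show W ≠ ⊥ from fun h => by rw [h, finrank_bot] at hd; omega)
  have hxu : x ∉ Submodule.span F {u} := fun h => by
    obtain ⟨c, rfl⟩ := Submodule.mem_span_singleton.1 h
    have hc : c ≠ 0 := fun h0 => hx0 (by rw [h0, zero_smul])
    exact huW (by simpa [hc] using W.smul_mem c⁻¹ hxW)
  have hxf : x ∉ Submodule.span F {f} := fun h => by
    obtain ⟨c, rfl⟩ := Submodule.mem_span_singleton.1 h
    have hc : c ≠ 0 := fun h0 => hx0 (by rw [h0, zero_smul])
    exact hfU (hWU (by simpa [hc] using W.smul_mem c⁻¹ hxW))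
  have hu0 : u ≠ 0 := fun h => huW (h ▸ W.zero_mem)
  have hf0 : f ≠ 0 := fun h => hfU (h ▸ U₁.zero_mem)
  obtain ⟨s₁, hs₁, hs₁x, hs₁U⟩ := exists_separating hQ h5 hu0 (hU₁.2 u huU)
    (polar_eq_zero_of_singular hU₁.2 (hWU hxW) huU) hxu W hxW huW
  obtain ⟨s₂, hs₂, hs₂x, -⟩ := exists_separating hQ h5 hf0 hf
    (by rw [QuadraticMap.polar_comm]; exact hfW x hxW) hxf U₁ (hWU hxW) hfU
  refine exists_between_map Q (orthStab Q U₁) ?_ s₁
    (hs₁U U₁ huU fun z hz => polar_eq_zero_of_singular hU₁.2 hz huU) hs₁ ?_ s₂ hs₂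
    (fun h => hs₂x ((h x).1 (hWU hxW)))
  · rw [stab_omegaGL_eq_map]
    refine Subgroup.map_mono fun h hh => ⟨mem_orthStab_of_map_le fun z hz => ?_, hh.2⟩
    obtain ⟨V', hV'⟩ : ∃ V', V' = U₁.map (h : (ι → F) ≃ₗ[F] (ι → F)).toLinearMap := ⟨_, rfl⟩
    have heven' : Even (m - Module.finrank F ↥(U₁ ⊓ V')) := by
      rw [hV', maxSing_class_iff hQ hR hV hU₁]
      exact congrArg Prod.snd ((mem_commutator_orth_iff hQ hR h).1 hh.2)
    suffices hle : V' ≤ U₁ from hle (hV' ▸ ⟨z, hz, rfl⟩)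
    by_contra hne
    obtain ⟨y, hyV, hyU⟩ := SetLike.not_le_iff_exists.1 hne
    have hWV : W ≤ V' := fun w hw => by
      obtain ⟨w', hw', rfl⟩ := (map_eq_of_mem_orthStab hh.1).ge hw
      exact hV' ▸ ⟨w', hWU hw', rfl⟩
    have hle : W ≤ U₁ ⊓ V' := le_inf hWU hWV
    have hlt : U₁ ⊓ V' < V' := lt_of_le_of_ne inf_le_right fun h => hyU (h.symm ▸ hyV : y ∈ U₁ ⊓ V').1
    have h1 := Submodule.finrank_mono hle
    have h2 := Submodule.finrank_lt_finrank_of_lt hlt
    have h3 : Module.finrank F V' = m := by rw [hV', LinearEquiv.finrank_map_eq]; exact hU₁.1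
    have h4 : m - Module.finrank F ↥(U₁ ⊓ V') = 1 := by omega
    rw [h4] at heven'
    exact Nat.not_even_one heven'
  · intro h
    have := (h.1 x).1 hxW
    change ((orthToGL Q s₁ : GL ι F) : Matrix ι ι F).mulVec x ∈ W at this
    rw [orthToGL_mulVec] at this
    exact hs₁x this

/-- The fields in dimension twice an odd prime. -/
theorem field_twice_odd (hQ : (polarBilin Q).Nondegenerate) {m : ℕ} (hm : m.Prime) (hmo : Odd m)
    (hn : Fintype.card ι = 2 * m) {H : Subgroup (GL ι F)} (hH : H ≤ isometryGroup F ⇑Q) (hirr : Irred H)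
    {r : ℕ} {K : Subalgebra F (Matrix ι ι F)} (hr : r.Prime) (hdvd : r ∣ Fintype.card ι)
    (hK : IsFieldSubalgebra r K) (hadj : IsAdjointClosedFor (polar ⇑Q) K) (hle : H ≤ subalgebraNormalizer K) :
    (Odd (Fintype.card F) ∧ ∃ L : Subalgebra F (Matrix ι ι F), IsFieldSubalgebra 2 L ∧
      IsSelfAdjointFor (polar ⇑Q) L ∧ H ≤ subalgebraNormalizer L) ∨
    (∃ L : Subalgebra F (Matrix ι ι F), IsFieldSubalgebra 2 L ∧ IsAdjointClosedFor (polar ⇑Q) L ∧
      ¬ IsSelfAdjointFor (polar ⇑Q) L ∧ (∀ k ∈ L, ∃ c : F, ∀ v : ι → F, Q (k *ᵥ v) = c * Q v) ∧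
      H ≤ subalgebraNormalizer L) ∨
    (∃ D : Fin 2 → Submodule F (ι → F), IsMDecomposition m D ∧ (∀ i, IsTotallySingularQuad ⇑Q (D i)) ∧
      H ≤ decompositionStabilizer D) := by
  classical
  have h2m := hm.two_le
  haveI : Nonempty ι := Fintype.card_pos_iff.1 (by omega)
  obtain ⟨J, hG⟩ := exists_geom hQ
  have hU : ∀ L : Subalgebra F (Matrix ι ι F), IsFieldSubalgebra 2 L → IsAdjointClosedFor (polar ⇑Q) L →
      ¬ IsSelfAdjointFor (polar ⇑Q) L → H ≤ subalgebraNormalizer L →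
      ∀ k ∈ L, ∃ c : F, ∀ v : ι → F, Q (k *ᵥ v) = c * Q v := fun L h1 h2 h3 h4 =>
    unitary_norm hQ hH hirr (by omega) h1 h2 h3 h4
  obtain rfl | rfl : r = 2 ∨ r = m := by
    rcases (Nat.Prime.dvd_mul hr).1 (hn ▸ hdvd) with h | h
    exacts [Or.inl ((Nat.prime_dvd_prime_iff_eq hr Nat.prime_two).1 h),
      Or.inr ((Nat.prime_dvd_prime_iff_eq hr hm).1 h)]
  · by_cases hsa : IsSelfAdjointFor (polar ⇑Q) K
    · refine Or.inl ⟨not_not.1 fun hodd => ?_, K, hK, hsa, hle⟩
      have h := two_mul_dvd_of_selfAdjoint hQ (AschbacherForm.finite_two_iff.2 hodd) hK two_pos hsa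
      rw [hn] at h
      obtain ⟨a, ha⟩ := hmo
      omega
    · exact Or.inr (Or.inl ⟨K, hK, hadj, hsa, hU K hK hadj hsa hle, hle⟩)
  · rcases field_half hQ hH hirr hmo hn hK (selfAdj_of_odd hG hmo hK hadj) hle with
      ⟨D, hD, hs, hDle⟩ | ⟨L, hL, hLadj, hLsa, hLle⟩
    · exact Or.inr (Or.inr ⟨D, hD, hs, hDle⟩)
    · exact Or.inr (Or.inl ⟨L, hL, hLadj, hLsa, hU L hL hLadj hLsa hLle, hLle⟩)

end CfsgLib.AschbacherOrth
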