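import Cfsg.Agent.Lib.AschbacherOrth.Odd
import Cfsg.Agent.Lib.AschbacherForm.SympTensor
import Cfsg.Agent.Lib.AschbacherForm.SympWreath
import Cfsg.Agent.Lib.Geometry.GraphPSL.Congr

/-!
# Tensor decompositions of symmetric bilinear forms
-/

set_option autoImplicit false
set_option linter.unusedSectionVars false
set_option linter.style.show false

namespace CfsgLib.AschbacherOrth

open QuadraticMap Cfsg Cfsg.Geo CfsgLib.Geometry CfsgLib.Aschbacher
open CfsgLib.AschbacherForm (Geom IsSim coordR coordJ kronGL)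
open scoped Matrix MatrixGroups Kronecker

universe u
variable {F : Type u} [Field F] [Fintype F] {ι : Type} [Fintype ι] [DecidableEq ι]
variable {Q : QuadraticForm F (ι → F)}

local notation "σ₀" => RingEquiv.refl F

/-- The form is a tensor power of a symmetric one and the group lies in its stabiliser. -/
def PowerData (Q : QuadraticForm F (ι → F)) (H : Subgroup (GL ι F)) (d s : ℕ) : Prop :=
  ∃ (e : ι ≃ (Fin s → Fin d)) (P : GL ι F) (S : GL (Fin d) F) (c : F), c ≠ 0 ∧
    (S : Matrix (Fin d) (Fin d) F)ᵀ = (S : Matrix (Fin d) (Fin d) F) ∧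
    (∀ x y : (Fin s → Fin d) → F, polar Q ((P : Matrix ι ι F) *ᵥ (x ∘ e)) ((P : Matrix ι ι F) *ᵥ (y ∘ e)) =
      c * formOfGram σ₀ (pure' fun _ : Fin s => (S : Matrix (Fin d) (Fin d) F)) x y) ∧
    ∀ g ∈ H, ∃ (π : Equiv.Perm (Fin s)) (A : Fin s → GL (Fin d) F),
      glReindex e (P⁻¹ * g * P) = permGL π * pureGL A ∧
      ∀ i, ∃ a : F, IsSim σ₀ (S : Matrix (Fin d) (Fin d) F) (A i : Matrix (Fin d) (Fin d) F) a

theorem sq_eq_one_of_transpose {d : ℕ} [Nonempty (Fin d)] {S : GL (Fin d) F} {l : F}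
    (hS : (S : Matrix (Fin d) (Fin d) F)ᵀ = l • (S : Matrix (Fin d) (Fin d) F)) : l * l = 1 := by
  have h1 : (l * l - 1) • (S : Matrix (Fin d) (Fin d) F) = 0 := by
    rw [sub_smul, one_smul, ← smul_smul, ← hS, ← Matrix.transpose_smul, ← hS, Matrix.transpose_transpose, sub_self]
  exact sub_eq_zero.1 ((smul_eq_zero.1 h1).resolve_right S.isUnit.ne_zero)

/-- In odd dimension an invertible matrix is not skew-symmetric. -/
theorem symm_of_odd {d : ℕ} (hd : Odd d) {S : GL (Fin d) F} {l : F}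
    (hS : (S : Matrix (Fin d) (Fin d) F)ᵀ = l • (S : Matrix (Fin d) (Fin d) F)) : l = 1 := by
  haveI : Nonempty (Fin d) := ⟨⟨0, hd.pos⟩⟩
  have hl2 := sq_eq_one_of_transpose hS
  have h1 := congrArg Matrix.det hS
  rw [Matrix.det_transpose, Matrix.det_smul, Fintype.card_fin] at h1
  obtain ⟨k, rfl⟩ := hd
  have h3 : l ^ (2 * k + 1) = 1 := by
    have h0 := ((Matrix.isUnit_iff_isUnit_det _).1 S.isUnit).ne_zero
    exact (mul_left_eq_self₀.1 h1.symm).resolve_right h0
  rwa [pow_succ, pow_mul, _root_.sq, hl2, one_pow, one_mul] at h3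

theorem formOfGram_submatrix {κ μ : Type} [Fintype κ] [Fintype μ] (E : κ ≃ μ) (M : Matrix κ κ F) (x y : μ → F) :
    formOfGram σ₀ M (x ∘ E) (y ∘ E) = formOfGram σ₀ (M.submatrix E.symm E.symm) x y := by
  simp only [formOfGram, Function.comp_apply, Matrix.submatrix_apply]
  refine Fintype.sum_equiv E _ _ fun a => Fintype.sum_equiv E _ _ fun b => ?_
  simp

theorem pure_single_vec {d s : ℕ} (a : Fin s → Matrix (Fin d) (Fin d) F) :
    (Matrix.of fun x y : Fin s → Fin d => ∏ i, a i (x i) (y i)) = pure' a := rfl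

/-- Two similar factors make a tensor square. -/
theorem power_of_pair (h2 : (2 : F) ≠ 0) {H : Subgroup (GL ι F)} {J : GL ι F}
    (hG : Geom σ₀ (polar ⇑Q) J 1) {d : ℕ} (hd : Odd d) (e : ι ≃ Fin d × Fin d) (P : GL ι F) (S T : GL (Fin d) F)
    (hJ : coordJ σ₀ e P J = kronGL S T) (hS : (S : Matrix (Fin d) (Fin d) F)ᵀ = (S : Matrix (Fin d) (Fin d) F))
    (hT : (T : Matrix (Fin d) (Fin d) F)ᵀ = (T : Matrix (Fin d) (Fin d) F))
    (hdec : ∀ g ∈ H, ∃ (A B : GL (Fin d) F) (a b : F),
      coordR e P (g : Matrix ι ι F) = (kronGL A B : Matrix (Fin d × Fin d) (Fin d × Fin d) F) ∧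
      IsSim σ₀ (S : Matrix (Fin d) (Fin d) F) (A : Matrix (Fin d) (Fin d) F) a ∧
      IsSim σ₀ (T : Matrix (Fin d) (Fin d) F) (B : Matrix (Fin d) (Fin d) F) b) :
    PowerData Q H d 2 := by
  classical
  haveI : Nonempty (Fin d) := ⟨⟨0, hd.pos⟩⟩
  set lam := (T : Matrix (Fin d) (Fin d) F).det * (S : Matrix (Fin d) (Fin d) F).det
  have hS0 := ((Matrix.isUnit_iff_isUnit_det _).1 S.isUnit).ne_zero
  have hT0 := ((Matrix.isUnit_iff_isUnit_det _).1 T.isUnit).ne_zero
  have hlam : lam ≠ 0 := mul_ne_zero hT0 hS0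
  obtain ⟨C, hC⟩ : GraphPSL.Congr (T : Matrix (Fin d) (Fin d) F) (lam • (S : Matrix (Fin d) (Fin d) F)) := by
    refine GraphPSL.congr_of_disc h2 hT (by rw [Matrix.transpose_smul, hS]) hT0 ?_ ?_
    · rw [Matrix.det_smul]; exact mul_ne_zero (pow_ne_zero _ hlam) hS0
    · obtain ⟨k, hk⟩ := hd
      refine ⟨lam ^ (k + 1), ?_⟩
      rw [Matrix.det_smul, Fintype.card_fin, ← pow_add, show k + 1 + (k + 1) = d + 1 by omega, pow_succ lam d]
      simp only [lam]
      ring
  let E : Fin d × Fin d ≃ (Fin 2 → Fin d) := (finTwoArrowEquiv (Fin d)).symm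
  set U := glReindex e.symm (kronGL (1 : GL (Fin d) F) C)
  have hER : ∀ A B : GL (Fin d) F, glReindex E (kronGL A B) = pureGL ![A, B] := fun A B =>
    Units.ext (Matrix.ext fun x y => by
      simp [glReindex, pureGL, pure', AschbacherForm.kronGL_val, E, Fin.prod_univ_two, finTwoArrowEquiv,
        Matrix.kronecker_apply])
  refine ⟨e.trans E, P * U, S, lam, hlam, hS, fun x y => ?_, fun g hg => ?_⟩
  · have hv : ∀ z : (Fin 2 → Fin d) → F, ((P * U : GL ι F) : Matrix ι ι F) *ᵥ (z ∘ e.trans E) =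
        (P : Matrix ι ι F) *ᵥ ((((kronGL (1 : GL (Fin d) F) C : GL _ F) : Matrix _ _ F) *ᵥ (z ∘ E)) ∘ e) := fun z => by
      rw [Units.val_mul, ← Matrix.mulVec_mulVec]
      congr 1
      rw [show (U : Matrix ι ι F) = ((kronGL (1 : GL (Fin d) F) C : GL _ F) : Matrix _ _ F).submatrix e e from
        Matrix.ext fun i j => by simp [U, glReindex], Matrix.submatrix_mulVec_equiv]
      simp [Function.comp_assoc]
    rw [hv, hv, AschbacherForm.coord_form hG e P, hJ, formOfGram_mulVec,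
      formOfGram_submatrix E, ← formOfGram_smul]
    congr 1
    rw [AschbacherForm.kronGL_val, AschbacherForm.kronGL_val, Units.val_one,
      show ((1 : Matrix (Fin d) (Fin d) F) ⊗ₖ (C : Matrix (Fin d) (Fin d) F)).map σ₀ =
        (1 : Matrix (Fin d) (Fin d) F) ⊗ₖ (C : Matrix (Fin d) (Fin d) F) from Matrix.map_id _,
      ← Matrix.kroneckerMap_transpose, ← Matrix.mul_kronecker_mul, ← Matrix.mul_kronecker_mul, hC,
      Matrix.transpose_one, one_mul, mul_one]
    ext a b
    simp [E, pure', Matrix.kronecker_apply, finTwoArrowEquiv, Fin.prod_univ_two]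
    ring
  · obtain ⟨A, B, a, b, hAB, hA, hB⟩ := hdec g hg
    refine ⟨1, ![A, C⁻¹ * B * C], ?_, fun i => ?_⟩
    · rw [AschbacherForm.permGL_one, one_mul, ← hER]
      have h1 : glReindex e (P⁻¹ * g * P) = kronGL A B := Units.ext ((AschbacherForm.coordR_gl e P g).symm.trans hAB)
      have hU : glReindex e U = kronGL (1 : GL (Fin d) F) C := Units.ext (Matrix.ext fun i j => by simp [U, glReindex])
      have hcomp : ∀ X : GL ι F, glReindex (e.trans E) X = glReindex E (glReindex e X) := fun X => Units.ext rfl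
      rw [hcomp, show (P * U)⁻¹ * g * (P * U) = U⁻¹ * (P⁻¹ * g * P) * U by group, map_mul (glReindex e),
        map_mul (glReindex e), map_inv (glReindex e), hU, h1]
      congr 1
      rw [mul_assoc, inv_mul_eq_iff_eq_mul]
      refine Units.ext ?_
      simp only [Units.val_mul, AschbacherForm.kronGL_val, Units.val_one, ← Matrix.mul_kronecker_mul, mul_one, one_mul,
        mul_assoc, Units.mul_inv_cancel_left]
    · fin_cases i
      · exact ⟨a, hA⟩
      · refine ⟨b, ?_⟩
        have hBC : (B : Matrix (Fin d) (Fin d) F)ᵀ * (T : Matrix (Fin d) (Fin d) F) * (B : Matrix (Fin d) (Fin d) F) =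
          b • (T : Matrix (Fin d) (Fin d) F) := hB
        show ((C⁻¹ * B * C : GL (Fin d) F) : Matrix (Fin d) (Fin d) F)ᵀ * (S : Matrix (Fin d) (Fin d) F) *
          (((C⁻¹ * B * C : GL (Fin d) F) : Matrix (Fin d) (Fin d) F).map σ₀) = b • (S : Matrix (Fin d) (Fin d) F)
        rw [show ((C⁻¹ * B * C : GL (Fin d) F) : Matrix (Fin d) (Fin d) F).map σ₀ =
          ((C⁻¹ * B * C : GL (Fin d) F) : Matrix (Fin d) (Fin d) F) from Matrix.map_id _]
        refine smul_right_injective _ hlam ?_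
        show lam • _ = lam • _
        rw [smul_comm lam b, ← Matrix.smul_mul, ← Matrix.mul_smul, ← hC]
        simp only [Units.val_mul, Matrix.transpose_mul]
        calc _ = (C : Matrix (Fin d) (Fin d) F)ᵀ * ((B : Matrix (Fin d) (Fin d) F)ᵀ *
              ((↑C⁻¹ : Matrix (Fin d) (Fin d) F)ᵀ * (C : Matrix (Fin d) (Fin d) F)ᵀ) * (T : Matrix (Fin d) (Fin d) F) *
              ((C : Matrix (Fin d) (Fin d) F) * (↑C⁻¹ : Matrix (Fin d) (Fin d) F)) * (B : Matrix (Fin d) (Fin d) F)) *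
              (C : Matrix (Fin d) (Fin d) F) := by simp only [mul_assoc]
          _ = _ := by
            rw [← Matrix.transpose_mul, Units.mul_inv, Matrix.transpose_one, mul_one, mul_one, hBC,
              Matrix.mul_smul, Matrix.smul_mul]

theorem symmetric_of_gram {κ : Type} [Fintype κ] [DecidableEq κ] (S : GL κ F)
    (hS : (S : Matrix κ κ F)ᵀ = (S : Matrix κ κ F)) : IsSymmetricForm (formOfGram σ₀ (S : Matrix κ κ F)) :=
  ⟨formOfGram_bilinear _, fun u v => by
    have := formOfGram_transpose σ₀ (fun _ => rfl) (S : Matrix κ κ F) u v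
    rw [show ((S : Matrix κ κ F).map σ₀)ᵀ = (S : Matrix κ κ F) from hS] at this
    exact this.symm, formOfGram_nondeg σ₀ S.isUnit⟩

/-- A tensor power gives a member of the seventh class. -/
theorem PowerData.member {H : Subgroup (GL ι F)} {d s : ℕ} (h : PowerData Q H d s) :
    ∃ (e : ι ≃ (Fin s → Fin d)) (P : GL ι F) (f₁ : (Fin d → F) → (Fin d → F) → F),
      IsSymmetricForm f₁ ∧ IsTensorPowerFormStructure id (polar ⇑Q) f₁ e P ∧ H ≤ tensorWreathSubgroup d s e P := by
  classical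
  obtain ⟨e, P, S, c, hc, hS, hform, hdec⟩ := h
  refine ⟨e, P, formOfGram σ₀ (S : Matrix (Fin d) (Fin d) F), symmetric_of_gram S hS, ⟨c, hc, fun x y => ?_⟩,
    fun g hg => ?_⟩
  · rw [hform]
    simp only [formOfGram, pure', Matrix.of_apply, gramMatrix]
    congr 1
    refine Finset.sum_congr rfl fun a _ => Finset.sum_congr rfl fun b _ => ?_
    rw [Finset.prod_congr rfl fun k _ => (formOfGram_single σ₀ (S : Matrix (Fin d) (Fin d) F) (a k) (b k)).symm]
    rfl
  · obtain ⟨π, A, hA, -⟩ := hdec g hg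
    exact AschbacherForm.mem_of_coord e P (tensorWreathStandard d s F) (permGL π * pureGL A)
      (mul_mem (Subgroup.subset_closure (Or.inr ⟨π, fun x y => rfl⟩))
        (Subgroup.subset_closure (Or.inl ⟨A, fun x y => rfl⟩))) (by rw [AschbacherForm.coordR_gl, hA])

/-- Over the field of order three a three-dimensional similitude in orthonormal coordinates is monomial. -/
theorem monomial_three (hq : Fintype.card F = 3) {B : Matrix (Fin 3) (Fin 3) F} {a : F}
    (hB : Bᵀ * B = a • (1 : Matrix (Fin 3) (Fin 3) F)) (hdet : B.det ≠ 0) (p : Fin 3) :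
    ∃ q : Fin 3, ∀ r, r ≠ q → B r p = 0 := by
  have h3 : (3 : F) = 0 := by
    have h := FiniteField.cast_card_eq_zero F
    rw [hq] at h
    exact_mod_cast h
  have hsq : ∀ x : F, x = 0 ∨ x * x = 1 := fun x => by
    rcases eq_or_ne x 0 with h | h
    · exact Or.inl h
    · refine Or.inr ?_
      have h1 := pow_card_pred h
      rw [hq] at h1
      linear_combination h1
  have hd := congrArg Matrix.det hB
  rw [Matrix.det_mul, Matrix.det_transpose, Matrix.det_smul, Matrix.det_one, mul_one, Fintype.card_fin] at hd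
  have ha : a = 1 := by
    have hd1 := (hsq B.det).resolve_left hdet
    rcases hsq a with h | h
    · rw [h, zero_pow (by norm_num), hd1] at hd
      exact absurd hd one_ne_zero
    · rw [hd1, pow_succ, _root_.sq, h, one_mul] at hd
      exact hd.symm
  have hcol := congrFun (congrFun hB p) p
  rw [ha, one_smul, Matrix.one_apply_eq, Matrix.mul_apply, Fin.sum_univ_three] at hcol
  simp only [Matrix.transpose_apply] at hcol
  rcases hsq (B 0 p) with h0 | h0 <;> rcases hsq (B 1 p) with h1 | h1 <;> rcases hsq (B 2 p) with h2 | h2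
  · exact ⟨0, fun r _ => by fin_cases r <;> assumption⟩
  · exact ⟨2, fun r hr => by fin_cases r; exacts [h0, h1, absurd rfl hr]⟩
  · exact ⟨1, fun r hr => by fin_cases r; exacts [h0, absurd rfl hr, h2]⟩
  · exfalso
    rw [h0, h1, h2] at hcol
    exact one_ne_zero (α := F) (by linear_combination hcol)
  · exact ⟨0, fun r hr => by fin_cases r; exacts [absurd rfl hr, h1, h2]⟩
  · exfalso
    rw [h0, h1, h2] at hcol
    exact one_ne_zero (α := F) (by linear_combination hcol)
  · exfalso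
    rw [h0, h1, h2] at hcol
    exact one_ne_zero (α := F) (by linear_combination hcol)
  · exfalso
    rw [h0, h1, h2] at hcol
    exact one_ne_zero (α := F) (by linear_combination h3 - hcol)

/-- Over the field of order three a power of a three-dimensional form gives an invariant frame. -/
theorem PowerData.frame (hq : Fintype.card F = 3) {H : Subgroup (GL ι F)} (hH : H ≤ isometryGroup F ⇑Q) {s : ℕ}
    (hs : 1 ≤ s) (h : PowerData Q H 3 s) :
    ∃ D : Fin (Fintype.card ι) → Submodule F (ι → F), IsOrthogonalMDecomposition ⇑Q 1 D ∧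
      H ≤ decompositionStabilizer D := by
  classical
  obtain ⟨e, P, S, c, hc, hS, hform, hdec⟩ := h
  have h2 : (2 : F) ≠ 0 := two_ne_of_odd (by rw [hq]; decide)
  set eps := (S : Matrix (Fin 3) (Fin 3) F).det
  have hS0 : eps ≠ 0 := ((Matrix.isUnit_iff_isUnit_det _).1 S.isUnit).ne_zero
  obtain ⟨C, hC⟩ : GraphPSL.Congr (S : Matrix (Fin 3) (Fin 3) F) (eps • (1 : Matrix (Fin 3) (Fin 3) F)) := by
    refine GraphPSL.congr_of_disc h2 hS (by rw [Matrix.transpose_smul, Matrix.transpose_one]) hS0 ?_ ?_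
    · rw [Matrix.det_smul, Matrix.det_one, mul_one]; exact pow_ne_zero _ hS0
    · refine ⟨eps ^ 2, ?_⟩
      rw [Matrix.det_smul, Matrix.det_one, mul_one, Fintype.card_fin]
      show eps * eps ^ 3 = _
      ring
  let col : (Fin s → Fin 3) → (Fin s → Fin 3) → F := fun x y => ∏ i, (C : Matrix (Fin 3) (Fin 3) F) (y i) (x i)
  have hcol : ∀ x, col x = (pureGL (fun _ : Fin s => C) : GL (Fin s → Fin 3) F).val *ᵥ Pi.single x 1 := fun x => by
    funext y
    simp [col, pureGL, pure']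
  let v : (Fin s → Fin 3) → ι → F := fun x => (P : Matrix ι ι F) *ᵥ (col x ∘ e)
  have hval : ∀ x y, polar Q (v x) (v y) = if x = y then c * eps ^ s else 0 := fun x y => by
    show polar Q ((P : Matrix ι ι F) *ᵥ (col x ∘ e)) ((P : Matrix ι ι F) *ᵥ (col y ∘ e)) = _
    rw [hform, hcol, hcol, formOfGram_mulVec, formOfGram_single]
    have hm : ((pureGL (fun _ : Fin s => C) : GL (Fin s → Fin 3) F).val)ᵀ *
        pure' (fun _ : Fin s => (S : Matrix (Fin 3) (Fin 3) F)) *
        ((pureGL (fun _ : Fin s => C) : GL (Fin s → Fin 3) F).val).map σ₀ =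
          pure' fun _ : Fin s => eps • (1 : Matrix (Fin 3) (Fin 3) F) := by
      rw [show ((pureGL (fun _ : Fin s => C) : GL (Fin s → Fin 3) F).val).map σ₀ =
        (pureGL (fun _ : Fin s => C) : GL (Fin s → Fin 3) F).val from Matrix.map_id _]
      simp only [pureGL]
      rw [AschbacherForm.pure'_transpose, pure'_mul, pure'_mul]
      simp only [hC]
    rw [hm]
    simp only [pure', Matrix.of_apply, Matrix.smul_apply, Matrix.one_apply, smul_eq_mul, mul_ite, mul_one, mul_zero]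
    by_cases hxy : x = y
    · subst hxy; simp
    · rw [if_neg hxy]
      obtain ⟨i, hi⟩ := Function.ne_iff.1 hxy
      rw [Finset.prod_eq_zero (Finset.mem_univ i) (if_neg hi), mul_zero]
  have hQv : ∀ x, Q (v x) = c * eps ^ s / 2 := fun x => by
    rw [eq_div_iff h2, mul_comm, ← polar_self' Q, hval, if_pos rfl]
  have hne : ∀ x, Q (v x) ≠ 0 := fun x => by
    rw [hQv]; exact div_ne_zero (mul_ne_zero hc (pow_ne_zero _ hS0)) h2
  have hv0 : ∀ x, v x ≠ 0 := fun x h0 => hne x (by rw [h0, QuadraticMap.map_zero])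
  have hmove : ∀ g ∈ H, ∀ x, ∃ (x' : Fin s → Fin 3) (a : F), (g : Matrix ι ι F) *ᵥ v x = a • v x' := by
    intro g hg x
    obtain ⟨π, A, hA, hsim⟩ := hdec g hg
    have hmon : ∀ i, ∃ (q : Fin 3) (a : F), ∀ r,
        ((A i : Matrix (Fin 3) (Fin 3) F) * (C : Matrix (Fin 3) (Fin 3) F)) r (x i) =
          a * (C : Matrix (Fin 3) (Fin 3) F) r q := fun i => by
      obtain ⟨a, ha⟩ := hsim i
      set B : GL (Fin 3) F := C⁻¹ * A i * C
      have hB : (B : Matrix (Fin 3) (Fin 3) F)ᵀ * (B : Matrix (Fin 3) (Fin 3) F) =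
          a • (1 : Matrix (Fin 3) (Fin 3) F) := by
        have ha' : (A i : Matrix (Fin 3) (Fin 3) F)ᵀ * (S : Matrix (Fin 3) (Fin 3) F) * (A i : Matrix (Fin 3) (Fin 3) F) =
          a • (S : Matrix (Fin 3) (Fin 3) F) := ha
        have hCi : eps • (1 : Matrix (Fin 3) (Fin 3) F) =
            (C : Matrix (Fin 3) (Fin 3) F)ᵀ * (S : Matrix (Fin 3) (Fin 3) F) * (C : Matrix (Fin 3) (Fin 3) F) := hC.symm
        refine smul_right_injective _ hS0 ?_
        show eps • _ = eps • _
        have e1 : eps • ((B : Matrix (Fin 3) (Fin 3) F)ᵀ * (B : Matrix (Fin 3) (Fin 3) F)) =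
            (B : Matrix (Fin 3) (Fin 3) F)ᵀ * (eps • (1 : Matrix (Fin 3) (Fin 3) F)) * (B : Matrix (Fin 3) (Fin 3) F) := by
          rw [Matrix.mul_smul, mul_one, Matrix.smul_mul]
        rw [e1, smul_comm eps a, hCi]
        simp only [B, Units.val_mul, Matrix.transpose_mul]
        calc _ = (C : Matrix (Fin 3) (Fin 3) F)ᵀ * ((A i : Matrix (Fin 3) (Fin 3) F)ᵀ *
              ((↑C⁻¹ : Matrix (Fin 3) (Fin 3) F)ᵀ * (C : Matrix (Fin 3) (Fin 3) F)ᵀ) * (S : Matrix (Fin 3) (Fin 3) F) *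
              ((C : Matrix (Fin 3) (Fin 3) F) * (↑C⁻¹ : Matrix (Fin 3) (Fin 3) F)) * (A i : Matrix (Fin 3) (Fin 3) F)) *
              (C : Matrix (Fin 3) (Fin 3) F) := by simp only [mul_assoc]
          _ = _ := by
            rw [← Matrix.transpose_mul, Units.mul_inv, Matrix.transpose_one, mul_one, mul_one, ha',
              Matrix.mul_smul, Matrix.smul_mul]
      obtain ⟨q, hq'⟩ := monomial_three hq hB ((Matrix.isUnit_iff_isUnit_det _).1 B.isUnit).ne_zero (x i)
      refine ⟨q, (B : Matrix (Fin 3) (Fin 3) F) q (x i), fun r => ?_⟩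
      rw [← Units.val_mul, show A i * C = C * B by simp only [B]; group, Units.val_mul, Matrix.mul_apply,
        Finset.sum_eq_single q (fun l _ hl => by rw [hq' l hl, mul_zero]) (by simp)]
      ring
    choose q a hqa using hmon
    refine ⟨fun j => q (π.symm j), ∏ i, a i, ?_⟩
    have hgv : (g : Matrix ι ι F) *ᵥ v x =
        (P : Matrix ι ι F) *ᵥ (((permGL π * pureGL A : GL (Fin s → Fin 3) F).val *ᵥ col x) ∘ e) := by
      rw [← hA]
      have hs' : ((glReindex e (P⁻¹ * g * P) : GL (Fin s → Fin 3) F).val) =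
          ((P⁻¹ * g * P : GL ι F) : Matrix ι ι F).submatrix e.symm e.symm := by simp [glReindex]
      rw [hs', Matrix.submatrix_mulVec_equiv]
      simp [v, Function.comp_assoc, Matrix.mulVec_mulVec, ← mul_assoc]
    rw [hgv]
    show _ = (∏ i, a i) • ((P : Matrix ι ι F) *ᵥ (col (fun j => q (π.symm j)) ∘ e))
    rw [← Matrix.mulVec_smul]
    congr 1
    rw [Units.val_mul, ← Matrix.mulVec_mulVec, hcol x, Matrix.mulVec_mulVec (M := (pureGL A).val)]
    funext z
    simp only [pureGL, pure'_mul, permGL, Function.comp_apply, Pi.smul_apply, smul_eq_mul]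
    rw [Matrix.mulVec, dotProduct, Finset.sum_eq_single (e z ∘ π)]
    · simp only [Matrix.of_apply, if_true, one_mul, Matrix.mulVec_single, MulOpposite.op_one, one_smul,
        Matrix.col_apply, pure', Function.comp_apply, hqa, Finset.prod_mul_distrib, col]
      congr 1
      rw [← Equiv.prod_comp π.symm]
      simp
    · intro w _ hw; simp [hw]
    · simp
  let E : Fin (Fintype.card ι) ≃ (Fin s → Fin 3) := (Fintype.equivFin ι).symm.trans e
  let D : Fin (Fintype.card ι) → Submodule F (ι → F) := fun j => Submodule.span F {v (E j)}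
  have hD : Pieces Q 1 D := ⟨fun j => finrank_span_singleton (hv0 _), fun j => nondeg_line h2 (hne _),
    fun i j hij u hu w hw => by
      obtain ⟨a, rfl⟩ := Submodule.mem_span_singleton.1 hu
      obtain ⟨a', rfl⟩ := Submodule.mem_span_singleton.1 hw
      rw [polar_smul_left', polar_smul_right', hval, if_neg (fun h => hij (E.injective h)), mul_zero, mul_zero]⟩
  have hn2 : 2 ≤ Fintype.card ι := by
    rw [Fintype.card_congr e, Fintype.card_fun, Fintype.card_fin, Fintype.card_fin]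
    exact le_trans (by norm_num) (Nat.pow_le_pow_right (show 0 < 3 by norm_num) hs)
  have hdec' := hD.decomp hn2 one_pos (mul_one _)
  refine ⟨D, ⟨hdec', fun i j => ?_⟩, fun g hg => ?_⟩
  · refine ⟨(LinearEquiv.toSpanNonzeroSingleton F _ _ (hv0 (E i))).symm.trans
      (LinearEquiv.toSpanNonzeroSingleton F _ _ (hv0 (E j))), fun w => ?_⟩
    obtain ⟨a, rfl⟩ := (LinearEquiv.toSpanNonzeroSingleton F _ _ (hv0 (E i))).surjective w
    rw [LinearEquiv.trans_apply, LinearEquiv.symm_apply_apply]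
    show Q (a • v (E j)) = Q (a • v (E i))
    rw [map_smul', map_smul', hQv, hQv]
  · choose f a hfa using fun j => hmove g hg (E j)
    have hginj : Function.Injective (Matrix.toLin' (g : Matrix ι ι F)) := fun u w huw => by
      have := congrArg ((↑g⁻¹ : Matrix ι ι F) *ᵥ ·) huw
      simpa [Matrix.toLin'_apply, Matrix.mulVec_mulVec] using this
    have hmap : ∀ j, (D j).map (Matrix.toLin' (g : Matrix ι ι F)) = D (E.symm (f j)) := fun j => by
      have ha : a j ≠ 0 := fun h0 => hv0 (E j) (hginj (by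
        rw [Matrix.toLin'_apply, hfa, h0, zero_smul, map_zero]))
      show (Submodule.span F {v (E j)}).map _ = Submodule.span F {v (E (E.symm (f j)))}
      rw [Submodule.map_span, Set.image_singleton, Matrix.toLin'_apply, hfa, Equiv.apply_symm_apply,
        Submodule.span_singleton_smul_eq (IsUnit.mk0 _ ha)]
    have hinj : Function.Injective fun j => E.symm (f j) := fun i j hij => by
      by_contra hne'
      have hd : D i = D j := Submodule.map_injective_of_injective hginj (by rw [hmap, hmap]; exact congrArg D hij)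
      have h1 := hD.orth i j hne' (v (E i)) (Submodule.mem_span_singleton_self _) (v (E i))
        (hd ▸ Submodule.mem_span_singleton_self _)
      rw [polar_self'] at h1
      exact mul_ne_zero h2 (hne _) h1
    exact ⟨Equiv.ofBijective _ (Finite.injective_iff_bijective.1 hinj), hmap⟩

/-- A transitive system of commuting factors in odd dimension. -/
theorem power_of_factors (hQ : (polarBilin Q).Nondegenerate) (h2 : (2 : F) ≠ 0) (hodd : Odd (Fintype.card ι))
    (hn : 2 ≤ Fintype.card ι) {H : Subgroup (GL ι F)} (hH : H ≤ isometryGroup F ⇑Q) {d s : ℕ}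
    {φ : Fin s → (Matrix (Fin d) (Fin d) F →ₐ[F] Matrix ι ι F)} (h : AschbacherForm.Factors (H ⊔ scalars ι F) φ) :
    3 ≤ d ∧ 2 ≤ s ∧ Fintype.card ι = d ^ s ∧ PowerData Q H d s := by
  classical
  obtain ⟨J, hG⟩ := exists_geom hQ
  have hGs : H ⊔ scalars ι F ≤ similarityGroup (polar ⇑Q) :=
    sup_le (fun g hg => ⟨1, fun u v => by rw [Units.val_one, one_mul]; exact isom_polar (hH hg) u v⟩) hG.scalars_le
  obtain ⟨e, P, S, c, l, hc, hJ, hS, -, hdec, -⟩ := AschbacherForm.wreath_data hG hn hGs h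
  have hcard : Fintype.card ι = d ^ s := by rw [Fintype.card_congr e]; simp
  have hd := h.two_le_dim
  have hs := h.two_le_num
  have hdodd : Odd d := (Nat.odd_pow_iff (by omega)).1 (hcard ▸ hodd)
  replace hS : (S : Matrix (Fin d) (Fin d) F)ᵀ = l • (S : Matrix (Fin d) (Fin d) F) := hS
  rw [symm_of_odd hdodd hS, one_smul] at hS
  refine ⟨by obtain ⟨k, hk⟩ := hdodd; omega, hs, hcard, e, P, S, c, hc, hS, fun x y => ?_,
    fun g hg => hdec g (Subgroup.mem_sup_left hg)⟩
  rw [AschbacherForm.coord_form hG e P, hJ, formOfGram_smul]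

/-- A tensor factor in odd dimension. -/
theorem odd_tensor_cases (hQ : (polarBilin Q).Nondegenerate) (h2 : (2 : F) ≠ 0) (hodd : Odd (Fintype.card ι))
    (hn : 2 ≤ Fintype.card ι) {H : Subgroup (GL ι F)} (hH : H ≤ isometryGroup F ⇑Q)
    (h : AschbacherForm.TensorExt (polar ⇑Q) H) :
    (∃ (n₁ n₂ : ℕ) (e : ι ≃ Fin n₁ × Fin n₂) (P : GL ι F) (f₁ : (Fin n₁ → F) → (Fin n₁ → F) → F)
      (f₂ : (Fin n₂ → F) → (Fin n₂ → F) → F), 3 ≤ n₁ ∧ n₁ < n₂ ∧ IsSymmetricForm f₁ ∧ IsSymmetricForm f₂ ∧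
        IsTensorFormStructure id (polar ⇑Q) f₁ f₂ e P ∧ H ≤ tensorProductSubgroup n₁ n₂ e P) ∨
    (∃ d, 3 ≤ d ∧ Fintype.card ι = d ^ 2 ∧ PowerData Q H d 2) := by
  classical
  obtain ⟨J, hG⟩ := exists_geom hQ
  obtain ⟨d, k, e, P, S, T, l, μ, hd, hk, hJ, hS, hT, -, hdec⟩ :=
    AschbacherForm.tensor_data hG hn (fun g hg => isom_polar (hH hg)) h
  have hcard : Fintype.card ι = d * k := by simpa using Fintype.card_congr e
  have hdodd : Odd d := (Nat.odd_mul.1 (hcard ▸ hodd)).1
  have hkodd : Odd k := (Nat.odd_mul.1 (hcard ▸ hodd)).2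
  replace hS : (S : Matrix (Fin d) (Fin d) F)ᵀ = l • (S : Matrix (Fin d) (Fin d) F) := hS
  replace hT : (T : Matrix (Fin k) (Fin k) F)ᵀ = μ • (T : Matrix (Fin k) (Fin k) F) := hT
  rw [symm_of_odd hdodd hS, one_smul] at hS
  rw [symm_of_odd hkodd hT, one_smul] at hT
  have hd3 : 3 ≤ d := by obtain ⟨a, ha⟩ := hdodd; omega
  have hk3 : 3 ≤ k := by obtain ⟨a, ha⟩ := hkodd; omega
  have member : ∀ {n₁ n₂ : ℕ}, 3 ≤ n₁ → n₁ < n₂ → ∀ (e : ι ≃ Fin n₁ × Fin n₂) (S : GL (Fin n₁) F) (T : GL (Fin n₂) F),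
      coordJ σ₀ e P J = kronGL S T → (S : Matrix (Fin n₁) (Fin n₁) F)ᵀ = (S : Matrix (Fin n₁) (Fin n₁) F) →
      (T : Matrix (Fin n₂) (Fin n₂) F)ᵀ = (T : Matrix (Fin n₂) (Fin n₂) F) →
      (∀ g ∈ H, ∃ (A : GL (Fin n₁) F) (B : GL (Fin n₂) F),
        coordR e P (g : Matrix ι ι F) = (kronGL A B : Matrix (Fin n₁ × Fin n₂) (Fin n₁ × Fin n₂) F)) →
      ∃ (n₁ n₂ : ℕ) (e : ι ≃ Fin n₁ × Fin n₂) (P : GL ι F) (f₁ : (Fin n₁ → F) → (Fin n₁ → F) → F)
        (f₂ : (Fin n₂ → F) → (Fin n₂ → F) → F), 3 ≤ n₁ ∧ n₁ < n₂ ∧ IsSymmetricForm f₁ ∧ IsSymmetricForm f₂ ∧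
          IsTensorFormStructure id (polar ⇑Q) f₁ f₂ e P ∧ H ≤ tensorProductSubgroup n₁ n₂ e P :=
    fun {n₁ n₂} h3 hlt e S T hJ hS hT hdec => ⟨n₁, n₂, e, P, _, _, h3, hlt, symmetric_of_gram S hS,
      symmetric_of_gram T hT, ⟨1, one_ne_zero, fun x y => by
        rw [one_mul, AschbacherForm.gramMatrix_formOfGram, AschbacherForm.gramMatrix_formOfGram,
          AschbacherForm.coord_form hG e P, hJ]
        rfl⟩,
      fun g hg => by
        obtain ⟨A, B, hAB⟩ := hdec g hg
        exact AschbacherForm.mem_of_coord e P (kroneckerSubgroup n₁ n₂ F) (kronGL A B) ⟨A, B, rfl⟩ hAB⟩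
  rcases lt_trichotomy d k with hlt | rfl | hgt
  · exact Or.inl (member hd3 hlt e S T hJ hS hT fun g hg => by
      obtain ⟨A, B, a, b, h1, -⟩ := hdec g hg
      exact ⟨A, B, h1⟩)
  · refine Or.inr ⟨d, hd3, by rw [hcard, _root_.sq], power_of_pair h2 hG hdodd e P S T hJ hS hT fun g hg => ?_⟩
    obtain ⟨A, B, a, b, h1, h2', h3, -⟩ := hdec g hg
    exact ⟨A, B, a, b, h1, h2', h3⟩
  · exact Or.inl (member hk3 hgt (e.trans (Equiv.prodComm _ _)) T S (AschbacherForm.coordJ_swap σ₀ e P J S T hJ) hT hS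
      fun g hg => by
        obtain ⟨A, B, a, b, h1, -⟩ := hdec g hg
        exact ⟨B, A, AschbacherForm.coordR_swap e P _ A B h1⟩)

end CfsgLib.AschbacherOrth
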