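import Cfsg.Agent.Lib.AschbacherOrth.SymThreeFour
import Cfsg.Agent.Lib.AschbacherOrth.FourSquare
import Cfsg.Agent.Lib.AschbacherOrth.Ten
import Cfsg.Agent.Lib.AschbacherOrth.Eight

/-!
# Tensor products in dimension twelve, plus type

A symmetric product of dimensions three and four of plus type is an alternating product of dimensions two and six;
over the field of order two an alternating product with a factor of dimension two is imprimitive or semilinear.
-/

set_option autoImplicit false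
set_option linter.unusedSectionVars false
set_option linter.style.show false

namespace CfsgLib.AschbacherOrth

open QuadraticMap Cfsg Cfsg.Geo CfsgLib.Geometry CfsgLib.Aschbacher
open CfsgLib.AschbacherForm (Geom IsSim coordR coordJ kronGL)
open scoped Matrix MatrixGroups Kronecker

universe u
variable {F : Type u} [Field F] [Fintype F] {ι : Type} [Fintype ι] [DecidableEq ι]
variable {Q : QuadraticForm F (ι → F)}

local notation "σ₀" => RingEquiv.refl F

theorem det_eq_one_of_omega {g : GL ι F} (hg : g ∈ omegaGL ⇑Q) : (g : Matrix ι ι F).det = 1 := by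
  rw [omegaGL_eq_map] at hg
  obtain ⟨x, hx, rfl⟩ := hg
  exact congrArg Units.val
    (Abelianization.commutator_subset_ker ((Matrix.GeneralLinearGroup.det (n := ι) (R := F)).comp (orthToGL Q)) hx)

/-- Over the field of order two, an alternating product with a factor of dimension two. -/
theorem alt_two_two (hq : Fintype.card F = 2) (hQ : (polarBilin Q).Nondegenerate) {H : Subgroup (GL ι F)}
    (hH : H ≤ isometryGroup F ⇑Q) (hirr : Irred H) (hι : Fintype.card ι = 12) (h : AltTensor Q H) :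
    AschbacherForm.Imprimitive (polar ⇑Q) H ∨ AschbacherForm.FieldExt (polar ⇑Q) H := by
  classical
  obtain ⟨d, k, e, P, S, T, hd, hdk, hde, hke, hS, hT, ⟨c, hc, hform⟩, -, hdec⟩ := h
  have hcard : 12 = d * k := by rw [← hι]; simpa using Fintype.card_congr e
  obtain rfl : d = 2 := by
    obtain ⟨a, rfl⟩ := hde
    obtain ⟨b, rfl⟩ := hke
    by_contra hne
    have : 2 ≤ a := by omega
    have : 3 ≤ b := by omega
    nlinarith
  haveI : Nonempty (Fin k) := ⟨⟨0, by omega⟩⟩
  have h01 : ∀ x : F, x = 0 ∨ x = 1 := fun x => by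
    rcases eq_or_ne x 0 with h | h
    · exact Or.inl h
    · have := pow_card_pred h
      rw [hq, pow_one] at this
      exact Or.inr this
  have h2 : (2 : F) = 0 := by
    have := FiniteField.cast_card_eq_zero F
    rwa [hq] at this
  have hneg : ∀ x : F, -x = x := fun x => by rw [neg_eq_iff_add_eq_zero, ← two_mul, h2, zero_mul]
  have hskew : ∀ {p : ℕ} (R : GL (Fin p) F), IsSymplecticForm (formOfGram σ₀ (R : Matrix (Fin p) (Fin p) F)) →
      (R : Matrix (Fin p) (Fin p) F)ᵀ = (R : Matrix (Fin p) (Fin p) F) ∧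
        ∀ i, (R : Matrix (Fin p) (Fin p) F) i i = 0 := fun R hR => by
    refine ⟨Matrix.ext fun i j => ?_, fun i => ?_⟩
    · rw [Matrix.transpose_apply, ← formOfGram_single σ₀ (R : Matrix (Fin _) (Fin _) F) j i, hR.skew, formOfGram_single, hneg]
    · rw [← formOfGram_single σ₀ (R : Matrix (Fin _) (Fin _) F) i i]; exact hR.alternating _
  obtain ⟨hSt, hSd⟩ := hskew S hS
  obtain ⟨hTt, -⟩ := hskew T hT
  have hS01 : (S : Matrix (Fin 2) (Fin 2) F) 0 1 = 1 ∧ (S : Matrix (Fin 2) (Fin 2) F) 1 0 = 1 := by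
    have e1 : (S : Matrix (Fin 2) (Fin 2) F) 1 0 = (S : Matrix (Fin 2) (Fin 2) F) 0 1 := congrFun (congrFun hSt 0) 1
    refine ⟨(h01 _).resolve_left fun h0 => ?_, e1 ▸ (h01 _).resolve_left fun h0 => ?_⟩ <;>
      exact ((Matrix.isUnit_iff_isUnit_det _).1 S.isUnit).ne_zero
        (by rw [Matrix.det_fin_two, hSd, h0]; simp)
  obtain ⟨J, hG⟩ := exists_geom hQ
  have hJ : coordJ σ₀ e P J = kronGL S T := by
    refine Units.ext (Matrix.ext fun x y => ?_)
    have h1 := hform (Pi.single x 1) (Pi.single y 1)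
    rw [AschbacherForm.coord_form hG e P, formOfGram_single, (h01 c).resolve_left hc, one_mul,
      AschbacherForm.gramMatrix_formOfGram, AschbacherForm.gramMatrix_formOfGram] at h1
    rw [h1, AschbacherForm.kronGL_val]
    exact formOfGram_single σ₀ _ x y
  refine two_factor_stable hQ hG hH hirr e P hJ hTt !![0, 1; 1, 1] (fun a ha => ?_) ⟨1, 1, ?_⟩ fun g hg => ?_
  · have := congrFun (congrFun ha 0) 1
    simp at this
  · ext i j
    fin_cases i <;> fin_cases j <;>
      simp [Matrix.mul_apply, Fin.sum_univ_two, hSd, hS01.1, hS01.2] <;> linear_combination -h2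
  · obtain ⟨A, B, hAB⟩ := hdec g hg
    set w : Matrix (Fin 2) (Fin 2) F := !![0, 1; 1, 1] with hw
    have hww : w * w = w + 1 := by
      ext i j
      fin_cases i <;> fin_cases j <;> simp [w, Matrix.mul_apply, Fin.sum_univ_two]
    have hX := congrArg (cj A) hww
    rw [map_mul, map_add, map_one] at hX
    refine ⟨A, B, hAB, ?_⟩
    obtain ⟨X, hXdef⟩ : ∃ X, cj A w = X := ⟨_, rfl⟩
    rw [hXdef] at hX ⊢
    have e00 := congrFun (congrFun hX 0) 0
    have e01 := congrFun (congrFun hX 0) 1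
    have e10 := congrFun (congrFun hX 1) 0
    have e11 := congrFun (congrFun hX 1) 1
    simp [Matrix.mul_apply, Fin.sum_univ_two] at e00 e01 e10 e11
    rcases h01 (X 0 1) with hb | hb
    · exfalso
      rw [hb] at e00
      rcases h01 (X 0 0) with ha | ha <;> rw [ha] at e00 <;> simp [h2, ← two_mul] at e00
    rw [hb] at e00 e01 e11
    rcases h01 (X 1 0) with hc' | hc'
    · exfalso
      rw [hc'] at e00
      rcases h01 (X 0 0) with ha | ha <;> rw [ha] at e00 <;> simp [h2, ← two_mul] at e00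
    refine ⟨X 0 0, 1, Matrix.ext fun i j => ?_⟩
    fin_cases i <;> fin_cases j <;> simp [w, hb, hc']
    linear_combination e01 - (X 0 0) * h2

/-- A symmetric product of dimensions three and four of plus type is an alternating product. -/
theorem alt_of_sym (h2 : (2 : F) ≠ 0) (hQ : (polarBilin Q).Nondegenerate) (hplus : IsPlusTypeOn ⇑Q ⊤)
    {H : Subgroup (GL ι F)} (hH : H ≤ omegaGL ⇑Q) (e : ι ≃ Fin 3 × Fin 4) (P : GL ι F) (S : GL (Fin 3) F)
    (T : GL (Fin 4) F) (hS : (S : Matrix (Fin 3) (Fin 3) F)ᵀ = (S : Matrix (Fin 3) (Fin 3) F))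
    (hT : (T : Matrix (Fin 4) (Fin 4) F)ᵀ = (T : Matrix (Fin 4) (Fin 4) F))
    (hform : ∀ x y, polar Q ((P : Matrix ι ι F) *ᵥ (x ∘ e)) ((P : Matrix ι ι F) *ᵥ (y ∘ e)) =
      formOfGram σ₀ ((S : Matrix (Fin 3) (Fin 3) F) ⊗ₖ (T : Matrix (Fin 4) (Fin 4) F)) x y)
    (hdec : ∀ g ∈ H, ∃ (A : GL (Fin 3) F) (B : GL (Fin 4) F) (a b : F),
      coordR e P (g : Matrix ι ι F) = (kronGL A B : Matrix (Fin 3 × Fin 4) (Fin 3 × Fin 4) F) ∧
      IsSim σ₀ (S : Matrix (Fin 3) (Fin 3) F) (A : Matrix (Fin 3) (Fin 3) F) a ∧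
      IsSim σ₀ (T : Matrix (Fin 4) (Fin 4) F) (B : Matrix (Fin 4) (Fin 4) F) b ∧ a * b = 1) :
    AltTensor Q H := by
  classical
  have hmap : ∀ {κ : Type} (M : Matrix κ κ F), M.map σ₀ = M := fun M => Matrix.map_id _
  have hdS := ((Matrix.isUnit_iff_isUnit_det _).1 S.isUnit).ne_zero
  have hdT := ((Matrix.isUnit_iff_isUnit_det _).1 T.isUnit).ne_zero
  -- the discriminant
  have hTsq : IsSquare (T : Matrix (Fin 4) (Fin 4) F).det := by
    let L : (ι → F) ≃ₗ[F] (ι → F) := Matrix.toLin'OfInv (M := (↑P⁻¹ : Matrix ι ι F)) (M' := (P : Matrix ι ι F))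
      (by simp) (by simp)
    let b : Module.Basis ι F (⊤ : Submodule F (ι → F)) :=
      (Pi.basisFun F ι).map (L.trans Submodule.topEquiv.symm)
    have htop : IsNondegenerateOn (polar ⇑Q) (⊤ : Submodule F (ι → F)) := fun v _ hv => by
      obtain ⟨⟨x, hx⟩, y, hy⟩ := polar_nondeg hQ v hv
      exact ⟨⟨x, trivial, hx⟩, y, trivial, hy⟩
    have hp := (plus_iff_gram h2 htop b (m := 6) (by simp [Fintype.card_congr e])).1 hplus
    have hbi : ∀ i, (b i : ι → F) = (P : Matrix ι ι F) *ᵥ (Pi.single (e i) (1 : F) ∘ e) := fun i => by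
      rw [show (Pi.single (e i) (1 : F) : Fin 3 × Fin 4 → F) ∘ e = Pi.single i 1 from funext fun l => by
        simp [Pi.single_apply]]
      simp [b, L, Matrix.toLin'OfInv]
    have hG : (gram Q fun i => (b i : ι → F)) =
        ((S : Matrix (Fin 3) (Fin 3) F) ⊗ₖ (T : Matrix (Fin 4) (Fin 4) F)).submatrix e e := by
      ext i j
      simp only [gram, Matrix.of_apply, Matrix.submatrix_apply, hbi, hform, formOfGram_single]
    rw [hG, Matrix.det_submatrix_equiv_self, Matrix.det_kronecker, Fintype.card_fin, Fintype.card_fin] at hp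
    obtain ⟨r, hr⟩ := hp
    refine ⟨r / ((T : Matrix (Fin 4) (Fin 4) F).det * (S : Matrix (Fin 3) (Fin 3) F).det ^ 2), ?_⟩
    field_simp
    linear_combination hr
  obtain ⟨f, -⟩ : ∃ f : Fin 4 ≃ Fin 2 × Fin 2, True := ⟨(finProdFinEquiv : Fin 2 × Fin 2 ≃ Fin (2 * 2)).symm, trivial⟩
  set D : Matrix (Fin 4) (Fin 4) F := (omega2 F ⊗ₖ omega2 F).submatrix f f with hD
  have hwt : (omega2 F)ᵀ = -omega2 F := by
    ext i j
    fin_cases i <;> fin_cases j <;> simp [omega2]
  have hwdet : (omega2 F).det = 1 := by simp [omega2, Matrix.det_fin_two]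
  have hDt : Dᵀ = D := by
    rw [hD, Matrix.transpose_submatrix, ← Matrix.kroneckerMap_transpose, hwt]
    congr 1
    ext p q
    simp [Matrix.kronecker_apply]
  have hDd : D.det = 1 := by
    rw [hD, Matrix.det_submatrix_equiv_self, Matrix.det_kronecker, hwdet, one_pow, one_mul]
  obtain ⟨C, hC⟩ : GraphPSL.Congr (T : Matrix (Fin 4) (Fin 4) F) D :=
    GraphPSL.congr_of_disc h2 hT hDt hdT (by rw [hDd]; exact one_ne_zero) (by rw [hDd, mul_one]; exact hTsq)
  -- new coordinates
  let π : Fin 3 × Fin 4 ≃ Fin 2 × Fin 6 :=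
    { toFun := fun x => ((f x.2).1, finProdFinEquiv (x.1, (f x.2).2))
      invFun := fun y => ((finProdFinEquiv.symm y.2 : Fin 3 × Fin 2).1,
        f.symm (y.1, (finProdFinEquiv.symm y.2 : Fin 3 × Fin 2).2))
      left_inv := fun x => by simp
      right_inv := fun y => by simp }
  let K : GL (Fin 3 × Fin 4) F := kronGL 1 C
  let P' : GL ι F := P * glReindex e.symm K
  let W : GL (Fin 2) F := (omega2_unit (F := F)).unit
  let T' : GL (Fin 6) F := glReindex (finProdFinEquiv : Fin 3 × Fin 2 ≃ Fin 6) (kronGL S W)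
  have hW : (W : Matrix (Fin 2) (Fin 2) F) = omega2 F := IsUnit.unit_spec _
  have hT' : (T' : Matrix (Fin 6) (Fin 6) F) = ((S : Matrix (Fin 3) (Fin 3) F) ⊗ₖ omega2 F).submatrix
      finProdFinEquiv.symm finProdFinEquiv.symm := by
    simp [T', glReindex, hW, AschbacherForm.kronGL_val]
  have hsW : IsSymplecticForm (formOfGram σ₀ (W : Matrix (Fin 2) (Fin 2) F)) :=
    symplectic_of_gram W.isUnit (by rw [hW, hwt]) fun i => by rw [hW]; fin_cases i <;> simp [omega2]
  have hsT : IsSymplecticForm (formOfGram σ₀ (T' : Matrix (Fin 6) (Fin 6) F)) :=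
    symplectic_of_gram T'.isUnit (by
      rw [hT', Matrix.transpose_submatrix, ← Matrix.kroneckerMap_transpose, hwt, hS]
      ext p q
      simp [Matrix.kronecker_apply]) fun i => by
        rw [hT', Matrix.submatrix_apply, Matrix.kronecker_apply]
        generalize (finProdFinEquiv.symm i : Fin 3 × Fin 2).2 = b
        fin_cases b <;> simp [omega2]
  have hform' : ∀ x y, polar Q ((P' : Matrix ι ι F) *ᵥ (x ∘ e.trans π)) ((P' : Matrix ι ι F) *ᵥ (y ∘ e.trans π)) =
      formOfGram σ₀ ((W : Matrix (Fin 2) (Fin 2) F) ⊗ₖ (T' : Matrix (Fin 6) (Fin 6) F)) x y := by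
    intro x y
    have hR : ∀ z : Fin 2 × Fin 6 → F, (P' : Matrix ι ι F) *ᵥ (z ∘ e.trans π) =
        (P : Matrix ι ι F) *ᵥ (((K : Matrix (Fin 3 × Fin 4) (Fin 3 × Fin 4) F) *ᵥ (z ∘ π)) ∘ e) := fun z => by
      rw [show (P' : Matrix ι ι F) = (P : Matrix ι ι F) * (K : Matrix (Fin 3 × Fin 4) (Fin 3 × Fin 4) F).submatrix e e
        by simp [P', glReindex], ← Matrix.mulVec_mulVec, Matrix.submatrix_mulVec_equiv]
      congr 3
      funext l
      simp
    rw [hR, hR, hform, formOfGram_mulVec, hmap]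
    have hK : (K : Matrix (Fin 3 × Fin 4) (Fin 3 × Fin 4) F)ᵀ *
        ((S : Matrix (Fin 3) (Fin 3) F) ⊗ₖ (T : Matrix (Fin 4) (Fin 4) F)) *
          (K : Matrix (Fin 3 × Fin 4) (Fin 3 × Fin 4) F) = (S : Matrix (Fin 3) (Fin 3) F) ⊗ₖ D := by
      rw [show (K : Matrix (Fin 3 × Fin 4) (Fin 3 × Fin 4) F) = (1 : Matrix (Fin 3) (Fin 3) F) ⊗ₖ (C : Matrix (Fin 4) (Fin 4) F)
        from rfl, ← Matrix.kroneckerMap_transpose, ← Matrix.mul_kronecker_mul, ← Matrix.mul_kronecker_mul,
        Matrix.transpose_one, one_mul, mul_one, hC]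
    rw [hK, hW, hT']
    simp only [formOfGram, RingEquiv.refl_apply]
    refine Fintype.sum_equiv π _ _ fun a => Fintype.sum_equiv π _ _ fun b => ?_
    simp only [Function.comp_apply, hD, Matrix.submatrix_apply, π, Equiv.coe_fn_mk, Matrix.kroneckerMap_apply,
      Equiv.symm_apply_apply]
    ring
  refine ⟨2, 6, e.trans π, P', W, T', le_rfl, by norm_num, even_two, ⟨3, rfl⟩, hsW, hsT,
    ⟨1, one_ne_zero, fun x y => ?_⟩, fun x y => ?_, fun g hg => ?_⟩
  · rw [one_mul, AschbacherForm.gramMatrix_formOfGram, AschbacherForm.gramMatrix_formOfGram, hform']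
    rfl
  · refine (mul_eq_zero.1 (show (2 : F) * Q (pureVec (e.trans π) P' x y) = 0 from ?_)).resolve_left h2
    rw [← polar_self', pureVec, hform', formOfGram_kron, hsW.alternating, zero_mul]
  obtain ⟨A, B, a, b, hAB, hA, hB, hab⟩ := hdec g hg
  unfold IsSim at hA hB
  rw [hmap] at hA hB
  set dA := (A : Matrix (Fin 3) (Fin 3) F).det with hdA
  have hdA0 : dA ≠ 0 := ((Matrix.isUnit_iff_isUnit_det _).1 A.isUnit).ne_zero
  have ha0 : a ≠ 0 := left_ne_zero_of_mul_eq_one hab
  have hdA2 : dA * dA = a ^ 3 := by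
    have h1 := congrArg Matrix.det hA
    rw [Matrix.det_mul, Matrix.det_mul, Matrix.det_transpose, Matrix.det_smul, Fintype.card_fin, ← hdA] at h1
    exact mul_right_cancel₀ hdS (by linear_combination h1)
  set s := dA / a with hs
  have hs0 : s ≠ 0 := div_ne_zero hdA0 ha0
  have hss : s * s * b = 1 := by
    rw [hs]
    field_simp
    linear_combination b * hdA2 + a ^ 2 * hab
  set B' : GL (Fin 4) F := C⁻¹ * B * C with hB'def
  have hB' : (B' : Matrix (Fin 4) (Fin 4) F)ᵀ * D * (B' : Matrix (Fin 4) (Fin 4) F) = b • D := by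
    rw [← hC, hB'def]
    simp only [Units.val_mul, Matrix.transpose_mul]
    calc _ = (C : Matrix (Fin 4) (Fin 4) F)ᵀ * ((B : Matrix (Fin 4) (Fin 4) F)ᵀ *
          ((↑C⁻¹ : Matrix (Fin 4) (Fin 4) F)ᵀ * (C : Matrix (Fin 4) (Fin 4) F)ᵀ) * (T : Matrix (Fin 4) (Fin 4) F) *
          ((C : Matrix (Fin 4) (Fin 4) F) * (↑C⁻¹ : Matrix (Fin 4) (Fin 4) F)) * (B : Matrix (Fin 4) (Fin 4) F)) *
          (C : Matrix (Fin 4) (Fin 4) F) := by simp only [mul_assoc]
      _ = _ := by
        rw [← Matrix.transpose_mul, Units.mul_inv, Matrix.transpose_one, mul_one, mul_one, hB, Matrix.mul_smul,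
          Matrix.smul_mul]
  set M : Matrix (Fin 2 × Fin 2) (Fin 2 × Fin 2) F := (s • (B' : Matrix (Fin 4) (Fin 4) F)).submatrix f.symm f.symm
    with hMdef
  have hM : Mᵀ * (omega2 F ⊗ₖ omega2 F) * M = omega2 F ⊗ₖ omega2 F := by
    have e1 : omega2 F ⊗ₖ omega2 F = D.submatrix f.symm f.symm := by
      rw [hD, Matrix.submatrix_submatrix]; simp
    rw [e1, hMdef, Matrix.transpose_submatrix, Matrix.submatrix_mul_equiv, Matrix.submatrix_mul_equiv]
    congr 1
    rw [Matrix.transpose_smul, Matrix.smul_mul, Matrix.mul_smul, Matrix.smul_mul, smul_smul, hB', smul_smul, hss,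
      one_smul]
  have hMd : M.det = 1 := by
    have h1 : M.det * M.det = 1 := by
      have := congrArg Matrix.det hM
      rw [Matrix.det_mul, Matrix.det_mul, Matrix.det_transpose, Matrix.det_kronecker, hwdet, one_pow, one_mul] at this
      linear_combination this
    have hgd := det_eq_one_of_omega (hH hg)
    have h3 : (coordR e P (g : Matrix ι ι F)).det = 1 := by
      rw [AschbacherForm.coordR_apply, Matrix.det_submatrix_equiv_self, Matrix.det_mul_right_comm,
        Units.inv_mul, one_mul, hgd]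
    rw [hAB, AschbacherForm.kronGL_val, Matrix.det_kronecker, Fintype.card_fin, Fintype.card_fin, ← hdA] at h3
    have h4 : (B' : Matrix (Fin 4) (Fin 4) F).det = (B : Matrix (Fin 4) (Fin 4) F).det := by
      rw [hB'def, Units.val_mul, Units.val_mul, Matrix.det_units_conj']
    have h5 : M.det = s ^ 4 * (B : Matrix (Fin 4) (Fin 4) F).det := by
      rw [hMdef, Matrix.det_submatrix_equiv_self, Matrix.det_smul, Fintype.card_fin, h4]
    have h6 : s ^ 12 = dA ^ 4 := by
      rw [hs, div_pow, div_eq_iff (pow_ne_zero _ ha0)]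
      linear_combination (dA ^ 4 * (dA ^ 6 + dA ^ 4 * a ^ 3 + dA ^ 2 * a ^ 6 + a ^ 9)) * hdA2
    have h7 : M.det ^ 3 = 1 := by rw [h5, mul_pow, ← pow_mul, h6, h3]
    calc M.det = M.det ^ 3 := by linear_combination -(M.det) * h1
      _ = 1 := h7
  obtain ⟨A₁, A₂, hM'⟩ := four_square h2 M hM hMd
  obtain ⟨A', hA'⟩ : ∃ A' : GL (Fin 3) F, (A' : Matrix (Fin 3) (Fin 3) F) = s⁻¹ • (A : Matrix (Fin 3) (Fin 3) F) :=
    ⟨sc (Units.mk0 s hs0)⁻¹ * A, by simp [sc_val]⟩
  refine ⟨A₁, glReindex (finProdFinEquiv : Fin 3 × Fin 2 ≃ Fin 6) (kronGL A' A₂), ?_⟩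
  have hcoord : coordR e P' (g : Matrix ι ι F) =
      (kronGL A B' : Matrix (Fin 3 × Fin 4) (Fin 3 × Fin 4) F) := by
    have h1 : glReindex e (P⁻¹ * g * P) = kronGL A B := Units.ext ((AschbacherForm.coordR_gl e P g).symm.trans hAB)
    have h2 : glReindex e (glReindex e.symm K) = K := Units.ext (by ext; simp [glReindex])
    rw [AschbacherForm.coordR_gl, show P'⁻¹ * g * P' = (glReindex e.symm K)⁻¹ * (P⁻¹ * g * P) * glReindex e.symm K by
      simp only [P']; group, map_mul, map_mul, map_inv, h1, h2]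
    simp only [K, Units.val_mul, AschbacherForm.kronGL_val, hB'def]
    rw [show ((kronGL (1 : GL (Fin 3) F) C)⁻¹ : GL (Fin 3 × Fin 4) F) = kronGL (1 : GL (Fin 3) F)⁻¹ C⁻¹ from rfl,
      AschbacherForm.kronGL_val, ← Matrix.mul_kronecker_mul, ← Matrix.mul_kronecker_mul, inv_one, Units.val_one,
      one_mul, mul_one]
  ext ⟨p, k⟩ ⟨q, l⟩
  have hc1 := congrFun (congrFun hcoord (π.symm (p, k))) (π.symm (q, l))
  rw [AschbacherForm.coordR_apply] at hc1 ⊢
  simp only [Matrix.submatrix_apply, Equiv.symm_trans_apply] at hc1 ⊢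
  rw [hc1]
  have hm := congrFun (congrFun hM' (p, (finProdFinEquiv.symm k : Fin 3 × Fin 2).2)) (q, (finProdFinEquiv.symm l : Fin 3 × Fin 2).2)
  simp only [hMdef, Matrix.submatrix_apply, Matrix.smul_apply, smul_eq_mul, Matrix.kronecker_apply] at hm
  simp [π, AschbacherForm.kronGL_val, glReindex, Matrix.kronecker_apply, hA']
  field_simp
  linear_combination ((A : Matrix (Fin 3) (Fin 3) F) (finProdFinEquiv.symm k : Fin 3 × Fin 2).1
    (finProdFinEquiv.symm l : Fin 3 × Fin 2).1) * hm

/-- The irreducible classes in dimension twelve and plus type. -/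
inductive TwelveClass (Q : QuadraticForm F (ι → F)) (H : Subgroup (GL ι F)) : Prop
  | decomp (t k : ℕ) (D : Fin t → Submodule F (ι → F)) (hD : IsOrthogonalMDecomposition ⇑Q k D)
      (htk : t * k = Fintype.card ι) (hle : H ≤ decompositionStabilizer D)
  | pair (k : ℕ) (D : Fin 2 → Submodule F (ι → F)) (hk : 2 * k = Fintype.card ι) (hD : IsMDecomposition k D)
      (hs : ∀ i, IsTotallySingularQuad ⇑Q (D i)) (hle : H ≤ decompositionStabilizer D)
  | field (r : ℕ) (K : Subalgebra F (Matrix ι ι F)) (hr : r.Prime) (hdvd : r ∣ Fintype.card ι)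
      (hK : IsFieldSubalgebra r K) (hle : H ≤ subalgebraNormalizer K)
  | altTensor (hq : 3 ≤ Fintype.card F) (h : AltTensor Q H)
  | subfield (h : SubfieldCase Q H)
  | residual (h : InOrthogonalResidualClass H)

theorem twelve_cases (hQ : (polarBilin Q).Nondegenerate) (hplus : IsPlusTypeOn ⇑Q ⊤)
    (hι : Fintype.card ι = 12) {H : Subgroup (GL ι F)} (hH : H ≤ omegaGL ⇑Q) (hirr : Irred H)
    (h : EvenClass Q H) : TwelveClass Q H := by
  classical
  have hI : H ≤ isometryGroup F ⇑Q := hH.trans (omega_le_isometry _)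
  haveI : Nonempty ι := Fintype.card_pos_iff.1 (by omega)
  cases h with
  | decomp t k D hD htk hle => exact .decomp t k D hD htk hle
  | pair k D hk hD hs hle => exact .pair k D hk hD hs hle
  | field r K hr hdvd hK _ hle => exact .field r K hr hdvd hK hle
  | altTensor h =>
    by_cases hq : 3 ≤ Fintype.card F
    · exact .altTensor hq h
    have hq2 : Fintype.card F = 2 := by
      have := Fintype.one_lt_card (α := F)
      omega
    rcases alt_two_two hq2 hQ hI hirr hι h with h | ⟨r, K, hr, hK, -, hle⟩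
    · rcases imprimitive_cases hI hirr (by omega) h with ⟨t, k, D, hD, hle⟩ | ⟨k, D, hk, hD, hs, hle⟩
      · exact .decomp t k D hD (decomp_card hD.decomp) hle
      · exact .pair k D hk hD hs hle
    · exact .field r K hr (dvd_card_of_field hK) hK hle
  | symTensor h =>
    obtain ⟨d, k, e, P, S, T, h2, hd, hdk, hS, hT, hform, hdec⟩ := h
    have hc : 12 = d * k := by rw [← hι]; simpa using Fintype.card_congr e
    obtain ⟨rfl, rfl⟩ : d = 3 ∧ k = 4 := by
      have : d ≤ 3 := by nlinarith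
      obtain rfl : d = 3 := by omega
      exact ⟨rfl, by omega⟩
    by_cases hq : Fintype.card F = 3
    · obtain ⟨D, hD, hle⟩ := frame_factor hQ hq hI (by norm_num) e P S T hS hform fun g hg => by
        obtain ⟨A, B, a, b, h1, h2', -⟩ := hdec g hg
        exact ⟨A, B, a, h1, h2'⟩
      exact .decomp 3 4 D hD (by rw [hι]) hle
    · refine .altTensor ?_ (alt_of_sym h2 hQ hplus hH e P S T hS hT hform hdec)
      have h1 := Nat.odd_iff.1 (odd_card_of_two_ne h2)
      have := Fintype.one_lt_card (α := F)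
      omega
  | abelian N h =>
    exfalso
    obtain ⟨-, ⟨m, -, hm⟩, -⟩ := abelian_cases hQ hI h
    rw [hι] at hm
    have : m < 4 := by
      by_contra hc
      have := Nat.pow_le_pow_right (show 0 < 2 by norm_num) (show 4 ≤ m by omega)
      omega
    interval_cases m <;> omega
  | factors d s φ h =>
    exfalso
    obtain ⟨J, hG⟩ := exists_geom hQ
    obtain ⟨e, -⟩ := AschbacherForm.wreath_data hG (by omega) (sup_le (fun g hg =>
      ⟨1, fun u v => by rw [Units.val_one, one_mul]; exact isom_polar (hI hg) u v⟩) hG.scalars_le) h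
    have hc : 12 = d ^ s := by rw [← hι]; simpa using Fintype.card_congr e
    have hd := h.two_le_dim
    have hs := h.two_le_num
    have hs4 : s < 4 := by
      by_contra hn
      have : 2 ^ 4 ≤ d ^ s := le_trans (Nat.pow_le_pow_left hd 4) (Nat.pow_le_pow_right (by omega) (by omega))
      omega
    have hd4 : d < 4 := by
      by_contra hn
      have : 4 ^ 2 ≤ d ^ s := le_trans (Nat.pow_le_pow_left (by omega) 2) (Nat.pow_le_pow_right (by omega) hs)
      omega
    interval_cases s <;> interval_cases d <;> norm_num at hc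
  | subfield h => exact .subfield h
  | residual h => exact .residual h

end CfsgLib.AschbacherOrth
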